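import Mathlib
import Cfsg.Prelude.Def_RootSubgroups

/-! A conjugation closed set of units any two of which generate a nilpotent augmentation algebra
generates one itself. -/

set_option autoImplicit false

namespace H98

open Pointwise

variable {k : Type*} [Field k] {E : Type*} [Ring E] [Algebra k E]

/-- The non-unital subalgebra generated by a set, as a submodule. -/
def adjNU (k : Type*) [Field k] {E : Type*} [Ring E] [Algebra k E] (X : Set E) : Submodule k E :=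
  (NonUnitalAlgebra.adjoin k X).toSubmodule

theorem subset_adjNU (X : Set E) : X ⊆ (adjNU k X : Set E) := fun _ hx =>
  NonUnitalAlgebra.subset_adjoin k hx

theorem adjNU_mul_le (X : Set E) : adjNU k X * adjNU k X ≤ adjNU k X :=
  Submodule.mul_le.2 fun _ ha _ hb => (NonUnitalAlgebra.adjoin k X).mul_mem ha hb

theorem adjNU_le {X : Set E} {L : Submodule k E} (hX : X ⊆ (L : Set E)) (hL : L * L ≤ L) :
    adjNU k X ≤ L := by
  intro x hx
  induction hx using NonUnitalAlgebra.adjoin_induction with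
  | mem y hy => exact hX hy
  | add y z _ _ hy hz => exact L.add_mem hy hz
  | zero => exact L.zero_mem
  | mul y z _ _ hy hz => exact hL (Submodule.mul_mem_mul hy hz)
  | smul r y _ hy => exact L.smul_mem r hy

/-- Some power of the submodule vanishes. -/
def IsNilSub (L : Submodule k E) : Prop := ∃ n : ℕ, L ^ (n + 1) = ⊥

theorem IsNilSub.mono {L L' : Submodule k E} (h : IsNilSub L) (hle : L' ≤ L) : IsNilSub L' := by
  obtain ⟨n, hn⟩ := h
  exact ⟨n, eq_bot_iff.2 ((pow_le_pow_left' hle (n + 1)).trans hn.le)⟩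

theorem sub_pow_le {L : Submodule k E} (hL : L * L ≤ L) {i j : ℕ} (h : i ≤ j) :
    L ^ (j + 1) ≤ L ^ (i + 1) := by
  induction h with
  | refl => exact le_rfl
  | step _ ih =>
    refine le_trans ?_ ih
    rename_i m _
    rw [pow_succ L (m + 1), pow_succ L m, mul_assoc]
    exact mul_le_mul_right hL _

/-- The inverse of `1 + u` lies in `1 + L`. -/
theorem inv_sub_one_mem {L : Submodule k E} (hL : L * L ≤ L) (hn : IsNilSub L) (g : Eˣ)
    (hg : (g : E) - 1 ∈ L) : ((g⁻¹ : Eˣ) : E) - 1 ∈ L := by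
  obtain ⟨n, hn⟩ := hn
  have e : ((g⁻¹ : Eˣ) : E) - 1 =
      -((g : E) - 1) - ((g : E) - 1) * (((g⁻¹ : Eˣ) : E) - 1) := by
    simp only [mul_sub, sub_mul, Units.mul_inv, mul_one, one_mul]
    abel
  have key : ∀ j : ℕ, ((g⁻¹ : Eˣ) : E) - 1 ∈ L ⊔ L ^ j * ⊤ := by
    intro j
    induction j with
    | zero =>
      refine Submodule.mem_sup_right ?_
      rw [pow_zero, one_mul]
      trivial
    | succ j ih =>
      rw [e]
      refine Submodule.sub_mem _ (Submodule.mem_sup_left (L.neg_mem hg)) ?_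
      have := Submodule.mul_mem_mul hg ih
      rw [Submodule.mul_sup, ← mul_assoc, ← pow_succ'] at this
      exact sup_le_sup_right hL _ this
  simpa [hn] using key (n + 1)

/-- Units congruent to `1` modulo a nilpotent subalgebra. -/
def oneAdd (L : Submodule k E) (hL : L * L ≤ L) (hn : IsNilSub L) : Subgroup Eˣ where
  carrier := {g | (g : E) - 1 ∈ L}
  one_mem' := by simp
  mul_mem' {a b} ha hb := by
    have e : ((a * b : Eˣ) : E) - 1 = ((a : E) - 1) * ((b : E) - 1) + ((a : E) - 1) + ((b : E) - 1) := by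
      simp only [Units.val_mul, mul_sub, sub_mul, mul_one, one_mul]
      abel
    show ((a * b : Eˣ) : E) - 1 ∈ L
    rw [e]
    exact L.add_mem (L.add_mem (hL (Submodule.mul_mem_mul ha hb)) ha) hb
  inv_mem' ha := inv_sub_one_mem hL hn _ ha

/-- The augmentation algebra of a set of units. -/
def augNU (k : Type*) [Field k] {E : Type*} [Ring E] [Algebra k E] (X : Set Eˣ) : Submodule k E :=
  adjNU k ((fun u : Eˣ => (u : E) - 1) '' X)

theorem mem_augNU {X : Set Eˣ} {x : Eˣ} (hx : x ∈ X) : (x : E) - 1 ∈ augNU k X :=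
  subset_adjNU _ ⟨x, hx, rfl⟩

theorem augNU_mul_le (X : Set Eˣ) : augNU k X * augNU k X ≤ augNU k X := adjNU_mul_le _

theorem augNU_mono {X Y : Set Eˣ} (h : X ⊆ Y) : augNU k X ≤ augNU k Y :=
  adjNU_le ((Set.image_mono h).trans (subset_adjNU _)) (adjNU_mul_le _)

theorem augNU_le {X : Set Eˣ} {L : Submodule k E} (hX : ∀ x ∈ X, (x : E) - 1 ∈ L)
    (hL : L * L ≤ L) : augNU k X ≤ L :=
  adjNU_le (by rintro _ ⟨x, hx, rfl⟩; exact hX x hx) hL

theorem conj_val_sub_one (z d : Eˣ) :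
    ((z * d * z⁻¹ : Eˣ) : E) - 1 = (z : E) * ((d : E) - 1) * ((z⁻¹ : Eˣ) : E) := by
  simp only [Units.val_mul, mul_sub, sub_mul, mul_one, Units.mul_inv]

theorem conj_mem_augNU {D : Set Eˣ} {z : Eˣ} (h : ∀ d ∈ D, z * d * z⁻¹ ∈ D) {x : E}
    (hx : x ∈ augNU k D) : (z : E) * x * ((z⁻¹ : Eˣ) : E) ∈ augNU k D := by
  let f : E →ₗ[k] E :=
    (LinearMap.mulRight k ((z⁻¹ : Eˣ) : E)).comp (LinearMap.mulLeft k (z : E))
  have hle : augNU k D ≤ (augNU k D).comap f := by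
    refine augNU_le (fun d hd => ?_) ?_
    · show (z : E) * ((d : E) - 1) * ((z⁻¹ : Eˣ) : E) ∈ augNU k D
      rw [← conj_val_sub_one]
      exact mem_augNU (h d hd)
    · refine Submodule.mul_le.2 fun a ha b hb => ?_
      show (z : E) * (a * b) * ((z⁻¹ : Eˣ) : E) ∈ augNU k D
      have e : (z : E) * (a * b) * ((z⁻¹ : Eˣ) : E) =
          ((z : E) * a * ((z⁻¹ : Eˣ) : E)) * ((z : E) * b * ((z⁻¹ : Eˣ) : E)) := by
        simp only [mul_assoc, Units.inv_mul_cancel_left]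
      rw [e]
      exact augNU_mul_le D (Submodule.mul_mem_mul ha hb)
  exact hle hx

/-- Joining a nilpotent augmentation algebra with normalising units. -/
theorem isNilSub_augNU_union {D Z : Set Eˣ} (hD : IsNilSub (augNU k D)) (hZ : IsNilSub (augNU k Z))
    (hconj : ∀ z ∈ Z, ∀ d ∈ D, z * d * z⁻¹ ∈ D) : IsNilSub (augNU k (D ∪ Z)) := by
  obtain ⟨L, hLdef⟩ : ∃ L, L = augNU k D := ⟨_, rfl⟩
  obtain ⟨P, hPdef⟩ : ∃ P, P = augNU k Z := ⟨_, rfl⟩
  obtain ⟨Γ, hΓdef⟩ : ∃ Γ : Submodule k E, Γ = 1 ⊔ P := ⟨_, rfl⟩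
  have hLL : L * L ≤ L := hLdef ▸ augNU_mul_le D
  have hPP : P * P ≤ P := hPdef ▸ augNU_mul_le Z
  have hΓΓ : Γ * Γ ≤ Γ := by
    rw [hΓdef, Submodule.sup_mul, Submodule.mul_sup, Submodule.mul_sup, one_mul, one_mul, mul_one]
    exact sup_le le_rfl (sup_le le_sup_right (hPP.trans le_sup_right))
  have h1Γ : (1 : Submodule k E) ≤ Γ := hΓdef ▸ le_sup_left
  have hPΓ : P ≤ Γ := hΓdef ▸ le_sup_right
  have hLle : L ≤ L * Γ := calc
    L = L * 1 := (mul_one L).symm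
    _ ≤ L * Γ := mul_le_mul_right h1Γ L
  have hz : ∀ z ∈ Z, ∀ x ∈ L, ((z : E) - 1) * x ∈ L * Γ := by
    intro z hzZ x hx
    have h1 : (z : E) * x * ((z⁻¹ : Eˣ) : E) ∈ L := by
      rw [hLdef] at hx ⊢; exact conj_mem_augNU (hconj z hzZ) hx
    have h2 : (z : E) ∈ Γ := by
      have e : (z : E) = 1 + ((z : E) - 1) := by abel
      rw [e, hΓdef, hPdef]
      exact Submodule.add_mem_sup (Submodule.one_le.1 le_rfl) (mem_augNU hzZ)
    have e : ((z : E) - 1) * x = (z : E) * x * ((z⁻¹ : Eˣ) : E) * (z : E) - x := by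
      simp only [mul_assoc, Units.inv_mul, mul_one, sub_mul, one_mul]
    rw [e]
    exact Submodule.sub_mem _ (Submodule.mul_mem_mul h1 h2) (hLle hx)
  have hPL : P * L ≤ L * Γ := by
    let Q : Submodule k E :=
      { carrier := {p | ∀ x ∈ L, p * x ∈ L * Γ}
        zero_mem' := fun x _ => by simp
        add_mem' := fun {a b} ha hb x hx => by
          rw [add_mul]; exact Submodule.add_mem _ (ha x hx) (hb x hx)
        smul_mem' := fun c a ha x hx => by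
          rw [smul_mul_assoc]; exact Submodule.smul_mem _ c (ha x hx) }
    have hQL : Q * L ≤ L * Γ := Submodule.mul_le.2 fun q hq x hx => hq x hx
    have hQQ : Q * Q ≤ Q := by
      refine Submodule.mul_le.2 fun a ha b hb x hx => ?_
      have h : Q * (L * Γ) ≤ L * Γ := calc
        Q * (L * Γ) = Q * L * Γ := (mul_assoc _ _ _).symm
        _ ≤ L * Γ * Γ := mul_le_mul_left hQL Γ
        _ = L * (Γ * Γ) := mul_assoc _ _ _
        _ ≤ L * Γ := mul_le_mul_right hΓΓ L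
      rw [mul_assoc]
      exact h (Submodule.mul_mem_mul ha (hb x hx))
    have hPQ : P ≤ Q := hPdef ▸ augNU_le (fun z hzZ => hz z hzZ) hQQ
    exact (mul_le_mul_left hPQ L).trans hQL
  have hΓL : Γ * L ≤ L * Γ := by
    conv_lhs => rw [hΓdef]
    rw [Submodule.sup_mul, one_mul]
    exact sup_le hLle hPL
  have hI : L * Γ * (L * Γ) ≤ L * Γ := calc
    L * Γ * (L * Γ) = L * (Γ * L) * Γ := by simp only [mul_assoc]
    _ ≤ L * (L * Γ) * Γ := mul_le_mul_left (mul_le_mul_right hΓL L) Γ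
    _ = L * L * (Γ * Γ) := by simp only [mul_assoc]
    _ ≤ L * Γ := mul_le_mul' hLL hΓΓ
  have hPI : P * (L * Γ) ≤ L * Γ := calc
    P * (L * Γ) = P * L * Γ := (mul_assoc _ _ _).symm
    _ ≤ L * Γ * Γ := mul_le_mul_left hPL Γ
    _ = L * (Γ * Γ) := mul_assoc _ _ _
    _ ≤ L * Γ := mul_le_mul_right hΓΓ L
  have hIP : L * Γ * P ≤ L * Γ := by
    rw [mul_assoc]
    exact mul_le_mul_right ((mul_le_mul_right hPΓ Γ).trans hΓΓ) L
  have hJJ : (L * Γ ⊔ P) * (L * Γ ⊔ P) ≤ L * Γ ⊔ P := by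
    rw [Submodule.sup_mul, Submodule.mul_sup, Submodule.mul_sup]
    exact sup_le (sup_le (hI.trans le_sup_left) (hIP.trans le_sup_left))
      (sup_le (hPI.trans le_sup_left) (hPP.trans le_sup_right))
  have hle : augNU k (D ∪ Z) ≤ L * Γ ⊔ P := by
    refine augNU_le ?_ hJJ
    rintro x (hx | hx)
    · exact Submodule.mem_sup_left (hLle (hLdef ▸ mem_augNU hx))
    · exact Submodule.mem_sup_right (hPdef ▸ mem_augNU hx)
  refine IsNilSub.mono ?_ hle
  have hpow : ∀ j : ℕ, (L * Γ ⊔ P) ^ (j + 1) ≤ L * Γ ⊔ P ^ (j + 1) := by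
    intro j
    induction j with
    | zero => simp only [Nat.zero_add, pow_one]; exact le_rfl
    | succ j ih =>
      rw [pow_succ _ (j + 1)]
      refine (mul_le_mul_left ih _).trans ?_
      rw [Submodule.sup_mul, Submodule.mul_sup, Submodule.mul_sup, ← pow_succ]
      refine sup_le (sup_le (hI.trans le_sup_left) (hIP.trans le_sup_left))
        (sup_le ?_ le_sup_right)
      refine (mul_le_mul_left ?_ _).trans (hPI.trans le_sup_left)
      simpa using sub_pow_le hPP (Nat.zero_le j)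
  have hpow2 : ∀ j : ℕ, (L * Γ) ^ (j + 1) ≤ L ^ (j + 1) * Γ := by
    intro j
    induction j with
    | zero => simp only [Nat.zero_add, pow_one]; exact le_rfl
    | succ j ih =>
      calc (L * Γ) ^ (j + 1 + 1) = (L * Γ) ^ (j + 1) * (L * Γ) := pow_succ _ _
        _ ≤ L ^ (j + 1) * Γ * (L * Γ) := mul_le_mul_left ih _
        _ = L ^ (j + 1) * (Γ * L) * Γ := by simp only [mul_assoc]
        _ ≤ L ^ (j + 1) * (L * Γ) * Γ := mul_le_mul_left (mul_le_mul_right hΓL _) Γ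
        _ = L ^ (j + 1 + 1) * (Γ * Γ) := by rw [pow_succ L (j + 1)]; simp only [mul_assoc]
        _ ≤ L ^ (j + 1 + 1) * Γ := mul_le_mul_right hΓΓ _
  rw [← hLdef] at hD
  rw [← hPdef] at hZ
  obtain ⟨b, hb⟩ := hD
  obtain ⟨a, ha⟩ := hZ
  have h1 : (L * Γ ⊔ P) ^ (a + 1) ≤ L * Γ := (hpow a).trans (by rw [ha, sup_bot_eq])
  refine ⟨(a + 1) * (b + 1) - 1, eq_bot_iff.2 ?_⟩
  have hpos : 0 < (a + 1) * (b + 1) := Nat.mul_pos a.succ_pos b.succ_pos
  rw [Nat.sub_add_cancel hpos, pow_mul]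
  refine ((pow_le_pow_left' h1 _).trans (hpow2 b)).trans ?_
  rw [hb, Submodule.bot_mul]

section Baer

variable [FiniteDimensional k E]

theorem exists_maximal_nil {T X : Set Eˣ} (hX : X ⊆ T) (hn : IsNilSub (augNU k X)) :
    ∃ Y, X ⊆ Y ∧ Y ⊆ T ∧ IsNilSub (augNU k Y) ∧ (∀ t ∈ T, (t : E) - 1 ∈ augNU k Y → t ∈ Y) ∧
      ∀ Z, Y ⊆ Z → Z ⊆ T → IsNilSub (augNU k Z) → Z ⊆ Y := by
  have hP : ∃ m, ∃ Y, X ⊆ Y ∧ Y ⊆ T ∧ IsNilSub (augNU k Y) ∧
      Module.finrank k E - Module.finrank k (augNU k Y) = m := ⟨_, X, subset_rfl, hX, hn, rfl⟩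
  classical
  obtain ⟨Y, hXY, hYT, hYn, hm⟩ := Nat.find_spec hP
  refine ⟨{t ∈ T | (t : E) - 1 ∈ augNU k Y}, fun x hx => ⟨hX hx, mem_augNU (hXY hx)⟩,
    fun t ht => ht.1, hYn.mono (augNU_le (fun t ht => ht.2) (augNU_mul_le Y)),
    fun t ht h => ⟨ht, augNU_le (fun s hs => hs.2) (augNU_mul_le Y) h⟩, fun Z hYZ hZT hZn t ht => ?_⟩
  have hle : augNU k Y ≤ augNU k Z :=
    augNU_mono fun y hy => hYZ ⟨hYT hy, mem_augNU hy⟩
  have hmin := Nat.find_min' hP ⟨Z, fun x hx => hYZ ⟨hX hx, mem_augNU (hXY hx)⟩, hZT, hZn, rfl⟩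
  have h1 := Submodule.finrank_le (augNU k Z)
  have h2 := Submodule.finrank_le (augNU k Y)
  have h3 := Submodule.finrank_mono hle
  have e : augNU k Y = augNU k Z := Submodule.eq_of_le_of_finrank_le hle (by omega)
  exact ⟨hZT ht, e ▸ mem_augNU ht⟩

theorem exists_outside_normalizing {T X D : Set Eˣ} (hconj : ∀ a ∈ T, ∀ b ∈ T, a * b * a⁻¹ ∈ T)
    (hXT : X ⊆ T) (hXn : IsNilSub (augNU k X))
    (hXcl : ∀ t ∈ T, (t : E) - 1 ∈ augNU k X → t ∈ X) (hDX : D ⊆ X)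
    (hDcl : ∀ t ∈ T, (t : E) - 1 ∈ augNU k D → t ∈ D) (hne : ¬ X ⊆ D) :
    ∃ x ∈ X, x ∉ D ∧ ∀ d ∈ D, x * d * x⁻¹ ∈ D := by
  classical
  have hDL : augNU k D ≤ augNU k X := augNU_mono hDX
  have hmm := augNU_mul_le (k := k) X
  have hdd := augNU_mul_le (k := k) D
  have hXn' := hXn
  obtain ⟨n, hn⟩ := hXn'
  have hex : ∃ i, ∀ x ∈ X, (x : E) - 1 ∈ augNU k D ⊔ (augNU k X) ^ (i + 1) → x ∈ D :=
    ⟨n, fun x hx h => hDcl x (hXT hx) (by rwa [hn, sup_bot_eq] at h)⟩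
  have hmin := fun j => Nat.find_min hex (m := j)
  have hspec := Nat.find_spec hex
  generalize Nat.find hex = i at hmin hspec
  cases i with
  | zero =>
    refine absurd (fun x hx => hspec x hx ?_) hne
    rw [Nat.zero_add, pow_one]
    exact Submodule.mem_sup_right (mem_augNU hx)
  | succ i =>
    obtain ⟨x, hx, hu, hxD⟩ : ∃ x ∈ X, (x : E) - 1 ∈ augNU k D ⊔ (augNU k X) ^ (i + 1) ∧ x ∉ D := by
      have := hmin i (Nat.lt_succ_self i)
      push Not at this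
      exact this
    refine ⟨x, hx, hxD, fun d hd => ?_⟩
    generalize hL : augNU k D = L at hu hspec hdd hDL hDcl
    generalize hM : augNU k X = M at hu hspec hmm hDL hXn hXcl
    have hMi : M ^ (i + 1) ≤ M := by simpa using sub_pow_le hmm (Nat.zero_le i)
    have hA : (L ⊔ M ^ (i + 1)) * (L ⊔ M ^ (i + 1)) ≤ L ⊔ M ^ (i + 1) := by
      rw [Submodule.sup_mul, Submodule.mul_sup, Submodule.mul_sup]
      refine sup_le (sup_le (hdd.trans le_sup_left) ?_) (sup_le ?_ ?_) <;>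
        try (refine le_trans ?_ le_sup_right)
      · calc L * M ^ (i + 1) ≤ M * M ^ (i + 1) := mul_le_mul_left hDL _
          _ = M ^ (i + 1 + 1) := (pow_succ' _ _).symm
          _ ≤ M ^ (i + 1) := sub_pow_le hmm (Nat.le_succ i)
      · calc M ^ (i + 1) * L ≤ M ^ (i + 1) * M := mul_le_mul_right hDL _
          _ = M ^ (i + 1 + 1) := (pow_succ _ _).symm
          _ ≤ M ^ (i + 1) := sub_pow_le hmm (Nat.le_succ i)
      · calc M ^ (i + 1) * M ^ (i + 1) ≤ M ^ (i + 1) * M := mul_le_mul_right hMi _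
          _ = M ^ (i + 1 + 1) := (pow_succ _ _).symm
          _ ≤ M ^ (i + 1) := sub_pow_le hmm (Nat.le_succ i)
    have hAn : IsNilSub (L ⊔ M ^ (i + 1)) := hXn.mono (sup_le hDL hMi)
    have hu' := inv_sub_one_mem hA hAn x hu
    have hδ : (d : E) - 1 ∈ L := hL ▸ mem_augNU hd
    have h1 : L * (L ⊔ M ^ (i + 1)) ≤ L ⊔ M ^ (i + 1 + 1) := by
      rw [Submodule.mul_sup, pow_succ' M (i + 1)]
      exact sup_le_sup hdd (mul_le_mul_left hDL _)
    have h2 : (L ⊔ M ^ (i + 1)) * L ≤ L ⊔ M ^ (i + 1 + 1) := by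
      rw [Submodule.sup_mul, pow_succ M (i + 1)]
      exact sup_le_sup hdd (mul_le_mul_right hDL _)
    have h3 : (L ⊔ M ^ (i + 1 + 1)) * (L ⊔ M ^ (i + 1)) ≤ L ⊔ M ^ (i + 1 + 1) := by
      rw [Submodule.sup_mul]
      refine sup_le h1 (le_trans ?_ le_sup_right)
      calc M ^ (i + 1 + 1) * (L ⊔ M ^ (i + 1)) ≤ M ^ (i + 1 + 1) * M :=
            mul_le_mul_right (sup_le hDL hMi) _
        _ = M ^ (i + 1 + 1 + 1) := (pow_succ _ _).symm
        _ ≤ M ^ (i + 1 + 1) := sub_pow_le hmm (Nat.le_succ (i + 1))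
    have hc : ((x : E) - 1) * ((d : E) - 1) - ((d : E) - 1) * ((x : E) - 1) ∈
        L ⊔ M ^ (i + 1 + 1) :=
      Submodule.sub_mem _ (h2 (Submodule.mul_mem_mul hu hδ)) (h1 (Submodule.mul_mem_mul hδ hu))
    generalize hcd : ((x : E) - 1) * ((d : E) - 1) - ((d : E) - 1) * ((x : E) - 1) = c at hc
    have e : ((x * d * x⁻¹ : Eˣ) : E) - 1 =
        ((d : E) - 1) + (c + c * (((x⁻¹ : Eˣ) : E) - 1)) := by
      rw [conj_val_sub_one, ← hcd]
      simp only [mul_sub, sub_mul, mul_one, one_mul, mul_assoc, Units.mul_inv]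
      abel
    have hmem : ((x * d * x⁻¹ : Eˣ) : E) - 1 ∈ L ⊔ M ^ (i + 1 + 1) := by
      rw [e]
      exact Submodule.add_mem _ (Submodule.mem_sup_left hδ)
        (Submodule.add_mem _ hc (h3 (Submodule.mul_mem_mul hc hu')))
    have hxd : x * d * x⁻¹ ∈ T := hconj x (hXT hx) d (hXT (hDX hd))
    refine hspec _ (hXcl _ hxd (sup_le hDL ?_ hmem)) hmem
    simpa using sub_pow_le hmm (Nat.zero_le (i + 1))

/-- A conjugation invariant set of units in which every pair is unipotent is unipotent. -/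
theorem isNilSub_of_pairwise {T : Set Eˣ} (hconj : ∀ a ∈ T, ∀ b ∈ T, a * b * a⁻¹ ∈ T)
    (hpair : ∀ a ∈ T, ∀ b ∈ T, IsNilSub (augNU k ({a, b} : Set Eˣ))) :
    IsNilSub (augNU k T) := by
  classical
  by_contra hT
  let Max : Set Eˣ → Prop := fun Y => Y ⊆ T ∧ IsNilSub (augNU k Y) ∧
    (∀ t ∈ T, (t : E) - 1 ∈ augNU k Y → t ∈ Y) ∧
      ∀ Z, Y ⊆ Z → Z ⊆ T → IsNilSub (augNU k Z) → Z ⊆ Y
  obtain ⟨Y₁, -, hY₁⟩ := exists_maximal_nil (k := k) (X := (∅ : Set Eˣ)) (Set.empty_subset T) (by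
    refine ⟨0, ?_⟩
    rw [Nat.zero_add, pow_one, eq_bot_iff]
    exact augNU_le (fun x hx => hx.elim) (by simp))
  have hne1 : ¬ T ⊆ Y₁ := fun h => hT (hY₁.2.1.mono (augNU_mono h))
  obtain ⟨t, ht, htY⟩ := Set.not_subset.1 hne1
  obtain ⟨Y₂, ht2, hY₂⟩ := exists_maximal_nil (k := k) (X := ({t} : Set Eˣ)) (by simpa using ht)
    ((hpair t ht t ht).mono (augNU_mono (by simp)))
  have hP : ∃ m, ∃ X₁ X₂, Max X₁ ∧ Max X₂ ∧ X₁ ≠ X₂ ∧
      Module.finrank k E - Module.finrank k (augNU k (X₁ ∩ X₂)) = m :=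
    ⟨_, Y₁, Y₂, hY₁, hY₂, fun e => htY (e ▸ ht2 rfl), rfl⟩
  obtain ⟨X₁, X₂, h₁, h₂, hne, hm⟩ := Nat.find_spec hP
  have hDcl : ∀ t ∈ T, (t : E) - 1 ∈ augNU k (X₁ ∩ X₂) → t ∈ X₁ ∩ X₂ := fun t ht h =>
    ⟨h₁.2.2.1 t ht (augNU_mono Set.inter_subset_left h),
      h₂.2.2.1 t ht (augNU_mono Set.inter_subset_right h)⟩
  have hn₁ : ¬ X₁ ⊆ X₁ ∩ X₂ := fun h =>
    hne (Set.Subset.antisymm (fun x hx => (h hx).2)
      (h₁.2.2.2 X₂ (fun x hx => (h hx).2) h₂.1 h₂.2.1))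
  have hn₂ : ¬ X₂ ⊆ X₁ ∩ X₂ := fun h =>
    hne (Set.Subset.antisymm (fun x hx => (h hx).1)
      (h₂.2.2.2 X₁ (fun x hx => (h hx).1) h₁.1 h₁.2.1)).symm
  obtain ⟨x₁, hx₁, hx₁D, hc₁⟩ := exists_outside_normalizing hconj h₁.1 h₁.2.1 h₁.2.2.1
    Set.inter_subset_left hDcl hn₁
  obtain ⟨x₂, hx₂, hx₂D, hc₂⟩ := exists_outside_normalizing hconj h₂.1 h₂.2.1 h₂.2.2.1
    Set.inter_subset_right hDcl hn₂
  have hnil := isNilSub_augNU_union (D := X₁ ∩ X₂) (Z := {x₁, x₂})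
    (h₁.2.1.mono (augNU_mono Set.inter_subset_left)) (hpair x₁ (h₁.1 hx₁) x₂ (h₂.1 hx₂))
    (by rintro z (rfl | rfl) <;> assumption)
  have hsub : X₁ ∩ X₂ ∪ {x₁, x₂} ⊆ T := by
    rintro y (hy | rfl | rfl)
    · exact h₁.1 hy.1
    · exact h₁.1 hx₁
    · exact h₂.1 hx₂
  obtain ⟨X₃, h₃sub, h₃⟩ := exists_maximal_nil hsub hnil
  have hX₃ : X₁ ≠ X₃ := fun e => hx₂D ⟨e ▸ h₃sub (Or.inr (Or.inr rfl)), hx₂⟩
  have hmin := Nat.find_min' hP ⟨X₁, X₃, h₁, h₃, hX₃, rfl⟩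
  have hDle : augNU k (X₁ ∩ X₂) ≤ augNU k (X₁ ∩ X₃) :=
    augNU_mono fun y hy => ⟨hy.1, h₃sub (Or.inl hy)⟩
  have h3 := Submodule.finrank_mono hDle
  have h1 := Submodule.finrank_le (augNU k (X₁ ∩ X₃))
  have e : augNU k (X₁ ∩ X₂) = augNU k (X₁ ∩ X₃) :=
    Submodule.eq_of_le_of_finrank_le hDle (by omega)
  exact hx₁D (hDcl x₁ (h₁.1 hx₁) (e ▸ mem_augNU ⟨hx₁, h₃sub (Or.inr (Or.inl rfl))⟩))

end Baer

end H98
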