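import Cfsg.Agent.H98.Components

/-! The commutator case: surjectivity of the commutator maps, lines `AC`. -/

set_option autoImplicit false

namespace H98

open Cfsg

variable {G : Type*} [Group G] {S : Set (Subgroup G)} {A B : Subgroup G}

theorem comm_mul_right_of_central (h : RootCommutatorCase S A B) {a b b' : G} (ha : a ∈ A)
    (hb : b ∈ B) (hb' : b' ∈ B) :
    a * (b * b') * a⁻¹ * (b * b')⁻¹ = a * b * a⁻¹ * b⁻¹ * (a * b' * a⁻¹ * b'⁻¹) := by
  have hc := h.2.1 _ (Subgroup.commutator_mem_commutator ha hb') b⁻¹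
    (Subgroup.mem_sup_right (B.inv_mem hb))
  simp only [commutatorElement_def] at hc
  calc a * (b * b') * a⁻¹ * (b * b')⁻¹ = a * b * a⁻¹ * ((a * b' * a⁻¹ * b'⁻¹) * b⁻¹) := by group
    _ = _ := by rw [hc]; group

theorem exists_comm_eq (h : RootCommutatorCase S A B) {a : G} (ha : a ∈ A) (ha1 : a ≠ 1) {z : G}
    (hz : z ∈ ⁅A, B⁆) : ∃ b ∈ B, a * b * a⁻¹ * b⁻¹ = z := by
  rw [← h.2.2.1 a ha ha1] at hz
  induction hz using Subgroup.closure_induction with
  | mem x hx => obtain ⟨b, hb, rfl⟩ := hx; exact ⟨b, hb, rfl⟩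
  | one => exact ⟨1, B.one_mem, by group⟩
  | mul x y _ _ ix iy =>
    obtain ⟨b, hb, rfl⟩ := ix
    obtain ⟨b', hb', rfl⟩ := iy
    exact ⟨b * b', B.mul_mem hb hb', comm_mul_right_of_central h ha hb hb'⟩
  | inv x _ ix =>
    obtain ⟨b, hb, rfl⟩ := ix
    refine ⟨b⁻¹, B.inv_mem hb, eq_inv_of_mul_eq_one_left ?_⟩
    rw [← comm_mul_right_of_central h ha (B.inv_mem hb) hb, inv_mul_cancel]
    group

theorem exists_conj_eq_mul (h : RootCommutatorCase S A B) {a : G} (ha : a ∈ A) (ha1 : a ≠ 1)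
    {z : G} (hz : z ∈ ⁅A, B⁆) : ∃ b ∈ B, b * a * b⁻¹ = a * z := by
  obtain ⟨b, hb, e⟩ := exists_comm_eq h (A.inv_mem ha) (inv_ne_one.2 ha1) hz
  refine ⟨b, hb, ?_⟩
  rw [← e]; group

theorem mem_sup_of_commute {C : Subgroup G} (hc : ∀ a ∈ A, ∀ c ∈ C, Commute a c) {x : G}
    (hx : x ∈ A ⊔ C) : ∃ a ∈ A, ∃ c ∈ C, x = a * c := by
  rw [Subgroup.sup_eq_closure] at hx
  induction hx using Subgroup.closure_induction with
  | mem y hy =>
    rcases hy with hy | hy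
    · exact ⟨y, hy, 1, C.one_mem, (mul_one y).symm⟩
    · exact ⟨1, A.one_mem, y, hy, (one_mul y).symm⟩
  | one => exact ⟨1, A.one_mem, 1, C.one_mem, (mul_one 1).symm⟩
  | mul y z _ _ iy iz =>
    obtain ⟨a, ha, c, hc', rfl⟩ := iy
    obtain ⟨a', ha', c', hc'', rfl⟩ := iz
    exact ⟨a * a', A.mul_mem ha ha', c * c', C.mul_mem hc' hc'',
      (hc a' ha' c hc').symm.mul_mul_mul_comm a c'⟩
  | inv y _ iy =>
    obtain ⟨a, ha, c, hc', rfl⟩ := iy
    exact ⟨a⁻¹, A.inv_mem ha, c⁻¹, C.inv_mem hc', by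
      rw [← mul_inv_rev, (hc a ha c hc').eq]⟩

theorem commute_commutator_left (h : RootCommutatorCase S A B) :
    ∀ a ∈ A, ∀ c ∈ ⁅A, B⁆, Commute a c :=
  fun a ha c hc => (h.2.1 c hc a (Subgroup.mem_sup_left ha)).symm

theorem conjBy_commutator (h : RootCommutatorCase S A B) {x : G} (hx : x ∈ A ⊔ B) :
    conjBy ⁅A, B⁆ x = ⁅A, B⁆ := by
  rw [conjBy_eq_self_iff]
  exact sup_le (Subgroup.normalizer_commutator_ge_left A B)
    (Subgroup.normalizer_commutator_ge_right A B) hx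

theorem conjBy_left_le (h : RootCommutatorCase S A B) {b : G} (hb : b ∈ B) :
    conjBy A b ≤ A ⊔ ⁅A, B⁆ := by
  intro x hx
  rw [mem_conjBy] at hx
  rw [show x = (b * (b⁻¹ * x * b) * b⁻¹ * (b⁻¹ * x * b)⁻¹) * (b⁻¹ * x * b) by group]
  refine Subgroup.mul_mem _ (Subgroup.mem_sup_right ?_) (Subgroup.mem_sup_left hx)
  rw [Subgroup.commutator_comm]
  exact Subgroup.commutator_mem_commutator hb hx

theorem commutator_ne_left (hS : IsRootSubgroupSet S) (h : RootCommutatorCase S A B) :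
    ⁅A, B⁆ ≠ A := by
  intro e
  refine hS.ne_bot _ h.1 ?_
  rw [eq_bot_iff, Subgroup.commutator_le]
  intro a ha b hb
  rw [Subgroup.mem_bot, commutatorElement_eq_one_iff_commute]
  exact h.2.1 a (by rw [e]; exact ha) b (Subgroup.mem_sup_right hb)

end H98
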