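import Cfsg.Agent.H98.SpecialPerfect
import Cfsg.Agent.H98.CommutatorCase

/-! The quasisimplicity criterion for groups generated by abstract root subgroups. -/

set_option autoImplicit false

namespace H98

open Cfsg

variable {G : Type*} [Group G] {S : Set (Subgroup G)} {N : Subgroup G} [N.Normal]

theorem map_mk_le_iff {A B : Subgroup G} :
    A.map (QuotientGroup.mk' N) ≤ B.map (QuotientGroup.mk' N) ↔ A ≤ B ⊔ N := by
  rw [Subgroup.map_le_iff_le_comap, Subgroup.comap_map_eq, QuotientGroup.ker_mk']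

theorem commutator_le_normal_iff {A B : Subgroup G} :
    ⁅A, B⁆ ≤ N ↔ ⁅A.map (QuotientGroup.mk' N), B.map (QuotientGroup.mk' N)⁆ = ⊥ := by
  rw [← Subgroup.map_commutator, Subgroup.map_eq_bot_iff, QuotientGroup.ker_mk']

theorem commutator_sup_self_eq_bot {H : Type*} [Group H] {A B : Subgroup H} (hA : ⁅A, A⁆ = ⊥)
    (hB : ⁅B, B⁆ = ⊥) (hAB : ⁅A, B⁆ = ⊥) : ⁅A ⊔ B, A ⊔ B⁆ = ⊥ := by
  have key : ∀ T : Subgroup H, ⁅A, T⁆ = ⊥ → ⁅B, T⁆ = ⊥ → ⁅A ⊔ B, T⁆ = ⊥ := by
    intro T h1 h2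
    rw [Subgroup.commutator_eq_bot_iff_le_centralizer] at h1 h2 ⊢
    exact sup_le h1 h2
  refine key _ ?_ ?_
  · rw [Subgroup.commutator_comm]
    exact key _ hA (by rw [Subgroup.commutator_comm]; exact hAB)
  · rw [Subgroup.commutator_comm]
    exact key _ hAB hB

theorem commutator_self_eq_bot (hS : IsRootSubgroupSet S) {A : Subgroup G} (hA : A ∈ S) :
    ⁅A, A⁆ = ⊥ := by
  rw [Subgroup.commutator_eq_bot_iff_le_centralizer]
  intro x hx
  rw [Subgroup.mem_centralizer_iff]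
  exact fun y hy => (commute_of_mem hS hA hy hx).eq

/-- A rank one pair commuting modulo `N` has the same image modulo `N`. -/
theorem le_sup_of_commutator_le {D C : Subgroup G} (hr : IsRankOnePair D C) (hc : ⁅D, C⁆ ≤ N) :
    C ≤ D ⊔ N := by
  obtain ⟨x, hx, rfl⟩ := right_mem_unipotent hr
  have hn : D ⊔ conjBy D x ≤ Subgroup.normalizer ((D ⊔ N : Subgroup G) : Set G) := by
    have key : ∀ y ∈ conjBy D x, ∀ z ∈ D ⊔ N, y * z * y⁻¹ ∈ D ⊔ N := by
      intro y hy z hz
      rw [← SetLike.mem_coe, Subgroup.mul_normal] at hz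
      obtain ⟨d, hd, n, hn, rfl⟩ := hz
      have h1 : y * d * y⁻¹ * d⁻¹ ∈ N := by
        apply hc
        rw [Subgroup.commutator_comm]
        exact Subgroup.commutator_mem_commutator hy hd
      rw [show y * (d * n) * y⁻¹ = y * d * y⁻¹ * d⁻¹ * d * (y * n * y⁻¹) by group]
      exact Subgroup.mul_mem _ (Subgroup.mul_mem _ (Subgroup.mem_sup_right h1)
        (Subgroup.mem_sup_left hd)) (Subgroup.mem_sup_right (‹N.Normal›.conj_mem n hn y))
    refine sup_le (le_sup_left.trans Subgroup.le_normalizer) fun y hy => ?_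
    rw [Subgroup.mem_normalizer_iff]
    intro z
    refine ⟨key y hy z, fun hz => ?_⟩
    have := key y⁻¹ ((conjBy D x).inv_mem hy) _ hz
    rwa [show y⁻¹ * (y * z * y⁻¹) * y⁻¹⁻¹ = z by group] at this
  exact (conjBy_mono x le_sup_left).trans (conjBy_eq_self_iff.2 (hn hx)).le

theorem isSpecial_abelian (hS : IsRootSubgroupSet S) {A B : Subgroup G} (hA : A ∈ S) (hB : B ∈ S) :
    HasAbelianUnipotents A B :=
  ⟨hS.commutative A hA, hS.commutative B hB⟩

theorem le_of_rankOne_of_card (hS : IsRootSubgroupSet S) {D C : Subgroup G} (hD : D ∈ S)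
    (hC : C ∈ S) (hr : IsSpecialRankOnePair D C) (hcard : 3 < ENat.card D) (hc : ⁅D, C⁆ ≤ N) :
    D ≤ N := by
  have h1 : ⁅D ⊔ C, D ⊔ C⁆ ≤ N := by
    rw [commutator_le_normal_iff, Subgroup.map_sup]
    refine commutator_sup_self_eq_bot ?_ ?_ (commutator_le_normal_iff.1 hc) <;>
      rw [← Subgroup.map_commutator, commutator_self_eq_bot hS, Subgroup.map_bot] <;> assumption
  exact le_sup_left.trans ((sup_le_commutator hr (isSpecial_abelian hS hD hC) hcard).trans h1)

/-- From a rank one pair commuting modulo `N` and a commutator case we get a member inside `N`. -/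
theorem exists_member_le (hS : IsRootSubgroupSet S) (hconj : IsConjClassOfSubgroups S)
    {D C P Q : Subgroup G} (hD : D ∈ S) (hC : C ∈ S) (hr : IsRankOnePair D C) (hc : ⁅D, C⁆ ≤ N)
    (hP : P ∈ S) (hQ : Q ∈ S) (hPQ : RootCommutatorCase S P Q) : ∃ E ∈ S, E ≤ N := by
  obtain ⟨g, rfl⟩ := hconj.2 D hD P hP
  have hP'S : conjBy C g ∈ S := hS.conj_mem C hC g
  have hr' : IsRankOnePair (conjBy D g) (conjBy C g) := isRankOnePair_conj hr g
  have hc' : ⁅conjBy D g, conjBy C g⁆ ≤ N := by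
    rw [conjBy, conjBy, ← Subgroup.map_commutator]
    refine (Subgroup.map_mono hc).trans ?_
    rw [Subgroup.map_le_iff_le_comap]
    exact fun n hn => ‹N.Normal›.conj_mem n hn g
  generalize conjBy D g = P at *
  generalize conjBy C g = P' at *
  have e1 : P'.map (QuotientGroup.mk' N) ≤ P.map (QuotientGroup.mk' N) :=
    map_mk_le_iff.2 (le_sup_of_commutator_le hr' hc')
  have e2 : P.map (QuotientGroup.mk' N) ≤ P'.map (QuotientGroup.mk' N) :=
    map_mk_le_iff.2 (le_sup_of_commutator_le (RankOnePair_symm hr')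
      (by rwa [Subgroup.commutator_comm]))
  have hC1 : ⁅P, Q⁆ ∈ S := hPQ.1
  have hC1P : ⁅⁅P, Q⁆, P⁆ = ⊥ := by
    rw [Subgroup.commutator_eq_bot_iff_le_centralizer]
    intro z hz
    rw [Subgroup.mem_centralizer_iff]
    exact fun p hp => (hPQ.2.1 z hz p (Subgroup.mem_sup_left hp)).symm
  have hC1Q : ⁅⁅P, Q⁆, Q⁆ = ⊥ := by
    rw [Subgroup.commutator_eq_bot_iff_le_centralizer]
    intro z hz
    rw [Subgroup.mem_centralizer_iff]
    exact fun p hp => (hPQ.2.1 z hz p (Subgroup.mem_sup_right hp)).symm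
  have hc1 : ⁅⁅P, Q⁆, P'⁆ ≤ N := by
    rw [commutator_le_normal_iff, eq_bot_iff]
    refine (Subgroup.commutator_mono le_rfl e1).trans ?_
    rw [← Subgroup.map_commutator, hC1P, Subgroup.map_bot]
  rcases hS.pair _ hC1 P' hP'S with h | h | h
  · exfalso
    obtain ⟨p, hp, hp1⟩ := exists_mem_ne_one (hS.ne_bot P hP)
    obtain ⟨z, hz, hz1⟩ := exists_mem_ne_one (hS.ne_bot _ hC1)
    obtain ⟨q, hq, hqp⟩ := exists_conj_eq_mul hPQ hp hp1 hz
    have hzc : z ∈ Subgroup.centralizer ((P ⊔ P' : Subgroup G) : Set G) := by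
      have hle : P ⊔ P' ≤ Subgroup.centralizer ((⁅P, Q⁆ : Subgroup G) : Set G) := by
        refine sup_le ?_ ?_ <;> rw [← Subgroup.commutator_eq_bot_iff_le_centralizer,
          Subgroup.commutator_comm] <;> assumption
      rw [Subgroup.mem_centralizer_iff]
      exact fun x hx => (Subgroup.mem_centralizer_iff.1 (hle hx) z hz).symm
    refine not_rootElement_mul hS hP'S hr' hzc hz1 hp hp1 ⟨?_, conjBy P q, hS.conj_mem P hP q, ?_⟩
    · intro e
      apply hp1
      rw [← (hPQ.2.1 z hz p (Subgroup.mem_sup_left hp)).symm] at e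
      rw [← hqp, conj_eq_one_iff] at e
      exact e
    · rw [hPQ.2.1 z hz p (Subgroup.mem_sup_left hp), ← hqp]
      exact conj_mem_conjBy q hp
  · refine ⟨_, hC1, commutator_le_normal_iff.2 ?_⟩
    have e3 : P'.map (QuotientGroup.mk' N) ≤ (⁅P, Q⁆).map (QuotientGroup.mk' N) :=
      map_mk_le_iff.2 (le_sup_of_commutator_le h hc1)
    rw [eq_bot_iff]
    refine (Subgroup.commutator_mono (e2.trans e3) le_rfl).trans ?_
    rw [← Subgroup.map_commutator, hC1Q, Subgroup.map_bot]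
  · exact ⟨_, h.1, hc1⟩

section Main

variable (hS : IsRootSubgroupSet S)

include hS

omit [N.Normal] in
theorem eq_top_of_member_le [N.Normal] (hconj : IsConjClassOfSubgroups S) {E : Subgroup G}
    (hE : E ∈ S) (hEN : E ≤ N) : N = ⊤ := by
  rw [eq_top_iff, ← hS.generates]
  refine iSup₂_le fun A hA => ?_
  obtain ⟨g, rfl⟩ := hconj.2 E hE A hA
  intro x hx
  rw [mem_conjBy] at hx
  have := ‹N.Normal›.conj_mem _ (hEN hx) g
  rwa [show g * (g⁻¹ * x * g) * g⁻¹ = x by group] at this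

omit [N.Normal] in
theorem not_degenerate_case (hd : ¬ IsDegenerateRootSet S) :
    ∃ P ∈ S, ∃ Q ∈ S, RootCommutatorCase S P Q := by
  by_contra hne
  exact hd fun A hA B hB h => hne ⟨A, hA, B, hB, h⟩

omit [N.Normal] in
theorem isPerfect_of_criterion (hconj : IsConjClassOfSubgroups S)
    (hF : ∀ A ∈ S, ∃ B ∈ S, IsRankOnePair A B)
    (h3 : IsDegenerateRootSet S → ∀ A ∈ S, 3 < ENat.card A)
    (h4 : ∀ A ∈ S, ∀ B ∈ rankOnePartners S A, IsSpecialRankOnePair A B) :
    commutator G = ⊤ := by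
  haveI : (commutator G).Normal := inferInstance
  by_cases hd : IsDegenerateRootSet S
  · obtain ⟨A, hA⟩ := hconj.1
    obtain ⟨B, hB, hr⟩ := hF A hA
    refine eq_top_of_member_le hS hconj hA ?_
    refine le_sup_left.trans ((sup_le_commutator (h4 A hA B ⟨hB, hr⟩) (isSpecial_abelian hS hA hB)
      (h3 hd A hA)).trans ?_)
    rw [commutator_def]
    exact Subgroup.commutator_mono le_top le_top
  · obtain ⟨P, hP, Q, hQ, h⟩ := not_degenerate_case hS hd
    refine eq_top_of_member_le hS hconj h.1 ?_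
    rw [commutator_def]
    exact Subgroup.commutator_mono le_top le_top

theorem normal_le_center_or_eq_top (hconj : IsConjClassOfSubgroups S)
    (hF : ∀ A ∈ S, ∃ B ∈ S, IsRankOnePair A B)
    (h2' : ∀ A ∈ S, ∀ C ∈ S, A ≠ C → centralizingMembers S A ≠ centralizingMembers S C)
    (h3 : IsDegenerateRootSet S → ∀ A ∈ S, 3 < ENat.card A)
    (h4 : ∀ A ∈ S, ∀ B ∈ rankOnePartners S A, IsSpecialRankOnePair A B) :
    N ≤ Subgroup.center G ∨ N = ⊤ := by
  by_cases hfix : ∀ n ∈ N, ∀ A ∈ S, conjBy A n = A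
  · left
    have hbot : ∀ A ∈ S, ∀ a ∈ A, a ∈ N → a = 1 := by
      intro A hA a ha haN
      obtain ⟨B, hB, hr⟩ := hF A hA
      exact eq_one_of_conjBy_right_eq hr ha (hfix a haN B hB)
    intro n hn
    rw [Subgroup.mem_center_iff]
    intro g
    have hg : g ∈ ⨆ A ∈ S, A := by rw [hS.generates]; trivial
    have hle : (⨆ A ∈ S, A) ≤ Subgroup.centralizer {n} := by
      refine iSup₂_le fun A hA a ha => ?_
      rw [Subgroup.mem_centralizer_singleton_iff]
      have h1 : n * a * n⁻¹ * a⁻¹ ∈ A :=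
        A.mul_mem (by have := conj_mem_conjBy n ha; rwa [hfix n hn A hA] at this) (A.inv_mem ha)
      have h2 : n * a * n⁻¹ * a⁻¹ ∈ N := by
        rw [show n * a * n⁻¹ * a⁻¹ = n * (a * n⁻¹ * a⁻¹) by group]
        exact N.mul_mem hn (‹N.Normal›.conj_mem _ (N.inv_mem hn) a)
      exact (mul_inv_eq_iff_eq_mul.1 (mul_inv_eq_one.1 (hbot A hA _ h1 h2))).symm
    exact Subgroup.mem_centralizer_singleton_iff.1 (hle hg)
  · right
    push Not at hfix
    obtain ⟨n, hn, A, hA, hne⟩ := hfix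
    -- `D` commutes with `A` but not with the congruent member `conjBy A n`
    obtain ⟨n, hn, A, hA, D, hD, hDA, hDC⟩ : ∃ n ∈ N, ∃ A ∈ S, ∃ D ∈ S,
        D ≤ Subgroup.centralizer (A : Set G) ∧
          ¬ D ≤ Subgroup.centralizer (conjBy A n : Set G) := by
      have h := h2' A hA (conjBy A n) (hS.conj_mem A hA n) (Ne.symm hne)
      by_contra hcon
      apply h
      ext D
      refine ⟨fun ⟨hD, hDA⟩ => ⟨hD, by_contra fun h' => hcon ⟨n, hn, A, hA, D, hD, hDA, h'⟩⟩,
        fun ⟨hD, hDC⟩ => ⟨hD, by_contra fun h' =>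
          hcon ⟨n⁻¹, N.inv_mem hn, conjBy A n, hS.conj_mem A hA n, D, hD, hDC, ?_⟩⟩⟩
      rwa [conjBy_conjBy, inv_mul_cancel, conjBy_one]
    have hCS : conjBy A n ∈ S := hS.conj_mem A hA n
    have eC : (conjBy A n).map (QuotientGroup.mk' N) ≤ A.map (QuotientGroup.mk' N) := by
      rw [map_mk_le_iff]
      intro x hx
      rw [mem_conjBy] at hx
      rw [show x = (n⁻¹ * x * n) * ((n⁻¹ * x * n)⁻¹ * n * (n⁻¹ * x * n) * n⁻¹) by group]
      refine Subgroup.mul_mem _ (Subgroup.mem_sup_left hx) (Subgroup.mem_sup_right ?_)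
      refine N.mul_mem ?_ (N.inv_mem hn)
      simpa using ‹N.Normal›.conj_mem n hn (n⁻¹ * x * n)⁻¹
    have hc : ⁅D, conjBy A n⁆ ≤ N := by
      rw [commutator_le_normal_iff, eq_bot_iff]
      refine (Subgroup.commutator_mono le_rfl eC).trans ?_
      rw [← Subgroup.map_commutator, (Subgroup.commutator_eq_bot_iff_le_centralizer).2 hDA,
        Subgroup.map_bot]
    rcases hS.pair D hD _ hCS with h | h | h
    · exact absurd (Subgroup.commutator_eq_bot_iff_le_centralizer.1 h) hDC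
    · by_cases hd : IsDegenerateRootSet S
      · exact eq_top_of_member_le hS hconj hD
          (le_of_rankOne_of_card hS hD hCS (h4 D hD _ ⟨hCS, h⟩) (h3 hd D hD) hc)
      · obtain ⟨P, hP, Q, hQ, hPQ⟩ := not_degenerate_case hS hd
        obtain ⟨E, hE, hEN⟩ := exists_member_le hS hconj hD hCS h hc hP hQ hPQ
        exact eq_top_of_member_le hS hconj hE hEN
    · exact eq_top_of_member_le hS hconj h.1 hc

end Main

end H98
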