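import Cfsg.Agent.H98.Embed
import Cfsg.Agent.H98.CommutatorCase

/-! Families of subgroups seen inside the subgroup they generate. -/

set_option autoImplicit false

namespace H98

open Cfsg

variable {G : Type*} [Group G]

/-- The subgroup generated by the members of a family. -/
def famSup (S : Set (Subgroup G)) : Subgroup G := ⨆ A ∈ S, A

/-- The family seen inside the subgroup it generates. -/
def famIn (S : Set (Subgroup G)) : Set (Subgroup (famSup S)) :=
  (fun A : Subgroup G => A.subgroupOf (famSup S)) '' S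

variable {S : Set (Subgroup G)}

theorem le_famSup {A : Subgroup G} (hA : A ∈ S) : A ≤ famSup S :=
  le_iSup₂ (f := fun (A : Subgroup G) (_ : A ∈ S) => A) A hA

theorem map_subgroupOf_famSup {A : Subgroup G} (hA : A ∈ S) :
    (A.subgroupOf (famSup S)).map (famSup S).subtype = A := by
  rw [Subgroup.subgroupOf, Subgroup.map_comap_eq, Subgroup.range_subtype,
    inf_eq_right.2 (le_famSup hA)]

theorem eq_subgroupOf_of_map {X : Subgroup (famSup S)} {A : Subgroup G} (hA : A ∈ S)
    (h : X.map (famSup S).subtype = A) : X = A.subgroupOf (famSup S) :=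
  Subgroup.map_injective (famSup S).subtype_injective (by rw [h, map_subgroupOf_famSup hA])

theorem famIn_generates : (⨆ A ∈ famIn S, A) = (⊤ : Subgroup (famSup S)) := by
  apply Subgroup.map_injective (famSup S).subtype_injective
  rw [← MonoidHom.range_eq_map, Subgroup.range_subtype, famIn, iSup_image]
  simp only [Subgroup.map_iSup]
  exact iSup_congr fun A => iSup_congr fun hA => map_subgroupOf_famSup hA

theorem famIn_conj (hS : ∀ A ∈ S, ∀ g : G, conjBy A g ∈ S) :
    ∀ A ∈ famIn S, ∀ g : famSup S, conjBy A g ∈ famIn S := by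
  rintro _ ⟨A, hA, rfl⟩ g
  refine ⟨conjBy A g, hS A hA g, (eq_subgroupOf_of_map (hS A hA g) ?_).symm⟩
  conv_rhs => rw [← map_subgroupOf_famSup hA]
  rw [conjBy, conjBy, Subgroup.map_map, Subgroup.map_map]
  congr 1

theorem famIn_commutator_eq_bot {A B : Subgroup G} (hA : A ∈ S) (hB : B ∈ S) (h : ⁅A, B⁆ = ⊥) :
    ⁅A.subgroupOf (famSup S), B.subgroupOf (famSup S)⁆ = ⊥ := by
  apply Subgroup.map_injective (famSup S).subtype_injective
  rw [Subgroup.map_commutator, map_subgroupOf_famSup hA, map_subgroupOf_famSup hB, h,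
    Subgroup.map_bot]

theorem famIn_commutative {A : Subgroup G} (h : IsMulCommutative A) :
    IsMulCommutative (A.subgroupOf (famSup S)) :=
  ⟨⟨fun x y => Subtype.ext (Subtype.ext
    (by simpa using congrArg Subtype.val (h.1.1 ⟨((x : famSup S) : G), Subgroup.mem_subgroupOf.1 x.2⟩
      ⟨((y : famSup S) : G), Subgroup.mem_subgroupOf.1 y.2⟩)))⟩⟩

theorem famIn_ne_bot {A : Subgroup G} (hA : A ∈ S) (h : A ≠ ⊥) :
    A.subgroupOf (famSup S) ≠ ⊥ := fun e => h (by
  rw [← map_subgroupOf_famSup hA, e, Subgroup.map_bot])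

theorem famIn_rankOne {k : Type*} [Field k] {A B : Subgroup G} (hA : A ∈ S) (hB : B ∈ S)
    (φ : Matrix.SpecialLinearGroup (Fin 2) k →* G) (hinj : Function.Injective φ)
    (hu : (upperUnipotentSL2 k).map φ = A) (hl : (lowerUnipotentSL2 k).map φ = B) :
    IsRankOnePair (A.subgroupOf (famSup S)) (B.subgroupOf (famSup S)) ∧
      IsPSL2PairOver k (A.subgroupOf (famSup S)) (B.subgroupOf (famSup S)) := by
  have hmem : ∀ x, φ x ∈ famSup S := by
    intro x
    have hx : x ∈ upperUnipotentSL2 k ⊔ lowerUnipotentSL2 k := by rw [upper_sup_lower]; trivial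
    have hle : upperUnipotentSL2 k ⊔ lowerUnipotentSL2 k ≤ (famSup S).comap φ :=
      sup_le (Subgroup.map_le_iff_le_comap.1 (hu.le.trans (le_famSup hA)))
        (Subgroup.map_le_iff_le_comap.1 (hl.le.trans (le_famSup hB)))
    exact hle hx
  obtain ⟨ψ, hψ⟩ : ∃ ψ, ψ = φ.codRestrict (famSup S) hmem := ⟨_, rfl⟩
  have hker : ψ.ker ≤ Subgroup.center _ := by
    rw [hψ, (MonoidHom.ker_eq_bot_iff _).2 fun x y e => hinj (congrArg Subtype.val e)]
    exact bot_le
  have e1 : (upperUnipotentSL2 k).map ψ = A.subgroupOf (famSup S) := by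
    refine eq_subgroupOf_of_map hA ?_
    rw [Subgroup.map_map, ← hu, hψ]; rfl
  have e2 : (lowerUnipotentSL2 k).map ψ = B.subgroupOf (famSup S) := by
    refine eq_subgroupOf_of_map hB ?_
    rw [Subgroup.map_map, ← hl, hψ]; rfl
  rw [← e1, ← e2]
  exact ⟨isRankOnePair_image hker, isPSL2PairOver_image hker⟩

end H98

namespace H98

open Cfsg

variable {G : Type*} [Group G] {S : Set (Subgroup G)}

theorem famIn_commutatorCase {A B C : Subgroup G} (hA : A ∈ S) (hB : B ∈ S) (hC : C ∈ S)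
    (h : ⁅A, B⁆ = C) (hcA : ∀ c ∈ C, ∀ x ∈ A, Commute c x) (hcB : ∀ c ∈ C, ∀ x ∈ B, Commute c x)
    (h1 : ∀ a ∈ A, a ≠ 1 →
      Subgroup.closure ((fun b : G => a * b * a⁻¹ * b⁻¹) '' (B : Set G)) = C)
    (h2 : ∀ b ∈ B, b ≠ 1 →
      Subgroup.closure ((fun a : G => a * b * a⁻¹ * b⁻¹) '' (A : Set G)) = C) :
    RootCommutatorCase (famIn S) (A.subgroupOf (famSup S)) (B.subgroupOf (famSup S)) := by
  have e : ⁅A.subgroupOf (famSup S), B.subgroupOf (famSup S)⁆ = C.subgroupOf (famSup S) := by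
    refine eq_subgroupOf_of_map hC ?_
    rw [Subgroup.map_commutator, map_subgroupOf_famSup hA, map_subgroupOf_famSup hB, h]
  refine ⟨e ▸ ⟨C, hC, rfl⟩, fun c hc => ?_, fun a ha ha1 => ?_, fun b hb hb1 => ?_⟩
  · rw [e, Subgroup.mem_subgroupOf] at hc
    have hle : A.subgroupOf (famSup S) ⊔ B.subgroupOf (famSup S) ≤
        Subgroup.centralizer {c} := by
      refine sup_le (fun x hx => ?_) (fun x hx => ?_) <;>
        rw [Subgroup.mem_centralizer_singleton_iff]
      · exact Subtype.ext (hcA _ hc _ (Subgroup.mem_subgroupOf.1 hx)).eq.symm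
      · exact Subtype.ext (hcB _ hc _ (Subgroup.mem_subgroupOf.1 hx)).eq.symm
    exact fun x hx => (Subgroup.mem_centralizer_singleton_iff.1 (hle hx)).symm
  · rw [e]
    refine eq_subgroupOf_of_map hC ?_
    rw [MonoidHom.map_closure, ← h1 a.1 (Subgroup.mem_subgroupOf.1 ha)
      (fun e' => ha1 (Subtype.ext e')), Set.image_image]
    congr 1
    ext x
    constructor
    · rintro ⟨b, hb, rfl⟩; exact ⟨b.1, Subgroup.mem_subgroupOf.1 hb, rfl⟩
    · rintro ⟨b, hb, rfl⟩; exact ⟨⟨b, le_famSup hB hb⟩, Subgroup.mem_subgroupOf.2 hb, rfl⟩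
  · rw [e]
    refine eq_subgroupOf_of_map hC ?_
    rw [MonoidHom.map_closure, ← h2 b.1 (Subgroup.mem_subgroupOf.1 hb)
      (fun e' => hb1 (Subtype.ext e')), Set.image_image]
    congr 1
    ext x
    constructor
    · rintro ⟨a, ha, rfl⟩; exact ⟨a.1, Subgroup.mem_subgroupOf.1 ha, rfl⟩
    · rintro ⟨a, ha, rfl⟩; exact ⟨⟨a, le_famSup hA ha⟩, Subgroup.mem_subgroupOf.2 ha, rfl⟩

end H98
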