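import Mathlib

/-! Two finite checks in `A₆`. -/

set_option autoImplicit false

namespace H98

theorem a6_orders : ∀ σ : Equiv.Perm (Fin 6), Equiv.Perm.sign σ = 1 →
    σ ^ 3 = 1 ∨ σ ^ 4 = 1 ∨ σ ^ 5 = 1 := by decide +kernel

theorem a6_invol_conj : ∀ σ : Equiv.Perm (Fin 6), Equiv.Perm.sign σ = 1 → σ ^ 2 = 1 → σ ≠ 1 →
    ∃ g : Equiv.Perm (Fin 6), Equiv.Perm.sign g = 1 ∧
      g * (Equiv.swap 0 1 * Equiv.swap 2 3) = σ * g := by decide +kernel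

end H98
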