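import Cfsg.Agent.H98.TwoTransCoord

/-! The affine group of `U` inside `SL_{n+2}(2)` as the stabiliser of a functional. -/

set_option autoImplicit false

namespace H98

open Cfsg Matrix

theorem exists_vec_iso {U : Type*} [CommGroup U] [Finite U] {n : ℕ} (h2 : ∀ u : U, u * u = 1)
    (hc : Nat.card U = 2 ^ (n + 1)) {z : U} (hz : z ≠ 1) :
    ∃ E : U → (Fin (n + 1) → ZMod 2), Function.Bijective E ∧ (∀ a b, E (a * b) = E a + E b) ∧
      E z = Pi.single 0 1 := by
  let inst : Module (ZMod 2) (Additive U) := AddCommGroup.zmodModule (n := 2) fun x => by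
    rw [two_nsmul]; exact congrArg Additive.ofMul (h2 x.toMul)
  have : Module.Finite (ZMod 2) (Additive U) := Module.Finite.of_finite
  have hr : Module.finrank (ZMod 2) (Additive U) = n + 1 := by
    have := Module.natCard_eq_pow_finrank (K := ZMod 2) (V := Additive U)
    rw [Nat.card_zmod, show Nat.card (Additive U) = Nat.card U from rfl, hc] at this
    exact (Nat.pow_right_injective le_rfl this).symm
  let L : Additive U ≃ₗ[ZMod 2] (Fin (n + 1) → ZMod 2) :=
    LinearEquiv.ofFinrankEq _ _ (by rw [hr, Module.finrank_fintype_fun_eq_card, Fintype.card_fin])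
  have h0 : L (Additive.ofMul z) ≠ 0 := fun e =>
    hz (Additive.ofMul.injective ((L.map_eq_zero_iff).1 e))
  obtain ⟨g, a, ha, hg⟩ := exists_move_vec h0 (v := Pi.single 0 (1 : ZMod 2)) (by simp)
  refine ⟨fun u => g.1 *ᵥ L (Additive.ofMul u), ⟨fun u v e => ?_, fun y => ?_⟩, fun u v => ?_, ?_⟩
  · refine Additive.ofMul.injective (L.injective ?_)
    have := congrArg (fun w => (g⁻¹).1 *ᵥ w) e
    simp only [← mul_mulVec, inv_mul_cancel, Matrix.SpecialLinearGroup.coe_one, Matrix.one_mulVec] at this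
    exact this
  · refine ⟨(L.symm ((g⁻¹).1 *ᵥ y)).toMul, ?_⟩
    show g.1 *ᵥ L (Additive.ofMul (L.symm ((g⁻¹).1 *ᵥ y)).toMul) = y
    rw [ofMul_toMul, L.apply_symm_apply, ← mul_mulVec, mul_inv_cancel,
      Matrix.SpecialLinearGroup.coe_one, Matrix.one_mulVec]
  · show g.1 *ᵥ L (Additive.ofMul (u * v)) = _
    rw [ofMul_mul, map_add, Matrix.mulVec_add]
  · show g.1 *ᵥ L (Additive.ofMul z) = _
    rw [hg, (zmod2_cases' a).resolve_left ha, one_smul]

theorem pv_eq_ins (n : ℕ) :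
    pv n = Fin.insertNth 1 (0 : ZMod 2) (Pi.single 0 1 : Fin (n + 1) → ZMod 2) := by
  symm
  refine Fin.insertNth_eq_iff.2 ⟨by simp [pv], funext fun j => ?_⟩
  rw [Fin.removeNth, pv]
  by_cases hj : j = 0
  · subst hj; simp
  · rw [Pi.single_eq_of_ne hj, Pi.single_eq_of_ne]
    intro e
    exact hj (Fin.succAbove_right_injective (p := 1) (by rw [e, Fin.succAbove_ne_zero_zero]; simp))

/-- A split extension of an elementary abelian `U` by its automorphism group is the stabiliser of a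
functional in `SL_{n+2}(2)`. -/
theorem exists_affine_embed {G : Type*} [Group G] [Finite G] {n : ℕ} {U M : Subgroup G} [U.Normal]
    (hU : Cfsg.IsElementaryAbelian 2 U) (hUcard : Nat.card ↥U = 2 ^ (n + 1)) (hUM : U ⊓ M = ⊥)
    (hUM' : U ⊔ M = ⊤) (hfaith : ∀ m ∈ M, (∀ u ∈ U, m * u * m⁻¹ = u) → m = 1)
    (hfull : ∀ φ : ↥U ≃* ↥U, ∃ m ∈ M, ∀ u : ↥U, ((φ u : ↥U) : G) = m * u * m⁻¹)
    {z : G} (hzU : z ∈ U) (hz : z ≠ 1) :
    ∃ f : G →* Matrix.SpecialLinearGroup (Fin (n + 2)) (ZMod 2), Function.Injective f ∧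
      cStd n ≤ f.range ∧ f z = tm (pv n) (fv n) 1 := by
  have := hU.1
  letI : CommGroup U := { (inferInstance : Group U) with mul_comm := fun a b => mul_comm' a b }
  have h2 : ∀ u : U, u * u = 1 := fun u => Subtype.ext (by
    rw [Subgroup.coe_mul, ← pow_two]; exact hU.2 _ u.2)
  obtain ⟨E, hE, hEmul, hEz⟩ :=
    exists_vec_iso h2 hUcard (z := ⟨z, hzU⟩) (fun e => hz (congrArg Subtype.val e))
  have hE1 : E 1 = 0 := by
    have := hEmul 1 1
    rw [one_mul] at this
    exact (left_eq_add.1 this)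
  obtain ⟨Einv, hli, hri⟩ := Function.bijective_iff_has_inverse.1 hE
  have hIadd : ∀ a b, Einv (a + b) = Einv a * Einv b := fun a b => hE.1 (by
    rw [hEmul, hri, hri, hri])
  have hI0 : Einv 0 = 1 := by rw [← hE1, hli]
  have hdec : ∀ x : G, ∃ u : U, (u : G)⁻¹ * x ∈ M := fun x => by
    obtain ⟨u, hu, m, hm, rfl⟩ := Subgroup.mem_sup_of_normal_left.1 (show x ∈ U ⊔ M by rw [hUM']; trivial)
    exact ⟨⟨u, hu⟩, by simpa using hm⟩
  choose c hc using hdec
  have huniq : ∀ {u : U} {m : G}, m ∈ M → c ((u : G) * m) = u := fun {u m} hm => by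
    have h1 := hc ((u : G) * m)
    have h2 : ((c ((u : G) * m) : G))⁻¹ * u ∈ U ⊓ M := by
      refine Subgroup.mem_inf.2 ⟨mul_mem (inv_mem (c _).2) u.2, ?_⟩
      simpa [mul_assoc] using mul_mem h1 (inv_mem hm)
    rw [hUM, Subgroup.mem_bot, inv_mul_eq_one] at h2
    exact Subtype.ext h2
  let cj : G → U → U := fun x u => ⟨x * u * x⁻¹, ‹U.Normal›.conj_mem _ u.2 x⟩
  have hcj : ∀ x u v, cj x (u * v) = cj x u * cj x v := fun x u v => Subtype.ext (by
    show x * (u * v : G) * x⁻¹ = x * u * x⁻¹ * (x * v * x⁻¹)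
    group)
  have hcjU : ∀ (a : U) v, cj a v = v := fun a v => Subtype.ext (by
    show (a : G) * v * (a : G)⁻¹ = v
    rw [mul_inv_eq_iff_eq_mul]
    exact congrArg Subtype.val (mul_comm a v))
  have hcjmul : ∀ x y u, cj (x * y) u = cj x (cj y u) := fun x y u => Subtype.ext (by
    show x * y * (u : G) * (x * y)⁻¹ = x * (y * u * y⁻¹) * x⁻¹
    group)
  have hcmul : ∀ x y, c (x * y) = c x * cj x (c y) := fun x y => by
    have hm1 := hc x
    have hm2 := hc y
    have e : x * y = ((c x * cj ((c x : G)⁻¹ * x) (c y) : U) : G) *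
        (((c x : G)⁻¹ * x) * ((c y : G)⁻¹ * y)) := by
      show x * y = (c x : G) * ((c x : G)⁻¹ * x * c y * ((c x : G)⁻¹ * x)⁻¹) * _
      group
    conv_lhs => rw [e]
    rw [huniq (mul_mem hm1 hm2)]
    have : cj x (c y) = cj ((c x : G)⁻¹ * x) (c y) := by
      conv_lhs => rw [show x = (c x : G) * ((c x : G)⁻¹ * x) by group]
      rw [hcjmul, hcjU]
    rw [this]
  have hc1 : c 1 = 1 := by simpa using huniq (u := 1) (one_mem M)
  let F : G → (Fin (n + 2) → ZMod 2) → (Fin (n + 2) → ZMod 2) := fun x v =>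
    Fin.insertNth 1 (v 1) (E (cj x (Einv (Fin.removeNth 1 v))) + v 1 • E (c x))
  have hFadd : ∀ x v w, F x (v + w) = F x v + F x w := fun x v w => by
    refine Fin.insertNth_eq_iff.2 ⟨?_, ?_⟩
    · simp [F]
    · rw [show Fin.removeNth 1 (v + w) = Fin.removeNth 1 v + Fin.removeNth 1 w from rfl,
        show Fin.removeNth 1 (F x v + F x w) = Fin.removeNth 1 (F x v) + Fin.removeNth 1 (F x w)
          from rfl, hIadd, hcj, hEmul]
      simp only [F, Fin.removeNth_insertNth, Pi.add_apply]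
      module
  have hFmul : ∀ x y v, F x (F y v) = F (x * y) v := fun x y v => by
    simp only [F, Fin.insertNth_apply_same, Fin.removeNth_insertNth]
    congr 1
    have hsm : Einv (v 1 • E (c y)) = if v 1 = 1 then c y else 1 := by
      rcases zmod2_cases' (v 1) with e | e <;> simp [e, hI0, hli _]
    rw [hIadd, hcj, hEmul, hli, hcmul, hEmul, smul_add, hcjmul, hsm, add_assoc, add_comm _ (v 1 • E (cj x (c y)))]
    congr 2
    rcases zmod2_cases' (v 1) with e | e
    · simp [e, hE1, show cj x 1 = 1 from Subtype.ext (by simp [cj])]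
    · simp [e]
  have hF1 : ∀ v, F 1 v = v := fun v => by
    refine Fin.insertNth_eq_iff.2 ⟨rfl, ?_⟩
    rw [show cj 1 (Einv (Fin.removeNth 1 v)) = Einv (Fin.removeNth 1 v) from
      Subtype.ext (by simp [cj]), hri, hc1, hE1, smul_zero, add_zero]
  let A : G → Matrix (Fin (n + 2)) (Fin (n + 2)) (ZMod 2) := fun x =>
    LinearMap.toMatrix' ((AddMonoidHom.mk' (F x) (hFadd x)).toZModLinearMap 2)
  have hA : ∀ x v, A x *ᵥ v = F x v := fun x v => by
    simp only [A, LinearMap.toMatrix'_mulVec]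
    rfl
  have hAmul : ∀ x y, A (x * y) = A x * A y := fun x y => Matrix.ext_iff_mulVec.2 fun v => by
    rw [← Matrix.mulVec_mulVec, hA, hA, hA, hFmul]
  have hA1 : A 1 = 1 := Matrix.ext_iff_mulVec.2 fun v => by rw [hA, Matrix.one_mulVec, hF1]
  have hdet : ∀ x, (A x).det = 1 := fun x => (zmod2_cases' _).resolve_left fun e => by
    have := congrArg Matrix.det (hAmul x x⁻¹)
    rw [Matrix.det_mul, e, zero_mul, mul_inv_cancel, hA1, Matrix.det_one] at this
    exact one_ne_zero this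
  let f : G →* Matrix.SpecialLinearGroup (Fin (n + 2)) (ZMod 2) :=
    { toFun := fun x => ⟨A x, hdet x⟩
      map_one' := Subtype.ext hA1
      map_mul' := fun x y => Subtype.ext (hAmul x y) }
  have hfv : ∀ x v, (f x).1 *ᵥ v = F x v := hA
  have hins : ∀ (t : ZMod 2) (y : Fin (n + 1) → ZMod 2),
      (Fin.insertNth 1 t y : Fin (n + 2) → ZMod 2) 1 = t ∧
      Fin.removeNth 1 (Fin.insertNth 1 t y : Fin (n + 2) → ZMod 2) = y :=
    fun t y => ⟨Fin.insertNth_apply_same _ _ _, Fin.removeNth_insertNth _ _ _⟩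
  refine ⟨f, (injective_iff_map_eq_one f).2 fun x hx => ?_, fun g hg => ?_, ?_⟩
  · have hv : ∀ t y, F x (Fin.insertNth 1 t y) = Fin.insertNth 1 t y := fun t y => by
      rw [← hfv, hx, Matrix.SpecialLinearGroup.coe_one, Matrix.one_mulVec]
    have e1 : c x = 1 := by
      have := congrArg (Fin.removeNth 1) (hv 1 0)
      simp only [F, (hins 1 0).1, (hins 1 0).2, Fin.removeNth_insertNth, hI0, one_smul] at this
      rw [show cj x 1 = 1 from Subtype.ext (by simp [cj]), hE1, zero_add, ← hE1] at this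
      exact hE.1 this
    have hxM : x ∈ M := by simpa [e1] using hc x
    refine hfaith x hxM fun u hu => ?_
    have := congrArg (Fin.removeNth 1) (hv 0 (E ⟨u, hu⟩))
    simp only [F, (hins 0 (E ⟨u, hu⟩)).1, (hins 0 (E ⟨u, hu⟩)).2, Fin.removeNth_insertNth, hli _,
      zero_smul, add_zero] at this
    exact congrArg Subtype.val (hE.1 this)
  · have hrow : ∀ v, (g.1 *ᵥ v) 1 = v 1 := fun v => by
      show g.1 1 ⬝ᵥ v = v 1
      rw [show g.1 1 = Pi.single 1 1 from funext ((mem_cStd n).1 hg).2, single_dotProduct, one_mul]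
    let lin : (Fin (n + 1) → ZMod 2) → (Fin (n + 1) → ZMod 2) := fun y =>
      Fin.removeNth 1 (g.1 *ᵥ Fin.insertNth 1 0 y)
    have hlinadd : ∀ a b, lin (a + b) = lin a + lin b := fun a b => by
      show Fin.removeNth 1 (g.1 *ᵥ Fin.insertNth 1 0 (a + b)) =
        Fin.removeNth 1 (g.1 *ᵥ Fin.insertNth 1 0 a + g.1 *ᵥ Fin.insertNth 1 0 b)
      rw [← Matrix.mulVec_add]
      congr 2
      refine Fin.insertNth_eq_iff.2 ⟨?_, ?_⟩
      · simp
      · rw [show Fin.removeNth 1 ((Fin.insertNth 1 0 a : Fin (n + 2) → ZMod 2) + Fin.insertNth 1 0 b) =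
          Fin.removeNth 1 (Fin.insertNth 1 0 a : Fin (n + 2) → ZMod 2) +
            Fin.removeNth 1 (Fin.insertNth 1 0 b : Fin (n + 2) → ZMod 2) from rfl]
        simp
    have hlinj : Function.Injective lin := fun a b e => by
      have e2 : g.1 *ᵥ (Fin.insertNth 1 0 a : Fin (n + 2) → ZMod 2) =
          g.1 *ᵥ (Fin.insertNth 1 0 b : Fin (n + 2) → ZMod 2) := by
        rw [← Fin.insertNth_self_removeNth 1 (g.1 *ᵥ _), ← Fin.insertNth_self_removeNth 1
          (g.1 *ᵥ (Fin.insertNth 1 0 b : Fin (n + 2) → ZMod 2))]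
        rw [hrow, hrow, (hins 0 a).1, (hins 0 b).1]
        exact congrArg _ e
      have := congrArg (fun w => Fin.removeNth 1 ((g⁻¹).1 *ᵥ w)) e2
      simp only [← mul_mulVec, inv_mul_cancel, Matrix.SpecialLinearGroup.coe_one, Matrix.one_mulVec,
        Fin.removeNth_insertNth] at this
      exact this
    let aut : U ≃* U := MulEquiv.ofBijective
      (MonoidHom.mk' (fun u => Einv (lin (E u))) fun a b => by rw [hEmul, hlinadd, hIadd])
      (Finite.injective_iff_bijective.1 fun a b e => hE.1 (hlinj (by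
        simpa [hri _] using congrArg E e)))
    obtain ⟨m, hm, hmu⟩ := hfull aut
    let t1 : U := Einv (Fin.removeNth 1 (g.1 *ᵥ Fin.insertNth 1 1 0))
    refine ⟨(t1 : G) * m, sl_ext_mulVec fun v => ?_⟩
    rw [hfv]
    have hcm : ∀ u : U, cj ((t1 : G) * m) u = Einv (lin (E u)) := fun u => by
      rw [hcjmul, hcjU]
      exact (Subtype.ext (hmu u)).symm
    have hdecv : v = (Fin.insertNth 1 0 (Fin.removeNth 1 v) : Fin (n + 2) → ZMod 2) +
        v 1 • Fin.insertNth 1 1 0 := by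
      conv_lhs => rw [← Fin.insertNth_self_removeNth 1 v]
      refine Fin.insertNth_eq_iff.2 ⟨by simp, ?_⟩
      rw [show Fin.removeNth 1 ((Fin.insertNth 1 0 (Fin.removeNth 1 v) : Fin (n + 2) → ZMod 2) +
        v 1 • Fin.insertNth 1 1 0) = Fin.removeNth 1 (Fin.insertNth 1 0 (Fin.removeNth 1 v) : Fin (n + 2) → ZMod 2) +
          v 1 • Fin.removeNth 1 (Fin.insertNth 1 1 0 : Fin (n + 2) → ZMod 2) from rfl,
        (hins 0 _).2, (hins 1 0).2, smul_zero, add_zero]
    refine Fin.insertNth_eq_iff.2 ⟨(hrow v).symm, ?_⟩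
    rw [hcm, hri, hri, huniq hm, hri]
    conv_rhs => rw [hdecv, Matrix.mulVec_add, Matrix.mulVec_smul]
    rfl
  · refine sl_ext_mulVec fun v => ?_
    rw [hfv, tm_mulVec (fv_pv n), one_mul, pv_eq_ins, fv, single_dotProduct, one_mul]
    have hcz : c z = ⟨z, hzU⟩ := by simpa using huniq (u := ⟨z, hzU⟩) (one_mem M)
    refine Fin.insertNth_eq_iff.2 ⟨by simp, ?_⟩
    rw [show cj z (Einv (Fin.removeNth 1 v)) = Einv (Fin.removeNth 1 v) from hcjU ⟨z, hzU⟩ _,
      hri, hcz, hEz]
    have hlin : ∀ w : Fin (n + 2) → ZMod 2,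
        Fin.removeNth 1 (v + v 1 • w) = Fin.removeNth 1 v + v 1 • Fin.removeNth 1 w := fun w => rfl
    rw [hlin, (hins _ _).2]

end H98
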