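import Cfsg.Agent.H98.RootSet

/-! Components of the rank one graph on a set of abstract root subgroups. -/

set_option autoImplicit false

namespace H98

open Cfsg

variable {G : Type*} [Group G] {S : Set (Subgroup G)}

theorem isRankOnePair_conj {A B : Subgroup G} (h : IsRankOnePair A B) (g : G) :
    IsRankOnePair (conjBy A g) (conjBy B g) := by
  have hc : ∀ {A B : Subgroup G}, RankOneCondition A B →
      RankOneCondition (conjBy A g) (conjBy B g) := by
    intro A B h a ha ha1
    rw [mem_conjBy] at ha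
    obtain ⟨b, hb, hb1, he⟩ := h _ ha (fun e => ha1 (by
      calc a = g * (g⁻¹ * a * g) * g⁻¹ := by group
        _ = 1 := by rw [e]; group))
    refine ⟨g * b * g⁻¹, conj_mem_conjBy g hb, fun e => hb1 (conj_eq_one_iff.1 e), ?_⟩
    rw [conjBy_conjBy, conjBy_conjBy, show (g * b * g⁻¹)⁻¹ * g = g * b⁻¹ by group,
      ← conjBy_conjBy (g := g), he, conjBy_conjBy]
    congr 1; group
  haveI := h.nilpotent_left
  haveI := h.nilpotent_right
  exact ⟨fun e => h.ne (conjBy_inj.1 e), Group.nilpotent_of_mulEquiv (conjEquiv A g),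
    Group.nilpotent_of_mulEquiv (conjEquiv B g), hc h.cond_left, hc h.cond_right⟩

variable (hS : IsRootSubgroupSet S)

include hS

theorem fadj_conj {A B : Subgroup G} (g : G) (h : FAdj S A B) :
    FAdj S (conjBy A g) (conjBy B g) :=
  ⟨hS.conj_mem A h.1 g, hS.conj_mem B h.2.1 g, isRankOnePair_conj h.2.2 g⟩

theorem reflTransGen_conj {A B : Subgroup G} (g : G) (h : Relation.ReflTransGen (FAdj S) A B) :
    Relation.ReflTransGen (FAdj S) (conjBy A g) (conjBy B g) :=
  by
  induction h with
  | refl => exact .refl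
  | tail _ h ih => exact ih.tail (fadj_conj hS g h)

omit hS in
theorem reflTransGen_symm {A B : Subgroup G} (h : Relation.ReflTransGen (FAdj S) A B) :
    Relation.ReflTransGen (FAdj S) B A :=
  by
  induction h with
  | refl => exact .refl
  | tail _ h ih => exact ih.head (fadj_symm h)

/-- In any set, if every member has a partner then an element of a member maps each member into
its own component. -/
theorem reflTransGen_conj_self (hF : ∀ A ∈ S, ¬ IsIsolatedIn (FAdj S) S A) {C D : Subgroup G}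
    (hC : C ∈ S) (hD : D ∈ S) {c : G} (hc : c ∈ C) :
    Relation.ReflTransGen (FAdj S) D (conjBy D c) := by
  by_cases hCD : IsRankOnePair C D
  · have h1 : FAdj S D C := ⟨hD, hC, RankOnePair_symm hCD⟩
    have h2 := fadj_conj hS c (fadj_symm h1)
    rw [conjBy_self hc] at h2
    exact Relation.ReflTransGen.trans (.single h1) (.single h2)
  obtain ⟨D', hD', hr⟩ := exists_partner_of_not_isolated hD (hF D hD)
  set E := conjBy D c with hE
  have hES : E ∈ S := hS.conj_mem D hD c
  by_cases hED' : IsRankOnePair E D'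
  · exact (Relation.ReflTransGen.single ⟨hD, hD', hr⟩).tail
      (fadj_symm ⟨hES, hD', hED'⟩)
  rcases hS.pair C hC D hD with h | h | h
  · have : E = D := by
      rw [hE, conjBy_eq_self_iff]
      refine Subgroup.mem_normalizer_iff.2 fun n => ?_
      constructor
      · intro hn
        rwa [(commute_of_commutator_eq_bot h hc hn).eq, mul_inv_cancel_right]
      · intro hn
        have h6 : c⁻¹ * (c * n * c⁻¹) * c = c * n * c⁻¹ := by
          rw [mul_assoc, ← (commute_of_commutator_eq_bot h hc hn).eq, inv_mul_cancel_left]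
        rw [← h6] at hn
        simpa [mul_assoc] using hn
    rw [this]
  · exact absurd h hCD
  · obtain ⟨d, hd, hd1⟩ := exists_mem_ne_one (hS.ne_bot D hD)
    have hF' : ⁅C, D⁆ ∈ S := h.1
    have hf : c * d * c⁻¹ * d⁻¹ ∈ ⁅C, D⁆ := Subgroup.commutator_mem_commutator hc hd
    have hfD : ∀ x ∈ D, Commute (c * d * c⁻¹ * d⁻¹) x := fun x hx =>
      h.2.1 _ hf _ (Subgroup.mem_sup_right hx)
    have hde : d * (c * d * c⁻¹ * d⁻¹) = c * d * c⁻¹ := by
      rw [← (hfD d hd).eq]; group
    by_cases hF1 : IsRankOnePair ⁅C, D⁆ D'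
    · -- apply the line lemma to the partner `conjBy D' c` of `E`
      have hr2 : IsRankOnePair E (conjBy D' c) := isRankOnePair_conj hr c
      by_cases hDD : IsRankOnePair D (conjBy D' c)
      · exact (Relation.ReflTransGen.single ⟨hD, hS.conj_mem D' hD' c, hDD⟩).tail
          (fadj_symm ⟨hES, hS.conj_mem D' hD' c, hr2⟩)
      by_cases hFF : IsRankOnePair ⁅C, D⁆ (conjBy D' c)
      · exact (((Relation.ReflTransGen.single ⟨hD, hD', hr⟩).tail
          (fadj_symm ⟨hF', hD', hF1⟩)).tail ⟨hF', hS.conj_mem D' hD' c, hFF⟩).tail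
          (fadj_symm ⟨hES, hS.conj_mem D' hD' c, hr2⟩)
      exfalso
      have hfi : (c * d * c⁻¹ * d⁻¹)⁻¹ ∈ ⁅C, D⁆ := Subgroup.inv_mem _ hf
      refine line_lemma hS (hS.conj_mem D' hD' c) hr2 (a := c * d * c⁻¹)
        (b := (c * d * c⁻¹ * d⁻¹)⁻¹) (conj_mem_conjBy c hd) (fun e => hd1 (conj_eq_one_iff.1 e))
        (fun x hx => ?_) (fun u hu v hv => ?_) (fun u hu v hv => ?_)
      · rw [hE, mem_conjBy] at hx
        have h7 := (Commute.conj_iff c).2 ((hfD _ hx).inv_left)
        have hfc : c * (c * d * c⁻¹ * d⁻¹)⁻¹ * c⁻¹ = (c * d * c⁻¹ * d⁻¹)⁻¹ := by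
          rw [← h.2.1 _ hfi c (Subgroup.mem_sup_left hc), mul_inv_cancel_right]
        rwa [hfc, show c * (c⁻¹ * x * c) * c⁻¹ = x by group] at h7
      · exact conj_commute_of_not_rankOne hS hF' (hS.conj_mem D' hD' c) hFF hfi hu hv
      · have e : c * d * c⁻¹ * (c * d * c⁻¹ * d⁻¹)⁻¹ = d := by
          rw [show (c * d * c⁻¹ * d⁻¹)⁻¹ = d * (c * d * c⁻¹)⁻¹ by group,
            ← mul_assoc]
          have h8 : Commute (c * d * c⁻¹) d := conj_commute_of_not_rankOne hS hC hD hCD hc hd hd
          rw [h8.eq, mul_inv_cancel_right]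
        rw [e]
        exact conj_commute_of_not_rankOne hS hD (hS.conj_mem D' hD' c) hDD hd hu hv
    · exfalso
      refine line_lemma hS hD' hr (a := d) (b := c * d * c⁻¹ * d⁻¹) hd hd1 hfD
        (fun u hu v hv => conj_commute_of_not_rankOne hS hF' hD' hF1 hf hu hv)
        (fun u hu v hv => ?_)
      rw [hde]
      exact conj_commute_of_not_rankOne hS hES hD' hED' (conj_mem_conjBy c hd) hu hv

theorem mem_component_all (hF : ∀ A ∈ S, ¬ IsIsolatedIn (FAdj S) S A) (g : G) :
    ∀ D ∈ S, Relation.ReflTransGen (FAdj S) D (conjBy D g) := by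
  have hg : g ∈ ⨆ A ∈ S, A := by rw [hS.generates]; trivial
  rw [iSup_subtype'] at hg
  induction hg using Subgroup.iSup_induction' with
  | hp i x hx => exact fun D hD => reflTransGen_conj_self hS hF i.2 hD hx
  | h1 => intro D _; rw [conjBy_one]
  | hmul x y _ _ ix iy =>
    intro D hD
    rw [← conjBy_conjBy]
    exact (iy D hD).trans (ix _ (hS.conj_mem D hD y))

theorem exists_conj_of_reflTransGen {A B : Subgroup G} (h : Relation.ReflTransGen (FAdj S) A B) :
    ∃ g : G, B = conjBy A g := by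
  induction h with
  | refl => exact ⟨1, (conjBy_one A).symm⟩
  | tail _ h ih =>
    obtain ⟨g, rfl⟩ := ih
    obtain ⟨x, -, hx⟩ := right_mem_unipotent h.2.2
    exact ⟨x * g, by rw [hx, conjBy_conjBy]⟩

theorem rootSet_trans_unique {A B : Subgroup G} (hA : ¬ IsIsolatedIn (FAdj S) S A) (hAS : A ∈ S)
    (hB : B ∈ S) {x : G} (hxA : x ∈ A) (hxB : x ∈ B) (hx : x ≠ 1) : A = B := by
  obtain ⟨D, hD, hr⟩ := exists_partner_of_not_isolated hAS hA
  exact eq_of_mem_both hS hD hB hr hxA hxB hx

omit hS in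
theorem not_isolated_conj (hS : IsRootSubgroupSet S) {A : Subgroup G} (g : G) (hAS : A ∈ S)
    (hA : ¬ IsIsolatedIn (FAdj S) S A) : ¬ IsIsolatedIn (FAdj S) S (conjBy A g) := by
  obtain ⟨D, hD, hr⟩ := exists_partner_of_not_isolated hAS hA
  exact not_isolated_of_partner (hS.conj_mem A hAS g) (hS.conj_mem D hD g) (isRankOnePair_conj hr g)

end H98
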