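import Cfsg.Agent.H98.RankOne

/-! Elementary theory of sets of abstract root subgroups (Timmesfeld, chapter II §2):
exclusiveness of the three cases, trivial intersections, the line lemma, components. -/

set_option autoImplicit false

namespace H98

open Cfsg

section RankOneMore

variable {G : Type*} [Group G] {A B : Subgroup G} (h : IsRankOnePair A B)

include h

theorem sup_eq_of_unipotent {C D : Subgroup G} (hC : C ∈ unipotentSubgroups A B)
    (hD : D ∈ unipotentSubgroups A B) (hne : C ≠ D) : C ⊔ D = A ⊔ B := by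
  obtain ⟨x, hx, hx1, hx2⟩ := exists_map_to_pair h hC hD hne
  have e1 : conjBy (C ⊔ D) x = A ⊔ B := by rw [conjBy_sup, hx1, hx2]
  have e2 : conjBy (A ⊔ B) x = A ⊔ B := conjBy_self hx
  rw [← e2, conjBy_inj] at e1
  exact e1

theorem not_commute_of_unipotent {C D : Subgroup G} (hC : C ∈ unipotentSubgroups A B)
    (hD : D ∈ unipotentSubgroups A B) (hne : C ≠ D) {c d : G} (hc : c ∈ C) (hc1 : c ≠ 1)
    (hd : d ∈ D) (hd1 : d ≠ 1) : ¬ Commute c d := by
  intro hcd
  obtain ⟨x, -, hx1, hx2⟩ := exists_map_to_pair h hC hD hne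
  have hc' : x * c * x⁻¹ ∈ A := hx1 ▸ conj_mem_conjBy x hc
  have hd' : x * d * x⁻¹ ∈ B := hx2 ▸ conj_mem_conjBy x hd
  exact hc1 (conj_eq_one_iff.1 (eq_one_of_commute h hc' hd' (fun e => hd1 (conj_eq_one_iff.1 e))
    ((Commute.conj_iff x).2 hcd)))

theorem not_commute_conj {a b : G} (ha : a ∈ A) (ha1 : a ≠ 1) (hb : b ∈ B) (hb1 : b ≠ 1) :
    ¬ Commute (a * b * a⁻¹) b :=
  not_commute_of_unipotent h
    (conjBy_mem_unipotent h (right_mem_unipotent h) (Subgroup.mem_sup_left ha))
    (right_mem_unipotent h) (fun e => ha1 (eq_one_of_conjBy_right_eq h ha e))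
    (conj_mem_conjBy a hb) (fun e => hb1 (conj_eq_one_iff.1 e)) hb hb1

/-- An element fixing `A` and all points `B^a` commutes with `A`. -/
theorem commute_of_fix {e : G} (hA : conjBy A e = A)
    (hB : ∀ a ∈ A, conjBy (conjBy B a) e = conjBy B a) {a : G} (ha : a ∈ A) : Commute e a := by
  have h1 : e * a * e⁻¹ * a⁻¹ ∈ A := by
    refine A.mul_mem ?_ (A.inv_mem ha)
    have := conj_mem_conjBy e ha
    rwa [hA] at this
  have h2 : conjBy B (e * a * e⁻¹ * a⁻¹) = B := by
    have h3 := hB 1 A.one_mem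
    rw [conjBy_one] at h3
    have h4 : conjBy B (a * e⁻¹ * a⁻¹) = B := by
      have h5 := hB a⁻¹ (A.inv_mem ha)
      have h6 : conjBy (conjBy B a⁻¹) e⁻¹ = conjBy B a⁻¹ := by
        conv_lhs => rw [← h5, conjBy_conjBy, inv_mul_cancel, conjBy_one]
      rw [← conjBy_conjBy, ← conjBy_conjBy, h6, conjBy_conjBy, mul_inv_cancel, conjBy_one]
    rw [show e * a * e⁻¹ * a⁻¹ = e * (a * e⁻¹ * a⁻¹) by group, ← conjBy_conjBy, h4, h3]
  exact mul_inv_eq_iff_eq_mul.1 (mul_inv_eq_one.1 (eq_one_of_conjBy_right_eq h h1 h2))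

/-- An element fixing every unipotent subgroup centralises the rank one group. -/
theorem mem_centralizer_of_fix_all {e : G}
    (hall : ∀ C ∈ unipotentSubgroups A B, conjBy C e = C) :
    e ∈ Subgroup.centralizer ((A ⊔ B : Subgroup G) : Set G) := by
  have hle : A ⊔ B ≤ Subgroup.centralizer {e} := by
    refine sup_le (fun a ha => ?_) (fun b hb => ?_)
    · rw [Subgroup.mem_centralizer_singleton_iff]
      exact (commute_of_fix h (hall A (left_mem_unipotent h))
        (fun a ha => hall _ (conjBy_mem_unipotent h (right_mem_unipotent h)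
          (Subgroup.mem_sup_left ha))) ha).symm
    · rw [Subgroup.mem_centralizer_singleton_iff]
      exact (commute_of_fix (RankOnePair_symm h) (hall B (right_mem_unipotent h))
        (fun b hb => hall _ (conjBy_mem_unipotent h (left_mem_unipotent h)
          (Subgroup.mem_sup_right hb))) hb).symm
  intro x hx
  exact Subgroup.mem_centralizer_singleton_iff.1 (hle hx)

end RankOneMore

section RootSet

variable {G : Type*} [Group G] {S : Set (Subgroup G)}

theorem rootCommutatorCase_symm {A B : Subgroup G} (h : RootCommutatorCase S A B) :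
    RootCommutatorCase S B A := by
  obtain ⟨h1, h2, h3, h4⟩ := h
  have hinv : ∀ (s : Set G), Subgroup.closure ((fun x => x⁻¹) '' s) = Subgroup.closure s := by
    intro s
    apply le_antisymm <;> rw [Subgroup.closure_le]
    · rintro _ ⟨x, hx, rfl⟩; exact Subgroup.inv_mem _ (Subgroup.subset_closure hx)
    · intro x hx
      have := Subgroup.inv_mem _ (Subgroup.subset_closure (k := (fun x => x⁻¹) '' s) ⟨x, hx, rfl⟩)
      simpa using this
  rw [RootCommutatorCase, Subgroup.commutator_comm B A, sup_comm B A]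
  refine ⟨h1, h2, fun b hb hb1 => ?_, fun a ha ha1 => ?_⟩
  · rw [← h4 b hb hb1, ← hinv, Set.image_image]
    simp [mul_assoc]
  · rw [← h3 a ha ha1, ← hinv, Set.image_image]
    simp [mul_assoc]

theorem fadj_symm {A B : Subgroup G} (h : FAdj S A B) : FAdj S B A :=
  ⟨h.2.1, h.1, RankOnePair_symm h.2.2⟩

theorem exists_partner_of_not_isolated {A : Subgroup G} (hAS : A ∈ S)
    (hA : ¬ IsIsolatedIn (FAdj S) S A) : ∃ D ∈ S, IsRankOnePair A D := by
  by_contra hne
  push Not at hne
  exact hA ⟨hAS, fun B => ⟨fun h => hne B h.2.1 h.2.2,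
    fun h => hne B h.1 (RankOnePair_symm h.2.2)⟩⟩

theorem not_isolated_of_partner {A D : Subgroup G} (hAS : A ∈ S) (hD : D ∈ S)
    (h : IsRankOnePair A D) : ¬ IsIsolatedIn (FAdj S) S A :=
  fun hi => (hi.2 D).1 ⟨hAS, hD, h⟩

theorem commute_of_commutator_eq_bot {A B : Subgroup G} (h : ⁅A, B⁆ = ⊥) {a b : G} (ha : a ∈ A)
    (hb : b ∈ B) : Commute a b :=
  (commutatorElement_eq_one_iff_commute (g₁ := a) (g₂ := b)).1
    (by rw [← Subgroup.mem_bot, ← h]; exact Subgroup.commutator_mem_commutator ha hb)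

variable (hS : IsRootSubgroupSet S)

include hS

theorem commute_of_mem {A : Subgroup G} (hA : A ∈ S) {a b : G} (ha : a ∈ A) (hb : b ∈ A) :
    Commute a b :=
  haveI := hS.commutative A hA
  setLike_mul_comm (S := Subgroup G) ha hb

/-- If `(C, D)` is not a rank one pair, conjugates of `d` by elements of `C` commute with `D`. -/
theorem conj_commute_of_not_rankOne {C D : Subgroup G} (hC : C ∈ S) (hD : D ∈ S)
    (hn : ¬ IsRankOnePair C D) {c d d' : G} (hc : c ∈ C) (hd : d ∈ D) (hd' : d' ∈ D) :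
    Commute (c * d * c⁻¹) d' := by
  rcases hS.pair C hC D hD with h | h | h
  · rw [(commute_of_commutator_eq_bot h hc hd).eq, mul_inv_cancel_right]
    exact commute_of_mem hS hD hd hd'
  · exact absurd h hn
  · have hz : c * d * c⁻¹ * d⁻¹ ∈ ⁅C, D⁆ := Subgroup.commutator_mem_commutator hc hd
    have e : c * d * c⁻¹ = (c * d * c⁻¹ * d⁻¹) * d := by group
    rw [e]
    exact Commute.mul_left (h.2.1 _ hz _ (Subgroup.mem_sup_right hd'))
      (commute_of_mem hS hD hd hd')

theorem ne_rankOne_of_rootCommutatorCase {A B : Subgroup G} (hA : A ∈ S) (hB : B ∈ S)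
    (h : RootCommutatorCase S A B) : ¬ IsRankOnePair A B := by
  intro hr
  obtain ⟨a, ha, ha1⟩ := exists_mem_ne_one (hS.ne_bot A hA)
  obtain ⟨b, hb, hb1⟩ := exists_mem_ne_one (hS.ne_bot B hB)
  have hz : a * b * a⁻¹ * b⁻¹ ∈ ⁅A, B⁆ := Subgroup.commutator_mem_commutator ha hb
  refine not_commute_conj hr ha ha1 hb hb1 ?_
  rw [show a * b * a⁻¹ = (a * b * a⁻¹ * b⁻¹) * b by group]
  exact Commute.mul_left (h.2.1 _ hz _ (Subgroup.mem_sup_right hb)) (Commute.refl b)

theorem commutator_ne_bot_of_rankOne {A B : Subgroup G} (hA : A ∈ S) (hB : B ∈ S)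
    (hr : IsRankOnePair A B) : ⁅A, B⁆ ≠ ⊥ := by
  intro h
  obtain ⟨a, ha, ha1⟩ := exists_mem_ne_one (hS.ne_bot A hA)
  obtain ⟨b, hb, hb1⟩ := exists_mem_ne_one (hS.ne_bot B hB)
  exact ha1 (eq_one_of_commute hr ha hb hb1 (commute_of_commutator_eq_bot h ha hb))

/-- A member inside a rank one group is one of its points or is central in it. -/
theorem mem_unipotent_or_centralizer {C D E : Subgroup G} (hC : C ∈ S) (hE : E ∈ S)
    (hr : IsRankOnePair C D) (hle : E ≤ C ⊔ D) :
    E ∈ unipotentSubgroups C D ∨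
      E ≤ Subgroup.centralizer ((C ⊔ D : Subgroup G) : Set G) := by
  by_cases hfix : ∀ e ∈ E, ∀ F ∈ unipotentSubgroups C D, conjBy F e = F
  · exact Or.inr fun e he => mem_centralizer_of_fix_all hr (hfix e he)
  · left
    push Not at hfix
    obtain ⟨e, he, F, hF, hne⟩ := hfix
    have hFS : F ∈ S := by obtain ⟨x, -, rfl⟩ := hF; exact hS.conj_mem C hC x
    obtain ⟨f, hf, hf1⟩ := exists_mem_ne_one (hS.ne_bot F hFS)
    have hF' := conjBy_mem_unipotent hr hF (hle he)
    have hr' : IsRankOnePair E F := by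
      by_contra hn
      exact not_commute_of_unipotent hr hF' hF hne (conj_mem_conjBy e hf)
        (fun h => hf1 (conj_eq_one_iff.1 h)) hf hf1
        (conj_commute_of_not_rankOne hS hE hFS hn he hf hf)
    have he1 : e⁻¹ ≠ 1 := by
      intro h
      rw [inv_eq_one] at h
      exact hne (by rw [h, conjBy_one])
    obtain ⟨g, hg, -, heq⟩ := hr'.cond_left e⁻¹ (E.inv_mem he) he1
    rw [inv_inv, conjBy_eq_iff, inv_inv, conjBy_conjBy] at heq
    rw [heq]
    exact conjBy_mem_unipotent hr hF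
      (Subgroup.mul_mem _ (unipotent_le_sup hF hg) (hle he))

/-- If `(B, C)` is a rank one pair and `x ∈ C` moves `B` as some `a ∈ A` does, with `(A, B)` a
rank one pair, then `C` is a point of `⟨A, B⟩`. -/
theorem mem_unipotent_of_same_action {A B C : Subgroup G} (hr : IsRankOnePair A B)
    (hr' : IsRankOnePair C B) {a x : G} (ha : a ∈ A) (ha1 : a ≠ 1) (hx : x ∈ C) (hx1 : x ≠ 1)
    (he : conjBy B a⁻¹ = conjBy B x⁻¹) : C ∈ unipotentSubgroups A B := by
  obtain ⟨b, hb, -, h1⟩ := hr.cond_left a ha ha1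
  obtain ⟨b', hb', -, h2⟩ := hr'.cond_left x hx hx1
  rw [← he, ← h1, conjBy_eq_iff, inv_inv, conjBy_conjBy] at h2
  rw [h2]
  exact conjBy_mem_unipotent hr (left_mem_unipotent hr)
    (Subgroup.mem_sup_right (B.mul_mem hb' (B.inv_mem hb)))

/-- A non-isolated member meets every other member trivially. -/
theorem eq_of_mem_both {A B C : Subgroup G} (hB : B ∈ S) (hC : C ∈ S)
    (hr : IsRankOnePair A B) {x : G} (hxA : x ∈ A) (hxC : x ∈ C) (hx : x ≠ 1) : A = C := by
  obtain ⟨b, hb, hb1⟩ := exists_mem_ne_one (hS.ne_bot B hB)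
  by_cases hr' : IsRankOnePair C B
  · exact unipotent_eq_of_mem hr (left_mem_unipotent hr)
      (mem_unipotent_of_same_action hS hr hr' hxA hx hxC hx rfl) hxA hxC hx
  · exact absurd (conj_commute_of_not_rankOne hS hC hB hr' hxC hb hb)
      (not_commute_conj hr hxA hx hb hb1)

/-- The line lemma: `D` is a rank one partner of `A`, `b` centralises `A`, `a ∈ A#`;
then `b` and `a * b` cannot both conjugate `D` into its centraliser. -/
theorem line_lemma {A D : Subgroup G} (hD : D ∈ S) (hr : IsRankOnePair A D) {a b : G}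
    (ha : a ∈ A) (ha1 : a ≠ 1) (hbA : ∀ x ∈ A, Commute b x)
    (h1 : ∀ d ∈ D, ∀ d' ∈ D, Commute (b * d * b⁻¹) d')
    (h2 : ∀ d ∈ D, ∀ d' ∈ D, Commute (a * b * d * (a * b)⁻¹) d') : False := by
  obtain ⟨d, hd, hd1⟩ := exists_mem_ne_one (hS.ne_bot D hD)
  have hgen : D ⊔ conjBy D a = A ⊔ D :=
    sup_eq_of_unipotent hr (right_mem_unipotent hr)
      (conjBy_mem_unipotent hr (right_mem_unipotent hr) (Subgroup.mem_sup_left ha))
      (fun e => ha1 (eq_one_of_conjBy_right_eq hr ha e.symm))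
  obtain ⟨y, hy⟩ : ∃ y, y = a * b * d * (a * b)⁻¹ := ⟨_, rfl⟩
  have hcy : D ⊔ conjBy D a ≤ Subgroup.centralizer {y} := by
    refine sup_le (fun d' hd' => ?_) (fun z hz => ?_)
    · rw [Subgroup.mem_centralizer_singleton_iff, hy]
      exact (h2 d hd d' hd').symm
    · rw [mem_conjBy] at hz
      rw [Subgroup.mem_centralizer_singleton_iff, hy]
      have h3 := (Commute.conj_iff a).2 (h1 d hd _ hz)
      rw [show a * (a⁻¹ * z * a) * a⁻¹ = z by group,
        show a * (b * d * b⁻¹) * a⁻¹ = a * b * d * (a * b)⁻¹ by group] at h3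
      exact h3.symm
  rw [hgen] at hcy
  have hyA : ∀ x ∈ A, Commute y x := fun x hx =>
    (Subgroup.mem_centralizer_singleton_iff.1 (hcy (Subgroup.mem_sup_left hx))).symm
  have hxy : b * d * b⁻¹ = y := by
    calc b * d * b⁻¹ = a⁻¹ * (y * a) := by rw [hy]; group
      _ = y := by rw [(hyA a ha).eq, inv_mul_cancel_left]
  refine hd1 (eq_one_of_commute (RankOnePair_symm hr) hd ha ha1 ?_)
  have h4 := (Commute.conj_iff b⁻¹).2 (hyA a ha)
  rw [← hxy, inv_inv, show b⁻¹ * (b * d * b⁻¹) * b = d by group,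
    show b⁻¹ * a * b = a by rw [mul_assoc, ← (hbA a ha).eq, inv_mul_cancel_left]] at h4
  exact h4

/-- With `z` centralising `⟨A, B⟩`, `z * a` is no root element. -/
theorem not_rootElement_mul {A B : Subgroup G} (hB : B ∈ S)
    (hr : IsRankOnePair A B) {z : G}
    (hz : z ∈ Subgroup.centralizer ((A ⊔ B : Subgroup G) : Set G)) (hz1 : z ≠ 1) {a : G}
    (ha : a ∈ A) (ha1 : a ≠ 1) : z * a ∉ rootElements S := by
  rintro ⟨hne, C, hC, hzaC⟩
  obtain ⟨b, hb, hb1⟩ := exists_mem_ne_one (hS.ne_bot B hB)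
  have hzc : ∀ x ∈ A ⊔ B, Commute z x := fun x hx => (hz x hx).symm
  by_cases hr' : IsRankOnePair C B
  · have he : conjBy B a⁻¹ = conjBy B (z * a)⁻¹ := by
      rw [mul_inv_rev, ← conjBy_conjBy (g := a⁻¹) (h := z⁻¹)]
      congr 1
      rw [eq_comm, conjBy_eq_self_iff]
      refine Subgroup.inv_mem _ (Subgroup.mem_normalizer_iff.2 fun n => ?_)
      constructor
      · intro hn
        rwa [(hzc n (Subgroup.mem_sup_right hn)).eq, mul_inv_cancel_right]
      · intro hn
        have h5 : Commute z (z * n * z⁻¹) := hzc _ (Subgroup.mem_sup_right hn)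
        have h6 : z * n * z⁻¹ = n := by
          calc z * n * z⁻¹ = z⁻¹ * (z * (z * n * z⁻¹)) := by group
            _ = z⁻¹ * ((z * n * z⁻¹) * z) := by rw [h5.eq]
            _ = n := by group
        rwa [h6] at hn
    have hmem := mem_unipotent_of_same_action hS hr hr' ha ha1 hzaC hne he
    by_cases hCA : C = A
    · have hzA : z ∈ A := by
        rw [hCA] at hzaC
        simpa using A.mul_mem hzaC (A.inv_mem ha)
      exact hz1 (eq_one_of_commute hr hzA hb hb1 (hzc b (Subgroup.mem_sup_right hb)))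
    · exact not_commute_of_unipotent hr hmem (left_mem_unipotent hr) hCA hzaC hne ha ha1
        (Commute.mul_left (hzc a (Subgroup.mem_sup_left ha)) (Commute.refl a))
  · have h := conj_commute_of_not_rankOne hS hC hB hr' hzaC hb hb
    have e : z * a * b * (z * a)⁻¹ = a * b * a⁻¹ := by
      have h7 := hzc (a * b * a⁻¹) (Subgroup.mul_mem _ (Subgroup.mul_mem _
        (Subgroup.mem_sup_left ha) (Subgroup.mem_sup_right hb))
        (Subgroup.mem_sup_left (A.inv_mem ha)))
      rw [show z * a * b * (z * a)⁻¹ = z * (a * b * a⁻¹) * z⁻¹ by group, h7.eq,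
        mul_inv_cancel_right]
    rw [e] at h
    exact not_commute_conj hr ha ha1 hb hb1 h

theorem rootCommutatorCase_of_commutator_mem {A B : Subgroup G} (hA : A ∈ S) (hB : B ∈ S)
    (hC : ⁅A, B⁆ ∈ S) : RootCommutatorCase S A B := by
  rcases hS.pair A hA B hB with h | h | h
  · exact absurd h (hS.ne_bot _ hC)
  · exfalso
    have hle : ⁅A, B⁆ ≤ A ⊔ B :=
      (Subgroup.commutator_mono le_sup_left le_sup_right).trans
        (Subgroup.commutator_le_self (A ⊔ B))
    rcases mem_unipotent_or_centralizer hS hA hC h hle with h1 | h1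
    · have hnorm : ∀ x ∈ A ⊔ B, conjBy ⁅A, B⁆ x = ⁅A, B⁆ := by
        intro x hx
        rw [conjBy_eq_self_iff]
        have hN : A ⊔ B ≤ Subgroup.normalizer ((⁅A, B⁆ : Subgroup G) : Set G) :=
          sup_le (Subgroup.normalizer_commutator_ge_left A B)
            (Subgroup.normalizer_commutator_ge_right A B)
        exact hN hx
      by_cases hA' : (⁅A, B⁆ : Subgroup G) = A
      · obtain ⟨y, hy, hy'⟩ := right_mem_unipotent h
        exact h.ne (by rw [hy', ← hA', hnorm y hy])
      · obtain ⟨y, hy, hy'⟩ := h1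
        have := hnorm y⁻¹ (Subgroup.inv_mem _ hy)
        conv_lhs at this => rw [hy', conjBy_conjBy, inv_mul_cancel, conjBy_one]
        exact hA' this.symm
    · obtain ⟨a, ha, ha1⟩ := exists_mem_ne_one (hS.ne_bot A hA)
      obtain ⟨b, hb, hb1⟩ := exists_mem_ne_one (hS.ne_bot B hB)
      refine not_commute_conj h ha ha1 hb hb1 ?_
      rw [show a * b * a⁻¹ = (a * b * a⁻¹ * b⁻¹) * b by group]
      exact Commute.mul_left
        (h1 (Subgroup.commutator_mem_commutator ha hb) b (Subgroup.mem_sup_right hb)).symm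
        (Commute.refl b)
  · exact h

end RootSet

end H98
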