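import Mathlib
import Cfsg.Agent.H98.SL2Hom
import Cfsg.Agent.H98.RootSet

/-! Copies of `SL₂(k)` acting on a plane and the pairs of root subgroups they give. -/

set_option autoImplicit false

namespace H98

open Cfsg Matrix
open scoped IsMulCommutative

variable {k : Type*} [Field k]

/-! ### Images of `SL₂(k)` with central kernel -/

section Image

variable {G : Type*} [Group G] {φ : Matrix.SpecialLinearGroup (Fin 2) k →* G}

theorem uu_not_central {s : k} (hs : s ≠ 0) :
    uu s ∉ Subgroup.center (Matrix.SpecialLinearGroup (Fin 2) k) := fun h => hs (by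
  have h2 := congrArg (fun g : Matrix.SpecialLinearGroup (Fin 2) k => g.1 0 0)
    (Subgroup.mem_center_iff.1 h (ll 1))
  simp only [Matrix.SpecialLinearGroup.coe_mul, coe_uu, coe_ll] at h2
  simpa [Matrix.mul_fin_two] using h2)

theorem ll_not_central {s : k} (hs : s ≠ 0) :
    ll s ∉ Subgroup.center (Matrix.SpecialLinearGroup (Fin 2) k) := fun h => hs (by
  have h2 := congrArg (fun g : Matrix.SpecialLinearGroup (Fin 2) k => g.1 0 0)
    (Subgroup.mem_center_iff.1 h (uu 1))
  simp only [Matrix.SpecialLinearGroup.coe_mul, coe_uu, coe_ll] at h2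
  simpa [Matrix.mul_fin_two] using h2)

theorem map_uu_ne_one (hk : φ.ker ≤ Subgroup.center _) {s : k} (hs : s ≠ 0) : φ (uu s) ≠ 1 :=
  fun e => uu_not_central hs (hk e)

theorem map_ll_ne_one (hk : φ.ker ≤ Subgroup.center _) {s : k} (hs : s ≠ 0) : φ (ll s) ≠ 1 :=
  fun e => ll_not_central hs (hk e)

theorem map_conjBy_hom (φ : Matrix.SpecialLinearGroup (Fin 2) k →* G)
    (A : Subgroup (Matrix.SpecialLinearGroup (Fin 2) k)) (g : Matrix.SpecialLinearGroup (Fin 2) k) :
    (conjBy A g).map φ = conjBy (A.map φ) (φ g) := by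
  rw [conjBy, conjBy, Subgroup.map_map, Subgroup.map_map]
  congr 1
  ext x
  simp

theorem isRankOnePair_image (hk : φ.ker ≤ Subgroup.center _) :
    IsRankOnePair ((upperUnipotentSL2 k).map φ) ((lowerUnipotentSL2 k).map φ) := by
  haveI := isCommutative_upper (k := k)
  haveI := isCommutative_lower (k := k)
  haveI : IsMulCommutative ((upperUnipotentSL2 k).map φ) := Subgroup.map_isMulCommutative _ _
  haveI : IsMulCommutative ((lowerUnipotentSL2 k).map φ) := Subgroup.map_isMulCommutative _ _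
  refine ⟨fun e => ?_, inferInstance, inferInstance, ?_, ?_⟩
  · have h1 : φ (uu 1) ∈ (lowerUnipotentSL2 k).map φ :=
      e ▸ Subgroup.mem_map_of_mem φ (mem_upperUnipotentSL2.2 ⟨1, rfl⟩)
    obtain ⟨g, hg, hgu⟩ := h1
    obtain ⟨s, rfl⟩ := mem_lowerUnipotentSL2.1 hg
    have hz : (ll s)⁻¹ * uu 1 ∈ Subgroup.center _ := hk (by
      rw [MonoidHom.mem_ker, map_mul, map_inv, hgu, inv_mul_cancel])
    have h2 := Subgroup.mem_center_iff.1 hz (uu 1)
    rw [inv_ll] at h2
    have h3 := congrArg (fun g : Matrix.SpecialLinearGroup (Fin 2) k => g.1 0 0) h2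
    simp only [Matrix.SpecialLinearGroup.coe_mul, coe_uu, coe_ll] at h3
    have hs : s = 0 := by simpa [Matrix.mul_fin_two] using h3
    rw [hs, ll_zero, inv_one, one_mul] at hz
    exact uu_not_central one_ne_zero hz
  · rintro a ⟨u, hu, rfl⟩ ha1
    obtain ⟨b, hb, hb1, he⟩ := (RankOnePair_symm (sl2_isRankOnePair (k := k))).cond_left u hu
      (fun e => ha1 (by rw [e, map_one]))
    obtain ⟨s, rfl⟩ := mem_lowerUnipotentSL2.1 hb
    refine ⟨φ (ll s), Subgroup.mem_map_of_mem φ hb,
      map_ll_ne_one hk (fun e => hb1 (by rw [e, ll_zero])), ?_⟩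
    rw [← map_inv, ← map_inv, ← map_conjBy_hom, ← map_conjBy_hom, he]
  · rintro b ⟨u, hu, rfl⟩ hb1
    obtain ⟨a, ha, ha1, he⟩ := (RankOnePair_symm (sl2_isRankOnePair (k := k))).cond_right u hu
      (fun e => hb1 (by rw [e, map_one]))
    obtain ⟨s, rfl⟩ := mem_upperUnipotentSL2.1 ha
    refine ⟨φ (uu s), Subgroup.mem_map_of_mem φ ha,
      map_uu_ne_one hk (fun e => ha1 (by rw [e, uu_zero])), ?_⟩
    rw [← map_inv, ← map_inv, ← map_conjBy_hom, ← map_conjBy_hom, he]

theorem isPSL2PairOver_image (hk : φ.ker ≤ Subgroup.center _) :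
    IsPSL2PairOver k ((upperUnipotentSL2 k).map φ) ((lowerUnipotentSL2 k).map φ) :=
  ⟨φ, by rw [← Subgroup.map_sup, upper_sup_lower, MonoidHom.range_eq_map], hk, rfl, rfl⟩

end Image

/-! ### The action of `2 × 2` matrices on a plane with a complement -/

variable {ι : Type*} [Fintype ι] [DecidableEq ι]

/-- The matrix with columns `p`, `q`. -/
def colPair (p q : ι → k) : Matrix ι (Fin 2) k := Matrix.of fun i j => ![p i, q i] j

/-- The matrix with rows `r₀`, `r₁`. -/
def rowPair (r₀ r₁ : ι → k) : Matrix (Fin 2) ι k := Matrix.of ![r₀, r₁]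

/-- The matrix acting as `g` on the plane of `P` and trivially on the kernel of `Q`. -/
def embMat (P : Matrix ι (Fin 2) k) (Q : Matrix (Fin 2) ι k) (g : Matrix (Fin 2) (Fin 2) k) :
    Matrix ι ι k :=
  1 + P * (g - 1) * Q

theorem embMat_one (P : Matrix ι (Fin 2) k) (Q : Matrix (Fin 2) ι k) : embMat P Q 1 = 1 := by
  simp [embMat]

theorem embMat_mul {P : Matrix ι (Fin 2) k} {Q : Matrix (Fin 2) ι k} (h : Q * P = 1)
    (g g' : Matrix (Fin 2) (Fin 2) k) :
    embMat P Q g * embMat P Q g' = embMat P Q (g * g') := by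
  have e : P * (g - 1) * Q * (P * (g' - 1) * Q) = P * ((g - 1) * (g' - 1)) * Q := by
    simp only [Matrix.mul_assoc]
    rw [← Matrix.mul_assoc Q P, h, Matrix.one_mul]
  unfold embMat
  rw [add_mul, one_mul, mul_add, mul_one, e, add_assoc]
  rw [← Matrix.add_mul, ← Matrix.mul_add, ← Matrix.add_mul, ← Matrix.mul_add]
  congr 3
  noncomm_ring

theorem embMat_det {P : Matrix ι (Fin 2) k} {Q : Matrix (Fin 2) ι k} (h : Q * P = 1)
    (g : Matrix (Fin 2) (Fin 2) k) : (embMat P Q g).det = g.det := by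
  rw [embMat, Matrix.det_one_add_mul_comm, ← Matrix.mul_assoc, h, Matrix.one_mul]
  congr 1
  abel

theorem embMat_injective {P : Matrix ι (Fin 2) k} {Q : Matrix (Fin 2) ι k} (h : Q * P = 1) :
    Function.Injective (embMat P Q) := by
  intro g g' e
  have key : ∀ x, Q * (embMat P Q x - 1) * P = x - 1 := fun x => by
    simp only [embMat, add_sub_cancel_left, Matrix.mul_assoc]
    rw [h, Matrix.mul_one, ← Matrix.mul_assoc Q P, h, Matrix.one_mul]
  have := key g
  rw [e, key g'] at this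
  exact (sub_left_injective this).symm

/-- The embedding of `SL₂`. -/
def embSL {P : Matrix ι (Fin 2) k} {Q : Matrix (Fin 2) ι k} (h : Q * P = 1) :
    Matrix.SpecialLinearGroup (Fin 2) k →* Matrix.SpecialLinearGroup ι k where
  toFun g := ⟨embMat P Q g.1, by rw [embMat_det h, g.2]⟩
  map_one' := Subtype.ext (embMat_one P Q)
  map_mul' g g' := Subtype.ext (embMat_mul h g.1 g'.1).symm

theorem coe_embSL {P : Matrix ι (Fin 2) k} {Q : Matrix (Fin 2) ι k} (h : Q * P = 1)
    (g : Matrix.SpecialLinearGroup (Fin 2) k) : (embSL h g).1 = embMat P Q g.1 := rfl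

theorem embSL_injective {P : Matrix ι (Fin 2) k} {Q : Matrix (Fin 2) ι k} (h : Q * P = 1) :
    Function.Injective (embSL h) := fun g g' e =>
  Subtype.ext (embMat_injective h (congrArg Subtype.val e))

theorem rowPair_mul_colPair {p q r₀ r₁ : ι → k} (h00 : r₀ ⬝ᵥ p = 1) (h01 : r₀ ⬝ᵥ q = 0)
    (h10 : r₁ ⬝ᵥ p = 0) (h11 : r₁ ⬝ᵥ q = 1) : rowPair r₀ r₁ * colPair p q = 1 := by
  ext i j
  rw [Matrix.mul_apply]
  fin_cases i <;> fin_cases j
  · exact h00
  · exact h01
  · exact h10
  · exact h11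

theorem embMat_uu (p q r₀ r₁ : ι → k) (s : k) :
    embMat (colPair p q) (rowPair r₀ r₁) (uu s).1 = 1 + s • Matrix.vecMulVec p r₁ := by
  rw [embMat, coe_uu]
  congr 1
  ext i j
  simp [Matrix.mul_apply, Fin.sum_univ_two, colPair, rowPair, Matrix.vecMulVec,
    Matrix.one_fin_two, mul_comm, mul_left_comm, mul_assoc]

theorem embMat_ll (p q r₀ r₁ : ι → k) (s : k) :
    embMat (colPair p q) (rowPair r₀ r₁) (ll s).1 = 1 + s • Matrix.vecMulVec q r₀ := by
  rw [embMat, coe_ll]
  congr 1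
  ext i j
  simp [Matrix.mul_apply, Fin.sum_univ_two, colPair, rowPair, Matrix.vecMulVec,
    Matrix.one_fin_two, mul_comm, mul_left_comm, mul_assoc]

end H98
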