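import Cfsg.Agent.H98.RankOne
import Cfsg.Prelude.Def_Transfer

/-! Special rank one groups with abelian unipotent subgroups: the partner relation,
`b(a⁻¹) = b(a)⁻¹`, the identity `b(a^n)^n = b(a)`, divisibility. -/

set_option autoImplicit false

namespace H98

open Cfsg

variable {G : Type*} [Group G] {A B : Subgroup G}

/-- `b = b(a)`. -/
def Rel (A B : Subgroup G) (a b : G) : Prop :=
  a ∈ A ∧ a ≠ 1 ∧ b ∈ B ∧ b ≠ 1 ∧ conjBy A b⁻¹ = conjBy B a⁻¹

theorem Rel.swap {a b : G} (r : Rel A B a b) : Rel B A b a :=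
  ⟨r.2.2.1, r.2.2.2.1, r.1, r.2.1, r.2.2.2.2.symm⟩

theorem exists_rel (h : IsRankOnePair A B) {a : G} (ha : a ∈ A) (ha1 : a ≠ 1) :
    ∃ b, Rel A B a b := by
  obtain ⟨b, hb, hb1, he⟩ := h.cond_left a ha ha1
  exact ⟨b, ha, ha1, hb, hb1, he⟩

theorem exists_rel' (h : IsRankOnePair A B) {b : G} (hb : b ∈ B) (hb1 : b ≠ 1) :
    ∃ a, Rel A B a b := by
  obtain ⟨a, r⟩ := exists_rel (RankOnePair_symm h) hb hb1
  exact ⟨a, r.swap⟩

theorem Rel.right_unique (h : IsRankOnePair A B) {a b b' : G} (r : Rel A B a b)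
    (r' : Rel A B a b') : b = b' :=
  (existsUnique_partner h r.1 r.2.1).unique r.2.2 r'.2.2

theorem Rel.left_unique (h : IsRankOnePair A B) {a a' b : G} (r : Rel A B a b)
    (r' : Rel A B a' b) : a = a' :=
  Rel.right_unique (RankOnePair_symm h) r.swap r'.swap

theorem Rel.special (hs : IsSpecialRankOnePair A B) {a b : G} (r : Rel A B a b) :
    b⁻¹ * a * b = a⁻¹ * b⁻¹ * a :=
  hs.2 a r.1 r.2.1 b r.2.2.1 r.2.2.2.1 r.2.2.2.2

theorem special_symm (hs : IsSpecialRankOnePair A B) : IsSpecialRankOnePair B A := by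
  refine ⟨RankOnePair_symm hs.1, fun b hb hb1 a ha ha1 he => ?_⟩
  have := congrArg Inv.inv (Rel.special hs (a := a) (b := b) ⟨ha, ha1, hb, hb1, he.symm⟩)
  simp only [mul_inv_rev, inv_inv] at this
  rw [← mul_assoc, ← mul_assoc] at this
  exact this.symm

theorem Rel.braid (hs : IsSpecialRankOnePair A B) {a b : G} (r : Rel A B a b) :
    a * b⁻¹ * a = b⁻¹ * a * b⁻¹ := by
  have h1 : a * (b⁻¹ * a * b) = b⁻¹ * a := by rw [r.special hs]; group
  calc a * b⁻¹ * a = (a * (b⁻¹ * a * b)) * b⁻¹ := by group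
    _ = b⁻¹ * a * b⁻¹ := by rw [h1]

theorem Rel.inv (hs : IsSpecialRankOnePair A B) {a b : G} (r : Rel A B a b) :
    Rel A B a⁻¹ b⁻¹ := by
  refine ⟨A.inv_mem r.1, inv_ne_one.2 r.2.1, B.inv_mem r.2.2.1, inv_ne_one.2 r.2.2.2.1, ?_⟩
  rw [inv_inv, inv_inv]
  have h := hs.1
  have h1 : b * a * b⁻¹ = a * b⁻¹ * a⁻¹ := by
    calc b * a * b⁻¹ = b * (a * b⁻¹ * a) * a⁻¹ := by group
      _ = b * (b⁻¹ * a * b⁻¹) * a⁻¹ := by rw [r.braid hs]
      _ = a * b⁻¹ * a⁻¹ := by group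
  refine unipotent_eq_of_mem h (x := b * a * b⁻¹)
    (conjBy_mem_unipotent h (left_mem_unipotent h) (Subgroup.mem_sup_right r.2.2.1))
    (conjBy_mem_unipotent h (right_mem_unipotent h) (Subgroup.mem_sup_left r.1))
    (conj_mem_conjBy b r.1) ?_ ?_
  · rw [h1]; exact conj_mem_conjBy a (B.inv_mem r.2.2.1)
  · intro e
    apply r.2.1
    calc a = b⁻¹ * (b * a * b⁻¹) * b := by group
      _ = 1 := by rw [e]; group

/-- The element `m = a b⁻¹ a` maps `A` to `B`. -/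
theorem Rel.conjBy_left {a b : G} (r : Rel A B a b) : conjBy A (a * b⁻¹ * a) = B := by
  rw [← conjBy_conjBy, conjBy_self r.1, ← conjBy_conjBy, r.2.2.2.2, conjBy_conjBy,
    mul_inv_cancel, conjBy_one]

theorem Rel.conjBy_right (hs : IsSpecialRankOnePair A B) {a b : G} (r : Rel A B a b) :
    conjBy B (a * b⁻¹ * a) = A := by
  rw [r.braid hs, ← conjBy_conjBy, conjBy_self (B.inv_mem r.2.2.1), ← conjBy_conjBy]
  have := (r.inv hs).2.2.2.2
  rw [inv_inv, inv_inv] at this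
  rw [← this, conjBy_conjBy, inv_mul_cancel, conjBy_one]

theorem Rel.conj_pow (hs : IsSpecialRankOnePair A B) {a b : G} (r : Rel A B a b) (n : ℕ) :
    (a * b⁻¹ * a) * a ^ n * (a * b⁻¹ * a)⁻¹ = (b ^ n)⁻¹ := by
  rw [← _root_.conj_pow, ← inv_pow]
  congr 1
  calc (a * b⁻¹ * a) * a * (a * b⁻¹ * a)⁻¹ = (a * b⁻¹ * a) * b * a⁻¹ := by group
    _ = (b⁻¹ * a * b⁻¹) * b * a⁻¹ := by rw [r.braid hs]
    _ = b⁻¹ := by group

theorem Rel.pow_eq_one_iff (hs : IsSpecialRankOnePair A B) {a b : G} (r : Rel A B a b) (n : ℕ) :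
    a ^ n = 1 ↔ b ^ n = 1 := by
  have h := r.conj_pow hs n
  constructor
  · intro e; rw [e] at h; simpa using h.symm
  · intro e
    rw [e, inv_one, mul_inv_eq_one] at h
    exact mul_eq_left.1 h

/-- The addition formula obtained by applying `m = a b⁻¹ a` to the point `a₂ B`. -/
theorem Rel.add_formula (hs : IsSpecialRankOnePair A B) {a b a₂ z q w : G} (r : Rel A B a b)
    (hz : z = (a * b⁻¹ * a) * a₂ * (a * b⁻¹ * a)⁻¹)
    (rq : Rel A B q z) (rw' : Rel A B (a * a₂) w) : Rel A B (a⁻¹ * q) (b⁻¹ * w) := by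
  have h := hs.1
  set m := a * b⁻¹ * a with hm
  have e1 : conjBy A z = conjBy B q := by
    have := (rq.inv hs).2.2.2.2
    rwa [inv_inv, inv_inv] at this
  have e2 : conjBy B (a * a₂) = conjBy A w := by
    have := (rw'.inv hs).2.2.2.2
    rw [inv_inv, inv_inv] at this
    exact this.symm
  have e3 : conjBy B (m * a₂) = conjBy A z := by
    rw [hz, ← r.conjBy_right hs, conjBy_conjBy]
    congr 1; rw [hm]; group
  have e4 : conjBy B (a⁻¹ * q) = conjBy A (b⁻¹ * w) := by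
    have h5 : conjBy B (m * a₂) = conjBy A (a * b⁻¹ * w) := by
      rw [← conjBy_conjBy (g := a * b⁻¹) (h := w), ← e2, conjBy_conjBy]
      congr 1; rw [hm]; group
    rw [← conjBy_conjBy (g := a⁻¹), ← e1, ← e3, h5, conjBy_conjBy]
    congr 1; group
  have hmem : a⁻¹ * q ∈ A := A.mul_mem (A.inv_mem r.1) rq.1
  have hbw : b⁻¹ * w ∈ B := B.mul_mem (B.inv_mem r.2.2.1) rw'.2.2.1
  have hne : a⁻¹ * q ≠ 1 := by
    intro e
    rw [e, conjBy_one] at e4
    exact conjBy_right_ne_left (RankOnePair_symm h) hbw e4.symm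
  obtain ⟨w', r'⟩ := exists_rel h hmem hne
  have e5 := (r'.inv hs).2.2.2.2
  rw [inv_inv, inv_inv, e4] at e5
  rw [← eq_of_conjBy_left_eq h r'.2.2.1 hbw e5]
  exact r'

/-- `b(a^k)^k = b(a)`. -/
theorem Rel.pow_partner_aux (k : ℕ) : ∀ {A B : Subgroup G}, IsSpecialRankOnePair A B →
    HasAbelianUnipotents A B → ∀ {a b c : G}, Rel A B a b → Rel A B (a ^ k) c → c ^ k = b := by
  induction k with
  | zero => intro A B _ _ a b c _ rc; exact absurd (pow_zero a) rc.2.1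
  | succ k ih =>
    intro A B hs hab a b c r rc
    have h := hs.1
    haveI := hab.1
    haveI := hab.2
    by_cases hak : a ^ k = 1
    · have hbk := (r.pow_eq_one_iff hs k).1 hak
      rw [pow_succ, hak, one_mul] at rc
      obtain rfl := r.right_unique h rc
      rw [pow_succ, hbk, one_mul]
    · have hbk : b ^ k ≠ 1 := fun e => hak ((r.pow_eq_one_iff hs k).2 e)
      obtain ⟨q, rq⟩ := exists_rel' h (B.pow_mem r.2.2.1 k) hbk
      have hq : q ^ k = a := ih (special_symm hs) ⟨hab.2, hab.1⟩ r.swap rq.swap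
      have r1 := r.add_formula hs (a₂ := a ^ k) (z := (b ^ k)⁻¹) (q := q⁻¹) (w := c)
        (r.conj_pow hs k).symm (rq.inv hs) (by rw [← pow_succ']; exact rc)
      have r2 := r1.inv hs
      have hx : (a⁻¹ * q⁻¹)⁻¹ = q ^ (k + 1) := by
        rw [← hq, mul_inv_rev, inv_inv, inv_inv, ← pow_succ']
      rw [hx] at r2
      have h3 : (q ^ (k + 1)) ^ k = a ^ (k + 1) := by
        rw [← pow_mul, mul_comm, pow_mul, hq]
      have h4 := ih hs hab r2 (by rw [h3]; exact rc)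
      rw [pow_succ', h4]
      group

theorem Rel.pow_partner (hs : IsSpecialRankOnePair A B) (hab : HasAbelianUnipotents A B)
    {a b c : G} {k : ℕ} (r : Rel A B a b) (rc : Rel A B (a ^ k) c) : c ^ k = b :=
  Rel.pow_partner_aux k hs hab r rc

theorem exists_root (hs : IsSpecialRankOnePair A B) (hab : HasAbelianUnipotents A B) {a : G}
    (ha : a ∈ A) {n : ℕ} (hn : a ^ n ≠ 1) : ∃ c ∈ A, c ^ n = a := by
  have ha1 : a ≠ 1 := fun e => hn (by rw [e, one_pow])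
  obtain ⟨b, r⟩ := exists_rel hs.1 ha ha1
  obtain ⟨q, rq⟩ := exists_rel' hs.1 (B.pow_mem r.2.2.1 n) fun e => hn ((r.pow_eq_one_iff hs n).2 e)
  exact ⟨q, rq.1, Rel.pow_partner (special_symm hs) ⟨hab.2, hab.1⟩ r.swap rq.swap⟩

theorem exists_prime_orderOf {A : Subgroup G} {a : G} (ha : a ∈ A) (ha1 : a ≠ 1)
    (hfin : IsOfFinOrder a) : ∃ p : ℕ, p.Prime ∧ ∃ x ∈ A, x ≠ 1 ∧ x ^ p = 1 := by
  have hne : orderOf a ≠ 1 := fun e => ha1 (orderOf_eq_one_iff.1 e)
  obtain ⟨p, hp, k, hk⟩ := Nat.exists_prime_and_dvd hne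
  refine ⟨p, hp, a ^ k, A.pow_mem ha k, fun e => ?_, ?_⟩
  · have hk0 : 0 < k := by
      rcases Nat.eq_zero_or_pos k with h0 | h0
      · rw [h0, mul_zero] at hk
        exact absurd hfin.orderOf_pos (by omega)
      · exact h0
    have hle : orderOf a ≤ k := orderOf_le_of_pow_eq_one hk0 e
    rw [hk] at hle
    exact absurd (Nat.le_of_mul_le_mul_right (by rwa [one_mul]) hk0) (not_le.2 hp.one_lt)
  · rw [← pow_mul, mul_comm, ← hk, pow_orderOf_eq_one]

theorem elementary_or_torsionFree (hs : IsSpecialRankOnePair A B)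
    (hab : HasAbelianUnipotents A B) :
    (∃ p : ℕ, p.Prime ∧ IsElementaryAbelian p A) ∨
      ((∀ a ∈ A, a ≠ 1 → ¬ IsOfFinOrder a) ∧ ∀ a ∈ A, ∀ n : ℕ, 0 < n → ∃ c ∈ A, c ^ n = a) := by
  have h := hs.1
  haveI := hab.1
  by_cases htf : ∀ a ∈ A, a ≠ 1 → ¬ IsOfFinOrder a
  · refine Or.inr ⟨htf, fun a ha n hn => ?_⟩
    by_cases ha1 : a = 1
    · exact ⟨1, A.one_mem, by rw [one_pow, ha1]⟩
    · exact exists_root hs hab ha fun e =>
        htf a ha ha1 (isOfFinOrder_iff_pow_eq_one.2 ⟨n, hn, e⟩)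
  · push Not at htf
    obtain ⟨a₀, ha₀, ha₀1, hfin⟩ := htf
    obtain ⟨p, hp, a, ha, ha1, hap⟩ := exists_prime_orderOf ha₀ ha₀1 hfin
    refine Or.inl ⟨p, hp, hab.1, fun x hx => ?_⟩
    by_contra hne
    apply ha1
    have hcomm : Commute a x := setLike_mul_comm (S := Subgroup G) ha hx
    have he : (a * x) ^ p = x ^ p := by rw [hcomm.mul_pow, hap, one_mul]
    have hx1 : x ≠ 1 := fun e => hne (by rw [e, one_pow])
    have hax1 : a * x ≠ 1 := fun e => hne (by rw [← he, e, one_pow])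
    obtain ⟨c, rc⟩ := exists_rel h (A.pow_mem hx p) hne
    obtain ⟨b, r⟩ := exists_rel h hx hx1
    obtain ⟨b', r'⟩ := exists_rel h (A.mul_mem ha hx) hax1
    have e1 := Rel.pow_partner hs hab r rc
    have e2 := Rel.pow_partner hs hab r' (by rw [he]; exact rc)
    rw [← e2, e1] at r'
    exact mul_eq_right.1 (r'.left_unique h r)

end H98
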