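import Cfsg.Agent.H98.NondegClass
import Cfsg.Agent.H98.Embed
import Cfsg.Agent.H98.Special
import Cfsg.Agent.S5026
import Cfsg.Agent.S5032

/-! Rank one pairs in degenerate classes of abstract root subgroups are special: two commuting
members with a common partner give the needed identities. -/

set_option autoImplicit false

namespace H98

open Cfsg

variable {G : Type*} [Group G] {S : Set (Subgroup G)}

theorem commutator_conj_eq_bot {A B : Subgroup G} (g : G) (h : ⁅A, B⁆ = ⊥) :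
    ⁅conjBy A g, conjBy B g⁆ = ⊥ := by
  rw [conjBy, conjBy, ← Subgroup.map_commutator, h, Subgroup.map_bot]

/-- An image pair of `SL₂` is special. -/
theorem isSpecial_image {k : Type*} [Field k] {φ : Matrix.SpecialLinearGroup (Fin 2) k →* G}
    (hk : φ.ker ≤ Subgroup.center _) :
    IsSpecialRankOnePair ((upperUnipotentSL2 k).map φ) ((lowerUnipotentSL2 k).map φ) := by
  have hr := isRankOnePair_image hk
  have hs := special_symm (sl2_isSpecial (k := k))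
  refine ⟨hr, fun a ha ha1 b hb hb1 he => ?_⟩
  obtain ⟨u, hu, rfl⟩ := ha
  have hu1 : u ≠ 1 := fun e => ha1 (by rw [e, map_one])
  obtain ⟨v, hv, hv1, hve⟩ := hs.1.cond_left u hu hu1
  obtain ⟨s, rfl⟩ := mem_lowerUnipotentSL2.1 hv
  obtain rfl : b = φ (ll s) := (existsUnique_partner hr (Subgroup.mem_map_of_mem φ hu) ha1).unique
    ⟨hb, hb1, he⟩ ⟨Subgroup.mem_map_of_mem φ hv,
      map_ll_ne_one hk (fun e => hv1 (by rw [e, ll_zero])),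
      by rw [← map_inv, ← map_inv, ← map_conjBy_hom, ← map_conjBy_hom, hve]⟩
  rw [← map_inv, ← map_inv, ← map_mul, ← map_mul, ← map_mul, ← map_mul,
    hs.2 u hu hu1 _ hv hv1 hve]

variable (hS : IsRootSubgroupSet S) (hdeg : IsDegenerateRootSet S)

include hS

theorem root_commute {A B : Subgroup G} (hA : A ∈ S) {a b : G} (ha : a ∈ A) (hb : b ∈ A)
    (_h : B ∈ S) : Commute a b :=
  commute_of_mem hS hA ha hb

include hdeg

theorem commute_or_rankOne {A B : Subgroup G} (hA : A ∈ S) (hB : B ∈ S) :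
    ⁅A, B⁆ = ⊥ ∨ IsRankOnePair A B :=
  (hS.pair A hA B hB).imp id fun h => h.resolve_right (hdeg A hA B hB)

/-- A common partner of two commuting members makes the pair special. -/
theorem special_of_commuting {A B C : Subgroup G} (hA : A ∈ S) (hB : B ∈ S) (hC : C ∈ S)
    (hr : IsRankOnePair A B) (hr' : IsRankOnePair C B) (hAC : ⁅A, C⁆ = ⊥) (hne : A ≠ C) :
    IsSpecialRankOnePair A B := by
  refine ⟨hr, fun a ha ha1 b hb hb1 hrel => ?_⟩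
  obtain ⟨c, hc, hc1, hcrel⟩ := hr'.cond_right b hb hb1
  have cAC : ∀ x ∈ A, ∀ y ∈ C, Commute x y := fun x hx y hy =>
    commute_of_commutator_eq_bot hAC hx hy
  obtain ⟨w, hw⟩ : ∃ w, w = a * c⁻¹ := ⟨_, rfl⟩
  have hwA : ∀ x ∈ A, Commute w x := fun x hx =>
    hw ▸ (commute_of_mem hS hA ha hx).mul_left (cAC x hx c hc).symm.inv_left
  have hUU : ⁅conjBy A b⁻¹, conjBy C b⁻¹⁆ = ⊥ := commutator_conj_eq_bot _ hAC
  have hBP : ⁅B, conjBy B w⁆ = ⊥ := by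
    have h1 := commutator_conj_eq_bot a hUU
    rwa [hrel, ← hcrel, conjBy_conjBy, mul_inv_cancel, conjBy_one, conjBy_conjBy, ← hw] at h1
  obtain ⟨u, hu⟩ : ∃ u, u = b⁻¹ * a * b := ⟨_, rfl⟩
  obtain ⟨v, hv⟩ : ∃ v, v = a⁻¹ * b⁻¹ * a := ⟨_, rfl⟩
  obtain ⟨u₂, hu₂⟩ : ∃ u, u = b⁻¹ * c * b := ⟨_, rfl⟩
  obtain ⟨v₂, hv₂⟩ : ∃ v, v = c⁻¹ * b⁻¹ * c := ⟨_, rfl⟩
  rw [← hu, ← hv]
  have huU : u ∈ conjBy A b⁻¹ := by rw [hu]; simpa using conj_mem_conjBy b⁻¹ ha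
  have hvU : v ∈ conjBy A b⁻¹ := by
    rw [hv, hrel]; simpa using conj_mem_conjBy a⁻¹ (B.inv_mem hb)
  have hu₂U : u₂ ∈ conjBy C b⁻¹ := by rw [hu₂]; simpa using conj_mem_conjBy b⁻¹ hc
  have hv₂U : v₂ ∈ conjBy C b⁻¹ := by
    rw [hv₂, ← hcrel]; simpa using conj_mem_conjBy c⁻¹ (B.inv_mem hb)
  have hUS := hS.conj_mem A hA b⁻¹
  have hU₂S := hS.conj_mem C hC b⁻¹
  obtain ⟨z, hzdef⟩ : ∃ z, z = v⁻¹ * u := ⟨_, rfl⟩
  obtain ⟨z₂, hz₂def⟩ : ∃ z, z = u₂⁻¹ * v₂ := ⟨_, rfl⟩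
  have hz : z ∈ conjBy A b⁻¹ := hzdef ▸ Subgroup.mul_mem _ (Subgroup.inv_mem _ hvU) huU
  have hz₂ : z₂ ∈ conjBy C b⁻¹ := hz₂def ▸ Subgroup.mul_mem _ (Subgroup.inv_mem _ hu₂U) hv₂U
  -- the product centralises `A`
  have key : ∀ x ∈ A, Commute (z * z₂) x := by
    intro x hx
    obtain ⟨q, hq⟩ : ∃ q, q = b * w * b⁻¹ * w⁻¹ := ⟨_, rfl⟩
    have e1 : z * z₂ = a⁻¹ * q * a * (b⁻¹ * w * b) := by
      have h1 : Commute (u * u₂⁻¹) v₂ :=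
        (commute_of_commutator_eq_bot hUU huU hv₂U).mul_left
          (commute_of_mem hS hU₂S (Subgroup.inv_mem _ hu₂U) hv₂U)
      calc z * z₂ = v⁻¹ * (u * u₂⁻¹ * v₂) := by rw [hzdef, hz₂def]; group
        _ = (v⁻¹ * v₂) * (u * u₂⁻¹) := by rw [h1.eq, mul_assoc]
        _ = _ := by rw [hu, hu₂, hv, hv₂, hq, hw]; group
    obtain ⟨a₁, ha₁, -, ha₁rel⟩ := hr.cond_right b⁻¹ (B.inv_mem hb) (inv_ne_one.2 hb1)
    rw [inv_inv] at ha₁rel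
    -- `A` commutes with its conjugate by `b⁻¹ w b`
    have hM : ⁅A, conjBy A (b⁻¹ * w * b)⁆ = ⊥ := by
      have h1 := commutator_conj_eq_bot a₁⁻¹ hBP
      rw [conjBy_conjBy, ← (hwA _ (A.inv_mem ha₁)).eq, ← conjBy_conjBy, ha₁rel] at h1
      have h2 := commutator_conj_eq_bot b⁻¹ h1
      rwa [conjBy_conjBy, inv_mul_cancel, conjBy_one, conjBy_conjBy, conjBy_conjBy] at h2
    have h3 : Commute a ((b⁻¹ * w * b) * x * (b⁻¹ * w * b)⁻¹) :=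
      commute_of_commutator_eq_bot hM ha (conj_mem_conjBy _ hx)
    have h4 : Commute b⁻¹ (w * b⁻¹ * w⁻¹) :=
      commute_of_commutator_eq_bot hBP (B.inv_mem hb) (conj_mem_conjBy w (B.inv_mem hb))
    have h5 : q * (b⁻¹ * w * b) = w := by
      calc q * (b⁻¹ * w * b) = b * ((w * b⁻¹ * w⁻¹) * b⁻¹) * (w * b) := by rw [hq]; group
        _ = b * (b⁻¹ * (w * b⁻¹ * w⁻¹)) * (w * b) := by rw [h4.eq]
        _ = w := by group
    have h6 : z * z₂ * x * (z * z₂)⁻¹ = x := by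
      calc z * z₂ * x * (z * z₂)⁻¹
          = a⁻¹ * q * (a * ((b⁻¹ * w * b) * x * (b⁻¹ * w * b)⁻¹) * a⁻¹) * q⁻¹ * a := by
            rw [e1]; group
        _ = a⁻¹ * q * ((b⁻¹ * w * b) * x * (b⁻¹ * w * b)⁻¹) * q⁻¹ * a := by
            rw [h3.eq, mul_inv_cancel_right]
        _ = a⁻¹ * ((q * (b⁻¹ * w * b)) * x * (q * (b⁻¹ * w * b))⁻¹) * a := by group
        _ = a⁻¹ * x * a := by rw [h5, (hwA x hx).eq, mul_inv_cancel_right]
        _ = x := by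
          rw [mul_assoc, (commute_of_mem hS hA hx ha).eq, inv_mul_cancel_left]
    exact mul_inv_eq_iff_eq_mul.1 h6
  have hzA : ∀ x ∈ A, Commute z x := by
    by_cases hz1 : z = 1
    · exact fun x _ => hz1 ▸ Commute.one_left x
    by_cases hz₂1 : z₂ = 1
    · simpa [hz₂1] using key
    have hne' : z * z₂ ≠ 1 := fun e => hne (conjBy_inj.1 (eq_of_mem_both hS (hS.conj_mem B hB b⁻¹)
      hU₂S (isRankOnePair_conj hr b⁻¹) hz
      (by rw [eq_inv_of_mul_eq_one_left e]; exact Subgroup.inv_mem _ hz₂) hz1))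
    have h26 := Cfsg.Agent.S5026.result hS hdeg (a := z) (b := z₂) ⟨hz1, _, hUS, hz⟩
      ⟨hz₂1, _, hU₂S, hz₂⟩ (commute_of_commutator_eq_bot hUU hz hz₂).eq hne'
    have hmem : A ∈ centralizingMembers S (Subgroup.zpowers (z * z₂)) := by
      refine ⟨hA, fun x hx => Subgroup.mem_centralizer_iff.2 fun y hy => ?_⟩
      obtain ⟨n, rfl⟩ := Subgroup.mem_zpowers_iff.1 hy
      exact ((key x hx).zpow_left n).eq
    rw [h26] at hmem
    exact fun x hx =>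
      (Subgroup.mem_centralizer_iff.1 (hmem.1.2 hx) z (Subgroup.mem_zpowers z))
  by_contra huv
  refine not_commute_of_unipotent hr
    (conjBy_mem_unipotent hr (left_mem_unipotent hr) (Subgroup.mem_sup_right (B.inv_mem hb)))
    (left_mem_unipotent hr) (by rw [hrel]; exact conjBy_right_ne_left hr (A.inv_mem ha)) hz ?_
    ha ha1 (hzA a ha)
  rw [hzdef]
  exact fun e => huv (inv_mul_eq_one.1 e).symm

/-- Two commuting members `A`, `C` with a common partner `Y`: conjugation by some `q` centralising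
`Y` identifies them, and `Y` commutes with its conjugates under `a σ(a)⁻¹`. -/
theorem exists_sigma {A Y C : Subgroup G} (hA : A ∈ S) (hY : Y ∈ S) (hC : C ∈ S)
    (hr : IsRankOnePair A Y) (hr' : IsRankOnePair C Y) (hAC : ⁅A, C⁆ = ⊥) (hne : A ≠ C) :
    ∃ q : G, conjBy A q = C ∧
      (∀ a₁ ∈ A, ∀ η ∈ Y, conjBy Y a₁⁻¹ = conjBy A η⁻¹ →
        conjBy Y (q * a₁ * q⁻¹)⁻¹ = conjBy C η⁻¹) ∧
      ∀ x ∈ A, ⁅Y, conjBy Y (x * (q * x * q⁻¹)⁻¹)⁆ = ⊥ := by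
  obtain ⟨a, ha, ha1⟩ := exists_mem_ne_one (hS.ne_bot A hA)
  obtain ⟨η, r⟩ := exists_rel hr ha ha1
  obtain ⟨c, r₂⟩ := exists_rel' hr' r.2.2.1 r.2.2.2.1
  have hs := special_of_commuting hS hdeg hA hY hC hr hr' hAC hne
  have hs' := special_of_commuting hS hdeg hC hY hA hr' hr
    (by rw [Subgroup.commutator_comm]; exact hAC) hne.symm
  have i₁ := (r.inv hs).2.2.2.2
  have i₂ := (r₂.inv hs').2.2.2.2
  rw [inv_inv, inv_inv] at i₁ i₂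
  have trick : ∀ {a₁ c₁ η₁ : G}, conjBy Y a₁⁻¹ = conjBy A η₁⁻¹ → conjBy Y c₁⁻¹ = conjBy C η₁⁻¹ →
      ⁅Y, conjBy Y (a₁ * c₁⁻¹)⁆ = ⊥ := by
    intro a₁ c₁ η₁ h1 h2
    have h3 := commutator_conj_eq_bot a₁ (commutator_conj_eq_bot η₁⁻¹ hAC)
    rwa [← h1, ← h2, conjBy_conjBy, mul_inv_cancel, conjBy_one, conjBy_conjBy] at h3
  obtain ⟨w, hw⟩ : ∃ w, w = a * c⁻¹ := ⟨_, rfl⟩
  have hP : ⁅Y, conjBy Y w⁆ = ⊥ := hw ▸ trick r.2.2.2.2.symm r₂.2.2.2.2.symm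
  obtain ⟨q, hq⟩ : ∃ q, q = η * (w * η⁻¹ * w⁻¹) := ⟨_, rfl⟩
  have hwA : ∀ x ∈ A, Commute w x := fun x hx =>
    hw ▸ (commute_of_mem hS hA ha hx).mul_left
      (commute_of_commutator_eq_bot hAC hx r₂.1).symm.inv_left
  have hqY : ∀ y ∈ Y, Commute q y := fun y hy =>
    hq ▸ (commute_of_mem hS hY r.2.2.1 hy).mul_left
      (commute_of_commutator_eq_bot hP hy (conj_mem_conjBy w (Y.inv_mem r.2.2.1))).symm
  have hqA : conjBy A q = C := by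
    rw [hq, show η * (w * η⁻¹ * w⁻¹) = η * w * η⁻¹ * w⁻¹ by group,
      ← conjBy_conjBy (g := η * w * η⁻¹), conjBy_eq_of_commute fun x hx => (hwA x hx).inv_left,
      ← conjBy_conjBy (g := η * w), r.2.2.2.2, conjBy_conjBy,
      show η * w * a⁻¹ = η * c⁻¹ by
        rw [hw, (commute_of_commutator_eq_bot hAC ha (C.inv_mem r₂.1)).eq]; group,
      ← conjBy_conjBy, ← r₂.2.2.2.2, conjBy_conjBy, mul_inv_cancel, conjBy_one]
  refine ⟨q, hqA, fun a₁ ha₁ η₁ hη₁ h => ?_, ?_⟩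
  · have h1 : conjBy (conjBy Y a₁⁻¹) q = conjBy (conjBy A η₁⁻¹) q := by rw [h]
    rw [conjBy_conjBy, conjBy_conjBy, (hqY _ (Y.inv_mem hη₁)).eq, ← conjBy_conjBy (g := η₁⁻¹),
      hqA] at h1
    rw [← h1, show (q * a₁ * q⁻¹)⁻¹ = q * a₁⁻¹ * q⁻¹ by group, ← conjBy_conjBy,
      conjBy_eq_of_commute fun y hy => (hqY y hy).inv_left]
  · intro x hx
    by_cases hx1 : x = 1
    · subst hx1
      rw [show (1 : G) * (q * 1 * q⁻¹)⁻¹ = 1 by group, conjBy_one,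
        Subgroup.commutator_eq_bot_iff_le_centralizer]
      intro y hy
      rw [Subgroup.mem_centralizer_iff]
      exact fun y' hy' => (commute_of_mem hS hY hy' hy).eq
    obtain ⟨η₁, r₁⟩ := exists_rel hr hx hx1
    refine trick r₁.2.2.2.2.symm ?_
    have h1 : conjBy (conjBy Y x⁻¹) q = conjBy (conjBy A η₁⁻¹) q := by rw [r₁.2.2.2.2]
    rw [conjBy_conjBy, conjBy_conjBy, (hqY _ (Y.inv_mem r₁.2.2.1)).eq,
      ← conjBy_conjBy (g := η₁⁻¹), hqA] at h1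
    rw [← h1, show (q * x * q⁻¹)⁻¹ = q * x⁻¹ * q⁻¹ by group, ← conjBy_conjBy,
      conjBy_eq_of_commute fun y hy => (hqY y hy).inv_left]

/-- Some member commuting with `A` is a partner of `B`. -/
theorem exists_commuting_partner {A B Y C : Subgroup G} (hA : A ∈ S) (hB : B ∈ S) (hY : Y ∈ S)
    (hC : C ∈ S) (hAB : IsRankOnePair A B) (hr : IsRankOnePair A Y) (hr' : IsRankOnePair C Y)
    (hAC : ⁅A, C⁆ = ⊥) (hne : A ≠ C) {x₁ x₂ x₃ : G} (h₁ : x₁ ∈ A) (h₂ : x₂ ∈ A) (h₃ : x₃ ∈ A)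
    (n₁ : x₁ ≠ 1) (n₂ : x₂ ≠ 1) (n₃ : x₃ ≠ 1) (n₁₂ : x₁ * x₂ ≠ 1) (n₁₃ : x₁ * x₃ ≠ 1)
    (n₂₃ : x₂ * x₃ ≠ 1) (n₁₂₃ : x₁ * x₂ * x₃ ≠ 1) :
    ∃ D ∈ S, ⁅A, D⁆ = ⊥ ∧ D ≠ A ∧ IsRankOnePair D B := by
  by_contra hN
  replace hN : ∀ D ∈ S, ⁅A, D⁆ = ⊥ → D ≠ A → ⁅D, B⁆ = ⊥ := fun D hD h1 h2 =>
    (commute_or_rankOne hS hdeg hD hB).resolve_right fun h3 => hN ⟨D, hD, h1, h2, h3⟩
  obtain ⟨q, hqA, hcouple, hperp⟩ := exists_sigma hS hdeg hA hY hC hr hr' hAC hne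
  obtain ⟨W, hWdef⟩ : ∃ W : G → G, W = fun x => x * (q * x * q⁻¹)⁻¹ := ⟨_, rfl⟩
  have hσ : ∀ x ∈ A, q * x * q⁻¹ ∈ C := fun x hx => hqA ▸ conj_mem_conjBy q hx
  have cAC : ∀ x ∈ A, ∀ y ∈ C, Commute x y := fun x hx y hy =>
    commute_of_commutator_eq_bot hAC hx hy
  have hWA : ∀ x ∈ A, ∀ y ∈ A, Commute (W x) y := fun x hx y hy =>
    hWdef ▸ (commute_of_mem hS hA hx hy).mul_left (cAC y hy _ (hσ x hx)).symm.inv_left
  have hWC : ∀ x ∈ A, ∀ y ∈ C, Commute (W x) y := fun x hx y hy =>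
    hWdef ▸ (cAC x hx y hy).mul_left (commute_of_mem hS hC (hσ x hx) hy).inv_left
  have hWmul : ∀ x ∈ A, ∀ y ∈ A, W (x * y) = W x * W y := by
    intro x hx y hy
    have h1 : Commute (q * y * q⁻¹)⁻¹ (x * (q * x * q⁻¹)⁻¹) :=
      ((cAC x hx _ (hσ y hy)).symm.inv_left).mul_right
        (commute_of_mem hS hC (hσ y hy) (hσ x hx)).inv_inv
    have h2 : Commute y (x * (q * x * q⁻¹)⁻¹) := by
      have := hWA x hx y hy
      rw [hWdef] at this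
      exact this.symm
    rw [hWdef]
    show x * y * (q * (x * y) * q⁻¹)⁻¹ = x * (q * x * q⁻¹)⁻¹ * (y * (q * y * q⁻¹)⁻¹)
    calc x * y * (q * (x * y) * q⁻¹)⁻¹
        = x * (y * (q * y * q⁻¹)⁻¹) * (q * x * q⁻¹)⁻¹ := by group
      _ = x * ((q * x * q⁻¹)⁻¹ * (y * (q * y * q⁻¹)⁻¹)) := by
        have h3 : Commute (y * (q * y * q⁻¹)⁻¹) (q * x * q⁻¹)⁻¹ :=
          (cAC y hy _ (hσ x hx)).inv_right.mul_left
            (commute_of_mem hS hC (hσ y hy) (hσ x hx)).inv_inv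
        rw [mul_assoc x, h3.eq]
      _ = _ := by group
  -- the member `R` commuting with every `Y ^ W x`, `x ≠ 1`
  obtain ⟨η₀, hη₀, hη₀1⟩ := exists_mem_ne_one (hS.ne_bot Y hY)
  obtain ⟨a₀, ha₀, -, hrel₀⟩ := hr.cond_right η₀ hη₀ hη₀1
  obtain ⟨R, hRdef⟩ : ∃ R, R = conjBy B (a₀ * η₀⁻¹) := ⟨_, rfl⟩
  have hR : ∀ x ∈ A, x ≠ 1 → ⁅R, conjBy Y (W x)⁆ = ⊥ := by
    intro x hx hx1
    have hperp' : ⁅Y, conjBy Y (W x)⁆ = ⊥ := by rw [hWdef]; exact hperp x hx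
    have hZA : ⁅A, conjBy Y (η₀ * a₀⁻¹ * W x)⁆ = ⊥ := by
      have h1 := commutator_conj_eq_bot (η₀ * a₀⁻¹) hperp'
      rwa [conjBy_conjBy, ← conjBy_conjBy (g := η₀), hrel₀, conjBy_conjBy, mul_inv_cancel,
        conjBy_one] at h1
    have hZne : conjBy Y (η₀ * a₀⁻¹ * W x) ≠ A := by
      intro e
      have h1 : conjBy Y (W x) = Y := by
        rw [← conjBy_conjBy, conjBy_eq_iff] at e
        rw [e, show (η₀ * a₀⁻¹)⁻¹ = a₀ * η₀⁻¹ by group, ← conjBy_conjBy, ← hrel₀, conjBy_conjBy,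
          mul_inv_cancel, conjBy_one]
      obtain ⟨η, r⟩ := exists_rel hr hx hx1
      have h2 := hcouple x hx η r.2.2.1 r.2.2.2.2.symm
      apply hne
      apply (conjBy_inj (g := η⁻¹)).1
      rw [← h2, r.2.2.2.2]
      conv_lhs => rw [← h1]
      rw [conjBy_conjBy, hWdef]
      congr 1
      group
    have h3 := commutator_conj_eq_bot (a₀ * η₀⁻¹)
      (hN _ (hS.conj_mem Y hY _) hZA hZne)
    rw [← hRdef, conjBy_conjBy, Subgroup.commutator_comm,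
      show a₀ * η₀⁻¹ * (η₀ * a₀⁻¹ * W x) = W x by group] at h3
    exact h3
  have hRY : ⁅R, Y⁆ ≠ ⊥ := by
    intro h
    have h1 := commutator_conj_eq_bot (η₀ * a₀⁻¹) h
    rw [hRdef, conjBy_conjBy, show η₀ * a₀⁻¹ * (a₀ * η₀⁻¹) = 1 by group, conjBy_one,
      ← conjBy_conjBy, hrel₀, conjBy_conjBy, mul_inv_cancel, conjBy_one,
      Subgroup.commutator_comm] at h1
    exact commutator_ne_bot_of_rankOne hS hA hB hAB h1
  apply hRY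
  rw [Subgroup.commutator_comm, Subgroup.commutator_eq_bot_iff_le_centralizer]
  intro η hη
  have hf : ∀ x ∈ A, x ≠ 1 → W x * η * (W x)⁻¹ ∈ Subgroup.centralizer (R : Set G) := by
    intro x hx hx1
    have h1 := hR x hx hx1
    rw [Subgroup.commutator_comm, Subgroup.commutator_eq_bot_iff_le_centralizer] at h1
    exact h1 (conj_mem_conjBy _ hη)
  by_cases hη1 : η = 1
  · rw [hη1]; exact one_mem _
  obtain ⟨a₁, ha₁, -, hrel⟩ := hr.cond_right η hη hη1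
  have hcrel := hcouple a₁ ha₁ η hη hrel
  obtain ⟨p, hp⟩ : ∃ p, p = η * (W x₁ * η * (W x₁)⁻¹)⁻¹ := ⟨_, rfl⟩
  have hp' : p = η * W x₁ * η⁻¹ * (W x₁)⁻¹ := by rw [hp]; group
  have hWperp : ∀ x ∈ A, ⁅Y, conjBy Y (W x)⁆ = ⊥ := fun x hx => by rw [hWdef]; exact hperp x hx
  have hWa : W a₁ = a₁ * (q * a₁ * q⁻¹)⁻¹ := by rw [hWdef]
  have hWi : W a₁⁻¹ = a₁⁻¹ * (q * a₁ * q⁻¹) := by rw [hWdef]; group
  have eA : conjBy A p = conjBy Y (η * W x₁ * a₁⁻¹) := by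
    rw [hp', ← conjBy_conjBy (g := η * W x₁ * η⁻¹),
      conjBy_eq_of_commute fun y hy => (hWA x₁ h₁ y hy).inv_left,
      ← conjBy_conjBy (g := η * W x₁), ← hrel, conjBy_conjBy]
  have eC : conjBy C p = conjBy Y (η * W x₁ * (q * a₁ * q⁻¹)⁻¹) := by
    rw [hp', ← conjBy_conjBy (g := η * W x₁ * η⁻¹),
      conjBy_eq_of_commute fun y hy => (hWC x₁ h₁ y hy).inv_left,
      ← conjBy_conjBy (g := η * W x₁), ← hcrel, conjBy_conjBy]
  have backA : conjBy Y (η * a₁⁻¹) = A := by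
    rw [← conjBy_conjBy, hrel, conjBy_conjBy, mul_inv_cancel, conjBy_one]
  have backC : conjBy Y (η * (q * a₁ * q⁻¹)⁻¹) = C := by
    rw [← conjBy_conjBy, hcrel, conjBy_conjBy, mul_inv_cancel, conjBy_one]
  have pA : ∀ D : Subgroup G, (D = conjBy A p ∨ D = conjBy C p) →
      ⁅A, D⁆ = ⊥ ∧ ⁅C, D⁆ = ⊥ := by
    rintro D (rfl | rfl)
    · rw [eA]
      constructor
      · have h := commutator_conj_eq_bot (η * a₁⁻¹) (hWperp x₁ h₁)
        rwa [backA, conjBy_conjBy, mul_assoc η, ← (hWA x₁ h₁ _ (A.inv_mem ha₁)).eq,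
          ← mul_assoc] at h
      · have h := commutator_conj_eq_bot (η * (q * a₁ * q⁻¹)⁻¹)
          (hWperp (a₁⁻¹ * x₁) (A.mul_mem (A.inv_mem ha₁) h₁))
        rw [backC, conjBy_conjBy, hWmul _ (A.inv_mem ha₁) _ h₁, hWi] at h
        rwa [show η * (q * a₁ * q⁻¹)⁻¹ * (a₁⁻¹ * (q * a₁ * q⁻¹) * W x₁) =
          η * W x₁ * a₁⁻¹ by
            rw [mul_assoc η (W x₁), (hWA x₁ h₁ _ (A.inv_mem ha₁)).eq,
              show η * (q * a₁ * q⁻¹)⁻¹ * (a₁⁻¹ * (q * a₁ * q⁻¹) * W x₁) =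
                η * ((q * a₁ * q⁻¹)⁻¹ * a₁⁻¹ * (q * a₁ * q⁻¹) * W x₁) by group,
              (cAC _ (A.inv_mem ha₁) _ (C.inv_mem (hσ a₁ ha₁))).symm.eq]
            group] at h
    · rw [eC]
      constructor
      · have h := commutator_conj_eq_bot (η * a₁⁻¹) (hWperp (a₁ * x₁) (A.mul_mem ha₁ h₁))
        rw [backA, conjBy_conjBy, hWmul _ ha₁ _ h₁, hWa] at h
        rwa [show η * a₁⁻¹ * (a₁ * (q * a₁ * q⁻¹)⁻¹ * W x₁) = η * W x₁ * (q * a₁ * q⁻¹)⁻¹ by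
          rw [mul_assoc η (W x₁), (hWC x₁ h₁ _ (C.inv_mem (hσ a₁ ha₁))).eq]
          group] at h
      · have h := commutator_conj_eq_bot (η * (q * a₁ * q⁻¹)⁻¹) (hWperp x₁ h₁)
        rwa [backC, conjBy_conjBy, mul_assoc η, ← (hWC x₁ h₁ _ (C.inv_mem (hσ a₁ ha₁))).eq,
          ← mul_assoc] at h
  obtain ⟨e, he⟩ : ∃ e, e = p * W x₂ * p⁻¹ * (W x₂)⁻¹ := ⟨_, rfl⟩
  have hew : Commute e (W x₃) := by
    have hmem : p * W x₂ * p⁻¹ ∈ conjBy A p ⊔ conjBy C p := by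
      rw [show p * W x₂ * p⁻¹ = (p * x₂ * p⁻¹) * (p * (q * x₂ * q⁻¹)⁻¹ * p⁻¹) by
        rw [hWdef]; group]
      exact Subgroup.mul_mem _ (Subgroup.mem_sup_left (conj_mem_conjBy p h₂))
        (Subgroup.mem_sup_right (conj_mem_conjBy p (C.inv_mem (hσ x₂ h₂))))
    have hle : conjBy A p ⊔ conjBy C p ≤ Subgroup.centralizer {W x₃} := by
      refine sup_le ?_ ?_ <;> intro y hy <;> rw [Subgroup.mem_centralizer_singleton_iff] <;>
        rw [hWdef]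
      · obtain ⟨k1, k2⟩ := pA _ (Or.inl rfl)
        exact ((commute_of_commutator_eq_bot k1 h₃ hy).mul_left
          (commute_of_commutator_eq_bot k2 (hσ x₃ h₃) hy).inv_left).symm.eq
      · obtain ⟨k1, k2⟩ := pA _ (Or.inr rfl)
        exact ((commute_of_commutator_eq_bot k1 h₃ hy).mul_left
          (commute_of_commutator_eq_bot k2 (hσ x₃ h₃) hy).inv_left).symm.eq
    have h1 : Commute (p * W x₂ * p⁻¹) (W x₃) :=
      Subgroup.mem_centralizer_singleton_iff.1 (hle hmem)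
    have h2 : Commute (W x₂) (W x₃) := by
      conv => arg 2; rw [hWdef]
      exact (hWA x₂ h₂ x₃ h₃).mul_right (hWC x₂ h₂ _ (hσ x₃ h₃)).inv_right
    exact he ▸ h1.mul_left h2.inv_left
  let f : G → G := fun x => W x * η * (W x)⁻¹
  have m₁₂ := A.mul_mem h₁ h₂
  have m₁₃ := A.mul_mem h₁ h₃
  have m₂₃ := A.mul_mem h₂ h₃
  have m₁₂₃ := A.mul_mem m₁₂ h₃
  have c₂₁ : W x₂ * W x₁ = W (x₁ * x₂) := by
    rw [(commute_of_mem hS hA h₁ h₂).eq, hWmul _ h₂ _ h₁]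
  have c₃₁ : W x₃ * W x₁ = W (x₁ * x₃) := by
    rw [(commute_of_mem hS hA h₁ h₃).eq, hWmul _ h₃ _ h₁]
  have c₃₂ : W x₃ * W x₂ = W (x₂ * x₃) := by
    rw [(commute_of_mem hS hA h₂ h₃).eq, hWmul _ h₃ _ h₂]
  have c₃₁₂ : W x₃ * W (x₁ * x₂) = W (x₁ * x₂ * x₃) := by
    rw [(commute_of_mem hS hA m₁₂ h₃).eq, hWmul _ h₃ _ m₁₂]
  have e₁ : e = η * (f x₁)⁻¹ * (f (x₁ * x₂) * (f x₂)⁻¹) := by
    rw [he, hp]
    show _ = η * (W x₁ * η * (W x₁)⁻¹)⁻¹ *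
      (W (x₁ * x₂) * η * (W (x₁ * x₂))⁻¹ * (W x₂ * η * (W x₂)⁻¹)⁻¹)
    rw [← c₂₁]; group
  have e₂ : e = f x₃ * (f (x₁ * x₃))⁻¹ * (f (x₁ * x₂ * x₃) * (f (x₂ * x₃))⁻¹) := by
    have h1 : e = W x₃ * e * (W x₃)⁻¹ := by rw [← hew.eq, mul_inv_cancel_right]
    rw [h1, e₁]
    show W x₃ * (η * (W x₁ * η * (W x₁)⁻¹)⁻¹ *
      (W (x₁ * x₂) * η * (W (x₁ * x₂))⁻¹ * (W x₂ * η * (W x₂)⁻¹)⁻¹)) * (W x₃)⁻¹ =
      W x₃ * η * (W x₃)⁻¹ * (W (x₁ * x₃) * η * (W (x₁ * x₃))⁻¹)⁻¹ *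
        (W (x₁ * x₂ * x₃) * η * (W (x₁ * x₂ * x₃))⁻¹ *
          (W (x₂ * x₃) * η * (W (x₂ * x₃))⁻¹)⁻¹)
    rw [← c₃₁, ← c₃₂, ← c₃₁₂]; group
  rw [show η = e * f x₂ * (f (x₁ * x₂))⁻¹ * f x₁ by rw [e₁]; group, e₂]
  exact mul_mem (mul_mem (mul_mem (mul_mem (mul_mem (hf _ h₃ n₃) (inv_mem (hf _ m₁₃ n₁₃)))
    (mul_mem (hf _ m₁₂₃ n₁₂₃) (inv_mem (hf _ m₂₃ n₂₃)))) (hf _ h₂ n₂))
    (inv_mem (hf _ m₁₂ n₁₂))) (hf _ h₁ n₁)

theorem exists_good_partner (hconn : IsConnectedFamily (FAdj S) S) {A C₀ : Subgroup G}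
    (hA : A ∈ S) (hC₀ : C₀ ∈ S) (hne : A ≠ C₀) (hAC₀ : ⁅A, C₀⁆ = ⊥) :
    ∃ Y ∈ S, ∃ C ∈ S, IsRankOnePair A Y ∧ IsRankOnePair C Y ∧ ⁅A, C⁆ = ⊥ ∧ A ≠ C := by
  by_contra hN
  have key : ∀ Z, Relation.ReflTransGen (FAdj S) A Z → Z = A ∨ IsRankOnePair A Z := by
    intro Z hZ
    induction hZ with
    | refl => exact Or.inl rfl
    | @tail X Y _ hXY ih =>
      rcases ih with rfl | h
      · exact Or.inr hXY.2.2
      · by_cases hYA : Y = A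
        · exact Or.inl hYA
        refine Or.inr ((commute_or_rankOne hS hdeg hA hXY.2.1).resolve_left fun hc => ?_)
        exact hN ⟨X, hXY.1, Y, hXY.2.1, h, RankOnePair_symm hXY.2.2, hc, Ne.symm hYA⟩
  rcases key C₀ (hconn A hA C₀ hC₀) with h | h
  · exact hne h.symm
  · exact commutator_ne_bot_of_rankOne hS hA hC₀ h hAC₀

end H98
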