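import Mathlib

/-!
# Grouping the points of an involution into equal blocks permuted by it,
# and monomial frames for linear maps with scalar square
-/

set_option autoImplicit false

namespace H98.Elusive

open Finset

variable {ι : Type*} [DecidableEq ι]

/-- A finite set closed under an involution can be cut into `t` blocks of size `a`,
permuted by the involution. -/
theorem exists_blocks (π : ι → ι) (hπ : ∀ i, π (π i) = i) (a : ℕ) (ha : 0 < a) :
    ∀ (t : ℕ) (S : Finset ι), (∀ i ∈ S, π i ∈ S) → S.card = a * t →
    ∃ P : Finset (Finset ι), P.card = t ∧ (∀ B ∈ P, B.card = a) ∧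
      (P : Set (Finset ι)).PairwiseDisjoint id ∧ P.sup id = S ∧ ∀ B ∈ P, B.image π ∈ P := by
  have hinj : Function.Injective π := fun x y h => by rw [← hπ x, h, hπ y]
  intro t
  induction t using Nat.strong_induction_on with
  | _ t ih =>
    intro S hS hcard
    rcases Nat.eq_zero_or_pos t with rfl | htpos
    · have : S = ∅ := card_eq_zero.1 (by simpa using hcard)
      exact ⟨∅, by simp [this]⟩
    classical
    obtain ⟨Fx, hFx⟩ : ∃ Fx, Fx = S.filter (fun i => π i = i) := ⟨_, rfl⟩
    -- a set of representatives of the moved pairs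
    obtain ⟨R, hR, hR1, hR2⟩ : ∃ R : Finset ι, R ⊆ S ∧ (∀ i ∈ R, π i ≠ i ∧ π i ∉ R) ∧
        (∀ i ∈ S, π i = i ∨ i ∈ R ∨ π i ∈ R) := by
      obtain ⟨R, hRmem, hRmax⟩ := Finset.exists_max_image
        (S.powerset.filter (fun R => ∀ i ∈ R, π i ≠ i ∧ π i ∉ R)) card
        ⟨∅, by simp⟩
      simp only [mem_filter, mem_powerset] at hRmem hRmax
      refine ⟨R, hRmem.1, hRmem.2, fun i hi => ?_⟩
      by_contra hcon
      push Not at hcon
      have := hRmax (insert i R) ⟨insert_subset hi hRmem.1, ?_⟩
      · rw [card_insert_of_notMem hcon.2.1] at this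
        omega
      · intro j hj
        rw [mem_insert] at hj ⊢
        rcases hj with rfl | hj
        · exact ⟨hcon.1, by rintro (h | h); exacts [hcon.1 h, hcon.2.2 h]⟩
        · refine ⟨(hRmem.2 j hj).1, ?_⟩
          rintro (h | h)
          · exact hcon.2.2 (by rw [← h, hπ]; exact hj)
          · exact (hRmem.2 j hj).2 h
    have hRF : ∀ i ∈ R, i ∉ Fx := fun i hi h => (hR1 i hi).1 (by rw [hFx] at h; exact (mem_filter.1 h).2)
    have hsplit : S.card = 2 * R.card + Fx.card := by
      have e : S = (R ∪ R.image π) ∪ Fx := by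
        ext i
        constructor
        · intro hi
          rcases hR2 i hi with h | h | h
          · exact mem_union_right _ (by rw [hFx]; exact mem_filter.2 ⟨hi, h⟩)
          · exact mem_union_left _ (mem_union_left _ h)
          · exact mem_union_left _ (mem_union_right _ (mem_image.2 ⟨_, h, hπ i⟩))
        · intro hi
          rcases mem_union.1 hi with h | h
          · rcases mem_union.1 h with h | h
            · exact hR h
            · obtain ⟨j, hj, rfl⟩ := mem_image.1 h
              exact hS j (hR hj)
          · rw [hFx] at h; exact (mem_filter.1 h).1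
      have d1 : Disjoint R (R.image π) := by
        rw [disjoint_left]
        intro i hi h
        obtain ⟨j, hj, rfl⟩ := mem_image.1 h
        exact (hR1 j hj).2 hi
      have d2 : Disjoint (R ∪ R.image π) Fx := by
        rw [disjoint_left]
        intro i hi hf
        rcases mem_union.1 hi with h | h
        · exact hRF i h hf
        · obtain ⟨j, hj, rfl⟩ := mem_image.1 h
          rw [hFx] at hf
          have := (mem_filter.1 hf).2
          rw [hπ] at this
          exact (hR1 j hj).1 this.symm
      rw [e, card_union_of_disjoint d2, card_union_of_disjoint d1, card_image_of_injective _ hinj]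
      omega
    -- recursion: remove either two swapped blocks or one invariant block
    by_cases hbig : a ≤ R.card ∧ 2 ≤ t
    · obtain ⟨A, hAR, hA⟩ := exists_subset_card_eq hbig.1
      have hdA : Disjoint A (A.image π) := by
        rw [disjoint_left]
        intro i hi h
        obtain ⟨j, hj, rfl⟩ := mem_image.1 h
        exact (hR1 j (hAR hj)).2 (hAR hi)
      have hU : A ∪ A.image π ⊆ S := union_subset (hAR.trans hR) (fun i hi => by
        obtain ⟨j, hj, rfl⟩ := mem_image.1 hi
        exact hS j (hR (hAR hj)))
      obtain ⟨P, hP1, hP2, hP3, hP4, hP5⟩ := ih (t - 2) (by omega) (S \ (A ∪ A.image π))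
        (fun i hi => by
          rw [mem_sdiff, mem_union] at hi ⊢
          refine ⟨hS i hi.1, ?_⟩
          rintro (h | h)
          · exact hi.2 (Or.inr (mem_image.2 ⟨_, h, hπ i⟩))
          · obtain ⟨j, hj, hji⟩ := mem_image.1 h
            exact hi.2 (Or.inl (hinj hji ▸ hj)))
        (by
          rw [card_sdiff_of_subset hU, card_union_of_disjoint hdA, card_image_of_injective _ hinj, hA, hcard,
            Nat.mul_sub, mul_comm a 2]
          omega)
      have hne : ∀ B ∈ P, Disjoint B (A ∪ A.image π) := fun B hB => by
        have hsub : B ⊆ S \ (A ∪ A.image π) := hP4 ▸ (le_sup (f := id) hB)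
        exact disjoint_of_subset_left hsub sdiff_disjoint
      have hAne : A.Nonempty := card_pos.1 (hA ▸ ha)
      have hnA : A ∉ P := fun h => by
        obtain ⟨i, hi⟩ := hAne
        exact disjoint_left.1 (hne A h) hi (mem_union_left _ hi)
      have hnA' : A.image π ∉ P := fun h => by
        obtain ⟨i, hi⟩ := hAne.image π
        exact disjoint_left.1 (hne _ h) hi (mem_union_right _ hi)
      have hAA' : A ≠ A.image π := fun h => by
        obtain ⟨i, hi⟩ := hAne
        exact disjoint_left.1 hdA hi (h ▸ hi)
      refine ⟨insert A (insert (A.image π) P), ?_, ?_, ?_, ?_, ?_⟩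
      · rw [card_insert_of_notMem (by simp [hAA', hnA]), card_insert_of_notMem hnA', hP1]
        omega
      · intro B hB
        rcases mem_insert.1 hB with rfl | hB
        · exact hA
        · rcases mem_insert.1 hB with rfl | hB
          · rw [card_image_of_injective _ hinj, hA]
          · exact hP2 B hB
      · rw [coe_insert, coe_insert]
        refine (hP3.insert fun B hB _ => ?_).insert fun B hB _ => ?_
        · exact (disjoint_of_subset_right subset_union_right (hne B hB)).symm
        · rcases hB with rfl | hB
          · exact hdA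
          · exact (disjoint_of_subset_right subset_union_left (hne B hB)).symm
      · rw [sup_insert, sup_insert, hP4, id_eq, id_eq, ← sup_assoc, sup_eq_union, sup_eq_union,
          union_sdiff_of_subset hU]
      · intro B hB
        rcases mem_insert.1 hB with rfl | hB
        · exact mem_insert_of_mem (mem_insert_self _ _)
        · rcases mem_insert.1 hB with rfl | hB
          · rw [image_image, show π ∘ π = id from funext hπ, image_id]
            exact mem_insert_self _ _
          · exact mem_insert_of_mem (mem_insert_of_mem (hP5 B hB))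
    · obtain ⟨j, hj⟩ : ∃ j, j = min R.card (a / 2) := ⟨_, rfl⟩
      have hjR : j ≤ R.card := by omega
      have hf : a - 2 * j ≤ Fx.card := by
        rcases Nat.lt_or_ge t 2 with h | h
        · have : t = 1 := by omega
          subst this
          omega
        · have hlt : R.card < a := by
            by_contra hc
            exact hbig ⟨by omega, h⟩
          have h2 : a * 2 ≤ a * t := Nat.mul_le_mul_left a h
          omega
      obtain ⟨A, hAR, hA⟩ := exists_subset_card_eq hjR
      obtain ⟨Z, hZF, hZ⟩ := exists_subset_card_eq hf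
      obtain ⟨B, hB⟩ : ∃ B, B = (A ∪ A.image π) ∪ Z := ⟨_, rfl⟩
      have hdA : Disjoint A (A.image π) := by
        rw [disjoint_left]
        intro i hi h
        obtain ⟨k, hk, rfl⟩ := mem_image.1 h
        exact (hR1 k (hAR hk)).2 (hAR hi)
      have hfix : ∀ i ∈ Z, π i = i := fun i hi => by
        have := hZF hi
        rw [hFx] at this
        exact (mem_filter.1 this).2
      have hdZ : Disjoint (A ∪ A.image π) Z := by
        rw [disjoint_left]
        intro i hi hz
        rcases mem_union.1 hi with h | h
        · exact hRF i (hAR h) (hZF hz)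
        · obtain ⟨k, hk, rfl⟩ := mem_image.1 h
          have := hfix _ hz
          rw [hπ] at this
          exact (hR1 k (hAR hk)).1 this.symm
      have hBS : B ⊆ S := by
        rw [hB]
        refine union_subset (union_subset (hAR.trans hR) (fun i hi => ?_)) (fun i hi => ?_)
        · obtain ⟨k, hk, rfl⟩ := mem_image.1 hi
          exact hS k (hR (hAR hk))
        · have := hZF hi
          rw [hFx] at this
          exact (mem_filter.1 this).1
      have hBc : B.card = a := by
        rw [hB, card_union_of_disjoint hdZ, card_union_of_disjoint hdA,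
          card_image_of_injective _ hinj, hA, hZ]
        omega
      have hBim : B.image π = B := by
        rw [hB, image_union, image_union, image_image, show π ∘ π = id from funext hπ, image_id,
          union_comm (A.image π) A]
        congr 1
        exact (image_congr (fun i hi => hfix i hi)).trans image_id
      obtain ⟨P, hP1, hP2, hP3, hP4, hP5⟩ := ih (t - 1) (by omega) (S \ B)
        (fun i hi => by
          rw [mem_sdiff] at hi ⊢
          refine ⟨hS i hi.1, fun h => hi.2 ?_⟩
          rw [← hBim]
          exact mem_image.2 ⟨_, h, hπ i⟩)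
        (by rw [card_sdiff_of_subset hBS, hBc, hcard, Nat.mul_sub, mul_one])
      have hne : ∀ C ∈ P, Disjoint C B := fun C hC =>
        disjoint_of_subset_left (hP4 ▸ (le_sup (f := id) hC)) sdiff_disjoint
      have hnB : B ∉ P := fun h => by
        obtain ⟨i, hi⟩ := card_pos.1 (hBc ▸ ha)
        exact disjoint_left.1 (hne B h) hi hi
      refine ⟨insert B P, ?_, ?_, ?_, ?_, ?_⟩
      · rw [card_insert_of_notMem hnB, hP1]; omega
      · intro C hC
        rcases mem_insert.1 hC with rfl | hC
        · exact hBc
        · exact hP2 C hC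
      · rw [coe_insert]
        exact hP3.insert fun C hC _ => (hne C hC).symm
      · rw [sup_insert, hP4, id_eq, sup_eq_union, union_sdiff_of_subset hBS]
      · intro C hC
        rcases mem_insert.1 hC with rfl | hC
        · rw [hBim]; exact mem_insert_self _ _
        · exact mem_insert_of_mem (hP5 C hC)

variable {F V : Type*} [Field F] [AddCommGroup V] [Module F V]

/-- The dimension of a partial sum of an independent family of equidimensional subspaces. -/
theorem finrank_biSup [FiniteDimensional F V] (L : ι → Submodule F V) (hind : iSupIndep L) (e : ℕ)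
    (he : ∀ i, Module.finrank F (L i) = e) (S : Finset ι) :
    Module.finrank F ↥(⨆ i ∈ S, L i) = S.card * e := by
  induction S using Finset.induction with
  | empty => simp
  | @insert i S hi ih =>
    rw [Finset.iSup_insert, card_insert_of_notMem hi, add_mul, one_mul, ← ih, ← he i]
    have h := Submodule.finrank_sup_add_finrank_inf_eq (L i) (⨆ j ∈ S, L j)
    have hd : Disjoint (L i) (⨆ j ∈ S, L j) :=
      hind.disjoint_biSup (y := ↑S) (by simpa using hi)
    rw [disjoint_iff.1 hd, finrank_bot] at h
    omega

/-- An involution-equivariant system of independent subspaces of dimension `e`, grouped into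
`t` summands of dimension `a * e` permuted by `T`. -/
theorem exists_decomposition [Fintype ι] [FiniteDimensional F V] (π : ι → ι)
    (hπ : ∀ i, π (π i) = i) (L : ι → Submodule F V) (hind : iSupIndep L) (htop : iSup L = ⊤)
    (T : V →ₗ[F] V) (hT : ∀ i, (L i).map T = L (π i)) (e : ℕ)
    (he : ∀ i, Module.finrank F (L i) = e) (a t : ℕ) (ha : 0 < a)
    (hcard : Fintype.card ι = a * t) :
    ∃ B : Fin t → Finset ι, ∃ σ : Equiv.Perm (Fin t),
      (∀ j, Module.finrank F ↥(⨆ i ∈ B j, L i) = a * e) ∧
      iSupIndep (fun j => ⨆ i ∈ B j, L i) ∧ (⨆ j, ⨆ i ∈ B j, L i) = ⊤ ∧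
      (∀ j, (⨆ i ∈ B j, L i).map T = ⨆ i ∈ B (σ j), L i) ∧
      (∀ j k, j ≠ k → Disjoint (B j) (B k)) := by
  classical
  obtain ⟨P, hP1, hP2, hP3, hP4, hP5⟩ :=
    exists_blocks π hπ a ha t Finset.univ (fun i _ => mem_univ _) (by rw [card_univ, hcard])
  obtain ⟨eP⟩ : Nonempty (Fin t ≃ P) := ⟨(P.equivFinOfCardEq hP1).symm⟩
  have hinj : Function.Injective π := fun x y h => by rw [← hπ x, h, hπ y]
  let g : P → P := fun C => ⟨(C : Finset ι).image π, hP5 _ C.2⟩
  have hg : Function.Involutive g := fun C => Subtype.ext (by
    show ((C : Finset ι).image π).image π = C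
    rw [image_image, show π ∘ π = id from funext hπ, image_id])
  refine ⟨fun j => (eP j : Finset ι), eP.trans ((hg.toPerm).trans eP.symm), ?_, ?_, ?_, ?_, ?_⟩
  · intro j
    rw [finrank_biSup L hind e he, hP2 _ (eP j).2]
  · have hd : Pairwise fun j k => Disjoint (eP j : Finset ι) (eP k : Finset ι) := fun j k hjk =>
      hP3 (eP j).2 (eP k).2 (fun h => hjk (eP.injective (Subtype.ext h)))
    intro j
    rw [disjoint_iff, eq_bot_iff]
    calc (⨆ i ∈ (eP j : Finset ι), L i) ⊓ (⨆ k, ⨆ (_ : k ≠ j), ⨆ i ∈ (eP k : Finset ι), L i)
        ≤ (⨆ i ∈ ((eP j : Finset ι) : Set ι), L i) ⊓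
            (⨆ i ∈ ((eP j : Finset ι) : Set ι)ᶜ, L i) := by
          refine inf_le_inf le_rfl ?_
          refine iSup₂_le fun k hk => iSup₂_le fun i hi => ?_
          refine le_iSup₂_of_le i ?_ le_rfl
          exact fun h => disjoint_left.1 (hd hk) hi h
      _ = ⊥ := disjoint_iff.1 (hind.disjoint_biSup_biSup (disjoint_compl_right))
  · rw [eq_top_iff, ← htop]
    refine iSup_le fun i => ?_
    have : i ∈ P.sup id := hP4 ▸ mem_univ i
    obtain ⟨C, hC, hiC⟩ := mem_sup.1 this
    refine le_iSup_of_le (eP.symm ⟨C, hC⟩) ?_
    simp only [Equiv.apply_symm_apply]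
    exact le_iSup₂_of_le i hiC le_rfl
  · intro j
    simp only [Equiv.trans_apply, Equiv.apply_symm_apply, Function.Involutive.coe_toPerm, g]
    rw [Submodule.map_iSup]
    simp only [Submodule.map_iSup, hT]
    rw [Finset.iSup_finset_image]
  · exact fun j k hjk => hP3 (eP j).2 (eP k).2 (fun h => hjk (eP.injective (Subtype.ext h)))

/-- A linear map with scalar nonzero square is monomial in some basis, for an involution of
the index set. -/
theorem exists_monomial_frame [FiniteDimensional F V] (T : V →ₗ[F] V) (z : F) (hz : z ≠ 0)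
    (hT : ∀ v, T (T v) = z • v) :
    ∃ (n : ℕ) (π : Fin n → Fin n) (L : Fin n → Submodule F V), (∀ i, π (π i) = i) ∧
      iSupIndep L ∧ iSup L = ⊤ ∧ (∀ i, Module.finrank F (L i) = 1) ∧
      ∀ i, (L i).map T = L (π i) := by
  classical
  -- a maximal independent family of pairs `b, T b`
  have hP0 : ∃ b : Fin 0 → V, LinearIndependent F (Sum.elim b (fun i => T (b i))) :=
    ⟨Fin.elim0, linearIndependent_empty_type⟩
  have hPb : ∀ k, (∃ b : Fin k → V, LinearIndependent F (Sum.elim b (fun i => T (b i)))) →
      k ≤ Module.finrank F V := by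
    rintro k ⟨b, hb⟩
    have := hb.fintype_card_le_finrank
    simp at this
    omega
  obtain ⟨k, ⟨b, hb⟩, hmax⟩ : ∃ k, (∃ b : Fin k → V,
      LinearIndependent F (Sum.elim b (fun i => T (b i)))) ∧
      ∀ k', (∃ b : Fin k' → V, LinearIndependent F (Sum.elim b (fun i => T (b i)))) → k' ≤ k :=
    ⟨_, Nat.findGreatest_spec (P := fun k => ∃ b : Fin k → V,
        LinearIndependent F (Sum.elim b (fun i => T (b i)))) (Nat.zero_le _) hP0,
      fun k' hk' => Nat.le_findGreatest (hPb k' hk') hk'⟩
  obtain ⟨W, hW⟩ : ∃ W, W = Submodule.span F (Set.range (Sum.elim b (fun i => T (b i)))) := ⟨_, rfl⟩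
  have hWT : ∀ w ∈ W, T w ∈ W := by
    intro w hw
    have : W ≤ W.comap T := by
      rw [hW, Submodule.span_le]
      rintro _ ⟨i, rfl⟩
      rcases i with i | i
      · exact Submodule.subset_span ⟨Sum.inr i, rfl⟩
      · show T (T (b i)) ∈ (Submodule.span F (Set.range (Sum.elim b fun i => T (b i))) : Set V)
        rw [SetLike.mem_coe]
        rw [hT]
        exact Submodule.smul_mem _ _ (Submodule.subset_span ⟨Sum.inl i, rfl⟩)
    exact this hw
  -- outside `W` every vector is an eigenvector modulo `W`
  have hext : ∀ v : V, v ∉ W → ∃ α : F, T v - α • v ∈ W := by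
    intro v hv
    by_contra hcon
    push Not at hcon
    have hli : LinearIndependent F
        (Sum.elim (Fin.snoc (α := fun _ => V) b v) (fun i => T (Fin.snoc (α := fun _ => V) b v i))) := by
      rw [Fintype.linearIndependent_iff]
      intro g hg
      rw [Fintype.sum_sum_type] at hg
      simp only [Sum.elim_inl, Sum.elim_inr, Fin.sum_univ_castSucc, Fin.snoc_castSucc,
        Fin.snoc_last] at hg
      obtain ⟨w, hwdef⟩ : ∃ w, w = (∑ i, g (Sum.inl (Fin.castSucc i)) • b i) +
          ∑ i, g (Sum.inr (Fin.castSucc i)) • T (b i) := ⟨_, rfl⟩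
      have hwW : w ∈ W := by
        rw [hwdef, hW]
        exact add_mem (sum_mem fun i _ => Submodule.smul_mem _ _
            (Submodule.subset_span ⟨Sum.inl i, rfl⟩))
          (sum_mem fun i _ => Submodule.smul_mem _ _ (Submodule.subset_span ⟨Sum.inr i, rfl⟩))
      have h2 : g (Sum.inr (Fin.last k)) = 0 := by
        by_contra h
        apply hcon (-(g (Sum.inl (Fin.last k)) / g (Sum.inr (Fin.last k))))
        have : T v - (-(g (Sum.inl (Fin.last k)) / g (Sum.inr (Fin.last k)))) • v =
            -(g (Sum.inr (Fin.last k)))⁻¹ • w := by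
          rw [hwdef]
          linear_combination (norm := (match_scalars <;> field_simp <;> ring))
            (g (Sum.inr (Fin.last k)))⁻¹ • hg
        rw [this]
        exact Submodule.smul_mem _ _ hwW
      have h1 : g (Sum.inl (Fin.last k)) = 0 := by
        by_contra h
        apply hv
        have : v = -(g (Sum.inl (Fin.last k)))⁻¹ • w := by
          rw [hwdef]
          rw [h2] at hg
          linear_combination (norm := (match_scalars <;> field_simp <;> ring))
            (g (Sum.inl (Fin.last k)))⁻¹ • hg
        rw [this]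
        exact Submodule.smul_mem _ _ hwW
      rw [h1, h2, zero_smul, zero_smul, add_zero, add_zero] at hg
      have := Fintype.linearIndependent_iff.1 hb
        (Sum.elim (fun i => g (Sum.inl (Fin.castSucc i))) (fun i => g (Sum.inr (Fin.castSucc i))))
        (by rw [Fintype.sum_sum_type]; exact hg)
      rintro (i | i)
      · refine Fin.lastCases h1 (fun j => ?_) i
        simpa using this (Sum.inl j)
      · refine Fin.lastCases h2 (fun j => ?_) i
        simpa using this (Sum.inr j)
    have := hmax (k + 1) ⟨_, hli⟩
    omega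
  -- eigenvectors complete `W`
  obtain ⟨E, hEdef⟩ : ∃ E : Submodule F V, E = Submodule.span F {v | ∃ α : F, T v = α • v} := ⟨_, rfl⟩
  have hsup : W ⊔ E = ⊤ := by
    rw [eq_top_iff]
    intro v _
    by_cases hv : v ∈ W
    · exact Submodule.mem_sup_left hv
    obtain ⟨α, hα⟩ := hext v hv
    have hα2 : α * α = z := by
      have h1 : T (T v - α • v) ∈ W := hWT _ hα
      rw [map_sub, map_smul, hT] at h1
      have h2 : (z - α * α) • v ∈ W := by
        have h3 := W.add_mem h1 (W.smul_mem α hα)
        have e : z • v - α • T v + α • (T v - α • v) = (z - α * α) • v := by module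
        rwa [e] at h3
      by_contra h
      exact hv ((W.smul_mem_iff (sub_ne_zero.2 (Ne.symm h))).1 h2)
    have hker : T (T v - α • v) = -α • (T v - α • v) := by
      rw [map_sub, map_smul, hT, ← hα2]
      module
    obtain ⟨c, hc⟩ := (Submodule.mem_span_range_iff_exists_fun F).1 (hW ▸ hα)
    rw [Fintype.sum_sum_type] at hc
    simp only [Sum.elim_inl, Sum.elim_inr] at hc
    have hcoef : ∀ i, c (Sum.inl i) = -α * c (Sum.inr i) := by
      intro i
      have h0 : ∑ j, Sum.elim (fun i => z * c (Sum.inr i) + α * c (Sum.inl i))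
          (fun i => c (Sum.inl i) + α * c (Sum.inr i)) j •
          Sum.elim b (fun i => T (b i)) j = 0 := by
        rw [Fintype.sum_sum_type]
        have h1 := hker
        rw [← hc, map_add, map_sum, map_sum] at h1
        simp only [map_smul, hT] at h1
        simp only [Sum.elim_inl, Sum.elim_inr, add_smul, Finset.sum_add_distrib, mul_smul,
          ← Finset.smul_sum]
        rw [smul_add] at h1
        have e : (∑ i, c (Sum.inr i) • z • b i) = ∑ i, z • c (Sum.inr i) • b i :=
          Finset.sum_congr rfl fun i _ => smul_comm _ _ _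
        rw [e] at h1
        rw [← Finset.smul_sum] at h1
        linear_combination (norm := module) h1
      have := Fintype.linearIndependent_iff.1 hb _ h0 (Sum.inr i)
      simp only [Sum.elim_inr] at this
      linear_combination this
    obtain ⟨u, hu⟩ : ∃ u, u = ∑ i, c (Sum.inr i) • b i := ⟨_, rfl⟩
    have hw1 : T v - α • v = T u - α • u := by
      rw [← hc, hu, map_sum, Finset.smul_sum]
      simp only [map_smul, hcoef, neg_mul, neg_smul, mul_smul, Finset.sum_neg_distrib]
      abel
    have huW : u ∈ W := by
      rw [hu, hW]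
      exact sum_mem fun i _ => Submodule.smul_mem _ _ (Submodule.subset_span ⟨Sum.inl i, rfl⟩)
    have : v = u + (v - u) := by abel
    rw [this]
    refine Submodule.add_mem_sup huW ?_
    rw [hEdef]
    refine Submodule.subset_span ⟨α, ?_⟩
    rw [map_sub]
    linear_combination (norm := module) hw1
  -- extend to a basis
  have hs : LinearIndepOn F id (Set.range (Sum.elim b (fun i => T (b i)))) := hb.linearIndepOn_id
  obtain ⟨N, hN2, hN1, hN3, hN4⟩ := exists_linearIndepOn_id_extension hs
    (Set.subset_union_left (t := {v : V | ∃ α : F, T v = α • v}))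
  have hspan : Submodule.span F N = ⊤ := by
    rw [eq_top_iff, ← hsup, hW, hEdef, ← Submodule.span_union]
    exact Submodule.span_le.2 hN3
  have hfin : N.Finite := hN4.setFinite
  letI := hfin.fintype
  let bb : Module.Basis N F V := Module.Basis.mk hN4 (by simpa using hspan.ge)
  have hbb : ∀ i : N, bb i = (i : V) := fun i => Module.Basis.mk_apply _ _ _
  -- the involution
  have hmem : ∀ i : N, (∃ j : Fin k ⊕ Fin k, Sum.elim b (fun i => T (b i)) j = i) ∨
      ((∀ j : Fin k ⊕ Fin k, Sum.elim b (fun i => T (b i)) j ≠ i) ∧ ∃ α : F, T (i : V) = α • (i : V)) := by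
    intro i
    by_cases h : ∃ j : Fin k ⊕ Fin k, Sum.elim b (fun i => T (b i)) j = i
    · exact Or.inl h
    · push Not at h
      rcases hN2 i.2 with ⟨j, hj⟩ | h'
      · exact absurd hj (h j)
      · exact Or.inr ⟨h, h'⟩
  let emb : Fin k ⊕ Fin k → N := fun j => ⟨_, hN1 ⟨j, rfl⟩⟩
  have hemb : Function.Injective emb := fun x y h => hb.injective (congrArg Subtype.val h)
  let π₀ : N → N := fun i => if h : ∃ j, emb j = i then emb h.choose.swap else i
  have hπe : ∀ j, π₀ (emb j) = emb j.swap := fun j => by
    have h : ∃ j', emb j' = emb j := ⟨j, rfl⟩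
    simp only [π₀, dif_pos h, hemb h.choose_spec]
  have hπf : ∀ i, (¬ ∃ j, emb j = i) → π₀ i = i := fun i h => dif_neg h
  have hπ₀ : ∀ i, π₀ (π₀ i) = i := fun i => by
    by_cases h : ∃ j, emb j = i
    · obtain ⟨j, rfl⟩ := h
      rw [hπe, hπe, Sum.swap_swap]
    · rw [hπf i h, hπf i h]
  have hmap : ∀ i, ∃ c : F, c ≠ 0 ∧ T (bb i) = c • bb (π₀ i) := by
    intro i
    by_cases h : ∃ j, emb j = i
    · obtain ⟨j, rfl⟩ := h
      rw [hπe, hbb, hbb]
      rcases j with j | j
      · exact ⟨1, one_ne_zero, (one_smul _ _).symm⟩
      · exact ⟨z, hz, hT _⟩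
    · rw [hπf i h, hbb]
      rcases hmem i with ⟨j, hj⟩ | ⟨-, α, hα⟩
      · exact absurd ⟨j, Subtype.ext hj⟩ h
      · refine ⟨α, fun h0 => ?_, hα⟩
        rw [h0, zero_smul] at hα
        have h1 := hT (i : V)
        rw [hα, map_zero, eq_comm, smul_eq_zero] at h1
        exact bb.ne_zero i ((hbb i).trans (h1.resolve_left hz))
  let eN := Fintype.equivFin N
  refine ⟨Fintype.card N, fun i => eN (π₀ (eN.symm i)), fun i => Submodule.span F {bb (eN.symm i)},
    fun i => by simp [hπ₀], ?_, ?_, fun i => finrank_span_singleton (bb.ne_zero _), fun i => ?_⟩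
  · exact bb.linearIndependent.iSupIndep_span_singleton.comp eN.symm.injective
  · rw [eq_top_iff, ← bb.span_eq, Submodule.span_le]
    rintro _ ⟨i, rfl⟩
    exact Submodule.mem_iSup_of_mem (eN i) (by simp [Submodule.mem_span_singleton_self])
  · obtain ⟨c, hc0, hc⟩ := hmap (eN.symm i)
    rw [Submodule.map_span, Set.image_singleton, hc, Submodule.span_singleton_smul_eq hc0.isUnit]
    simp

end H98.Elusive
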