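import Cfsg.Agent.H98.Lines

/-! Transitivity on lines, and their consequences for non-degenerate classes. -/

set_option autoImplicit false

namespace H98

open Cfsg

variable {G : Type*} [Group G] {S : Set (Subgroup G)}

theorem membersIn_conj (hS : IsRootSubgroupSet S) {N E : Subgroup G} {g : G}
    (hg : conjBy N g = N) (hE : E ∈ membersIn S N) : conjBy E g ∈ membersIn S N :=
  ⟨hS.conj_mem E hE.1 g, hg ▸ conjBy_mono g hE.2⟩

/-- The group generated by the members normalising `N`. -/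
def normGroup (S : Set (Subgroup G)) (N : Subgroup G) : Subgroup G :=
  ⨆ E ∈ normalizingMembers S N, E

theorem conjBy_of_mem_normGroup {N : Subgroup G} {g : G} (hg : g ∈ normGroup S N) :
    conjBy N g = N :=
  conjBy_eq_self_iff.2 ((iSup₂_le fun _ hE => hE.2 : normGroup S N ≤ _) hg)

theorem mem_normGroup {N W : Subgroup G} (hW : W ∈ S)
    (hn : W ≤ Subgroup.normalizer (N : Set G)) {w : G} (hw : w ∈ W) : w ∈ normGroup S N :=
  Subgroup.mem_iSup_of_mem W (Subgroup.mem_iSup_of_mem ⟨hW, hn⟩ hw)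

variable (hS : IsRootSubgroupSet S) (hF : ∀ A ∈ S, ¬ IsIsolatedIn (FAdj S) S A)

include hS hF

/-- A member moving `A` along the line `A ⊔ B`. -/
theorem exists_mover {A B : Subgroup G} (hA : A ∈ S) (hB : B ∈ linePartners S A) :
    ∃ E W : Subgroup G, E ∈ membersIn S (A ⊔ B) ∧ W ∈ S ∧ E ≠ A ∧ A ⊔ E = A ⊔ B ∧
      RootCommutatorCase S A W ∧ ⁅A, W⁆ = E ∧ W ≤ Subgroup.normalizer ((A ⊔ B : Subgroup G) : Set G) ∧
      (∀ w ∈ W, conjBy E w = E) ∧ (∀ X ∈ membersIn S (A ⊔ B), X ≠ E → ∃ w ∈ W, X = conjBy A w) := by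
  obtain ⟨D, hD, hr⟩ := exists_partner_of_not_isolated hA (hF A hA)
  obtain ⟨E, hE, hEA, hline, h1, h2, h3, -⟩ := exists_nonPartner hS hF hA hB hD hr
  have hfix : ∀ w ∈ ⁅E, D⁆, conjBy E w = E := fun w hw => by
    have := conjBy_commutator h2 (x := w) (Subgroup.mem_sup_right hw)
    rwa [h3] at this
  refine ⟨E, ⁅E, D⁆, ⟨hE, hline ▸ le_sup_right⟩, h1.1, hEA, hline, h2, h3, fun w hw => ?_, hfix,
    fun X hX hne => ?_⟩
  · rw [← conjBy_eq_self_iff]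
    have key : ∀ w ∈ ⁅E, D⁆, conjBy (A ⊔ B) w ≤ A ⊔ B := by
      intro w hw
      rw [← hline, conjBy_sup]
      refine sup_le ?_ ((hfix w hw).le.trans le_sup_right)
      have := conjBy_left_le h2 (b := w) hw
      rwa [h3] at this
    refine le_antisymm (key w hw) fun x hx => ?_
    rw [mem_conjBy]
    exact key w⁻¹ (Subgroup.inv_mem _ hw) (by simpa using conj_mem_conjBy w⁻¹ hx)
  · rcases line_members hS hF hA h1.1 h2 hX.1 (by rw [h3, hline]; exact hX.2) with h | h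
    · exact absurd (h.trans h3) hne
    · exact h

theorem line_transitive {A B : Subgroup G} (hA : A ∈ S) (hB : B ∈ linePartners S A) :
    ∀ X ∈ membersIn S (A ⊔ B), ∃ g ∈ normGroup S (A ⊔ B), X = conjBy A g := by
  obtain ⟨E, W, hE, hW, hEA, hline, hAW, hAWE, hWn, hWfix, hWtr⟩ := exists_mover hS hF hA hB
  have hAE : A ∈ linePartners S E := hAWE ▸ (linePartner_of_commutatorCase hS hF hA hW hAW).1
  obtain ⟨E', W', hE', hW', hE'E, hline', -, -, hWn', -, hWtr'⟩ := exists_mover hS hF hE.1 hAE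
  rw [sup_comm E A, hline] at hE' hWtr' hline' hWn'
  have hAmem : A ∈ membersIn S (A ⊔ B) := ⟨hA, le_sup_left⟩
  intro X hX
  by_cases hXE : X = E
  · subst hXE
    -- choose a third member
    obtain ⟨Z, hZ, hZE, hZE'⟩ : ∃ Z ∈ membersIn S (A ⊔ B), Z ≠ X ∧ Z ≠ E' := by
      by_cases hA' : A = E'
      · obtain ⟨w, hw, hw1⟩ := exists_mem_ne_one (hS.ne_bot W hW)
        have hwn := conjBy_eq_self_iff.2 (hWn hw)
        refine ⟨conjBy A w, membersIn_conj hS hwn hAmem, fun e => ?_, fun e => ?_⟩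
        · rw [← hWfix w hw] at e
          exact hEA (conjBy_inj.1 e).symm
        · obtain ⟨a, ha, ha1⟩ := exists_mem_ne_one (hS.ne_bot A hA)
          rw [← hA', conjBy_eq_self_iff, Subgroup.mem_normalizer_iff] at e
          have h1 : a * w * a⁻¹ * w⁻¹ ∈ A := by
            rw [show a * w * a⁻¹ * w⁻¹ = a * (w * a⁻¹ * w⁻¹) by group]
            exact A.mul_mem ha ((e a⁻¹).1 (A.inv_mem ha))
          have h2 : a * w * a⁻¹ * w⁻¹ ∈ X :=
            hAWE ▸ Subgroup.commutator_mem_commutator ha hw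
          have h3 : a * w * a⁻¹ * w⁻¹ = 1 := by_contra fun hne =>
            hEA (eq_of_mem_inter hS hF hE.1 hA h2 h1 hne)
          -- then `w` commutes with `a`
          refine hS.ne_bot X hE.1 ?_
          rw [← hAWE, ← hAW.2.2.2 w hw hw1, Subgroup.closure_eq_bot_iff]
          rintro _ ⟨x, hx, rfl⟩
          show x * w * x⁻¹ * w⁻¹ = 1
          by_cases hx1 : x = 1
          · simp [hx1]
          have h4 : x * w * x⁻¹ * w⁻¹ ∈ A := by
            rw [show x * w * x⁻¹ * w⁻¹ = x * (w * x⁻¹ * w⁻¹) by group]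
            exact A.mul_mem hx ((e x⁻¹).1 (A.inv_mem hx))
          have h5 : x * w * x⁻¹ * w⁻¹ ∈ X :=
            hAWE ▸ Subgroup.commutator_mem_commutator hx hw
          exact by_contra fun hne => hEA (eq_of_mem_inter hS hF hE.1 hA h5 h4 hne)
      · exact ⟨A, hAmem, hEA.symm, hA'⟩
    obtain ⟨w, hw, hwZ⟩ := hWtr Z hZ hZE
    obtain ⟨w', hw', hwZ'⟩ := hWtr' Z hZ hZE'
    refine ⟨w'⁻¹ * w, Subgroup.mul_mem _ (Subgroup.inv_mem _ (mem_normGroup hW' hWn' hw'))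
      (mem_normGroup hW hWn hw), ?_⟩
    rw [← conjBy_conjBy, ← hwZ, hwZ', conjBy_conjBy, inv_mul_cancel, conjBy_one]
  · obtain ⟨w, hw, h⟩ := hWtr X hX hXE
    exact ⟨w, mem_normGroup hW hWn hw, h⟩

theorem line_two_transitive {A B : Subgroup G} (hA : A ∈ S) (hB : B ∈ linePartners S A)
    {C₁ C₂ D₁ D₂ : Subgroup G} (hC₁ : C₁ ∈ membersIn S (A ⊔ B)) (hC₂ : C₂ ∈ membersIn S (A ⊔ B))
    (hD₁ : D₁ ∈ membersIn S (A ⊔ B)) (hD₂ : D₂ ∈ membersIn S (A ⊔ B))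
    (hC : C₁ ≠ C₂) (hD : D₁ ≠ D₂) :
    ∃ x ∈ normGroup S (A ⊔ B), conjBy C₁ x = D₁ ∧ conjBy C₂ x = D₂ := by
  obtain ⟨E, W, hE, hW, -, -, -, -, hWn, hWfix, hWtr⟩ := exists_mover hS hF hA hB
  have move : ∀ X₁ ∈ membersIn S (A ⊔ B), ∀ X₂ ∈ membersIn S (A ⊔ B), X₁ ≠ X₂ →
      ∃ x ∈ normGroup S (A ⊔ B), conjBy X₁ x = E ∧ conjBy X₂ x = A := by
    intro X₁ h1 X₂ h2 hne
    obtain ⟨g₁, hg₁, e₁⟩ := line_transitive hS hF hA hB X₁ h1
    obtain ⟨g₂, hg₂, e₂⟩ := line_transitive hS hF hA hB E hE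
    have hh : g₂ * g₁⁻¹ ∈ normGroup S (A ⊔ B) := Subgroup.mul_mem _ hg₂ (Subgroup.inv_mem _ hg₁)
    have e : conjBy X₁ (g₂ * g₁⁻¹) = E := by
      rw [e₁, conjBy_conjBy, inv_mul_cancel_right, ← e₂]
    obtain ⟨w, hw, hwX⟩ := hWtr _ (membersIn_conj hS (conjBy_of_mem_normGroup hh) h2)
      (fun e' => hne (conjBy_inj.1 (e.trans e'.symm)))
    refine ⟨w⁻¹ * (g₂ * g₁⁻¹), Subgroup.mul_mem _ (Subgroup.inv_mem _ (mem_normGroup hW hWn hw)) hh,
      ?_, ?_⟩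
    · rw [← conjBy_conjBy, e, hWfix _ (W.inv_mem hw)]
    · rw [← conjBy_conjBy, hwX, conjBy_conjBy, inv_mul_cancel, conjBy_one]
  obtain ⟨x, hx, x₁, x₂⟩ := move C₁ hC₁ C₂ hC₂ hC
  obtain ⟨y, hy, y₁, y₂⟩ := move D₁ hD₁ D₂ hD₂ hD
  refine ⟨y⁻¹ * x, Subgroup.mul_mem _ (Subgroup.inv_mem _ hy) hx, ?_, ?_⟩
  · rw [← conjBy_conjBy, x₁, ← y₁, conjBy_conjBy, inv_mul_cancel, conjBy_one]
  · rw [← conjBy_conjBy, x₂, ← y₂, conjBy_conjBy, inv_mul_cancel, conjBy_one]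

/-- For a line `{X, Y}` some member moves `X` along it fixing `Y`. -/
theorem exists_commutatorCase_line {X Y : Subgroup G} (hX : X ∈ S) (hY : Y ∈ linePartners S X) :
    ∃ W ∈ S, RootCommutatorCase S X W ∧ ⁅X, W⁆ = Y := by
  obtain ⟨E, W, hE, hW, hne, -, hXW, hXWE, -, -, -⟩ := exists_mover hS hF hX hY
  obtain ⟨g, -, g₁, g₂⟩ := line_two_transitive hS hF hX hY (⟨hX, le_sup_left⟩ : X ∈ membersIn S (X ⊔ Y))
    hE ⟨hX, le_sup_left⟩ ⟨hY.1.1, le_sup_right⟩ hne.symm hY.1.2.1.symm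
  refine ⟨conjBy W g, hS.conj_mem W hW g, ?_, ?_⟩
  · have := rootCommutatorCase_conj hS hX hW hXW g
    rwa [g₁] at this
  · rw [← g₁, ← g₂, ← hXWE, conjBy, conjBy, conjBy, ← Subgroup.map_commutator]

end H98
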