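import Cfsg.Agent.H98.CommutatorCase
import Cfsg.Agent.S5029

/-! Lines of abstract root subgroups: for a rank one partner `D` of `A`, every line through `A`
carries exactly one member that is no rank one partner of `D`. -/

set_option autoImplicit false

namespace H98

open Cfsg

variable {G : Type*} [Group G] {S : Set (Subgroup G)}

theorem mem_centralizer_sup {A B : Subgroup G} {z : G} (hA : ∀ a ∈ A, Commute z a)
    (hB : ∀ b ∈ B, Commute z b) : z ∈ Subgroup.centralizer ((A ⊔ B : Subgroup G) : Set G) := by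
  have hle : A ⊔ B ≤ Subgroup.centralizer {z} :=
    sup_le (fun a ha => Subgroup.mem_centralizer_singleton_iff.2 (hA a ha).symm)
      (fun b hb => Subgroup.mem_centralizer_singleton_iff.2 (hB b hb).symm)
  rw [Subgroup.mem_centralizer_iff]
  exact fun x hx => Subgroup.mem_centralizer_singleton_iff.1 (hle hx)

theorem conjBy_eq_of_commute {A : Subgroup G} {g : G} (h : ∀ x ∈ A, Commute g x) :
    conjBy A g = A := by
  ext x
  rw [mem_conjBy]
  constructor
  · intro hx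
    have h1 := (h _ hx).eq
    rw [show g * (g⁻¹ * x * g) = x * g by group] at h1
    have h2 : x = g⁻¹ * x * g := mul_right_cancel h1
    rwa [← h2] at hx
  · intro hx
    rwa [mul_assoc, ← (h x hx).eq, inv_mul_cancel_left]

theorem isSubgroupPartition_conj {N : Subgroup G} (hS : IsRootSubgroupSet S)
    (h : IsSubgroupPartition N (membersIn S N)) (g : G) :
    IsSubgroupPartition (conjBy N g) (membersIn S (conjBy N g)) := by
  have key : ∀ {C : Subgroup G}, C ∈ membersIn S (conjBy N g) → conjBy C g⁻¹ ∈ membersIn S N := by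
    intro C hC
    refine ⟨hS.conj_mem C hC.1 g⁻¹, ?_⟩
    have := conjBy_mono g⁻¹ hC.2
    rwa [conjBy_conjBy, inv_mul_cancel, conjBy_one] at this
  refine ⟨fun C hC => hC.2, fun x hx hx1 => ?_, fun C hC D hD hne => ?_⟩
  · rw [mem_conjBy] at hx
    obtain ⟨C, hC, hxC⟩ := h.2.1 _ hx fun e => hx1 (by
      calc x = g * (g⁻¹ * x * g) * g⁻¹ := by group
        _ = 1 := by rw [e]; group)
    exact ⟨conjBy C g, ⟨hS.conj_mem C hC.1 g, conjBy_mono g hC.2⟩, mem_conjBy.2 hxC⟩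
  · rw [← conjBy_eq_bot_iff (g := g⁻¹), conjBy_inf]
    exact h.2.2 _ (key hC) _ (key hD) fun e => hne (conjBy_inj.1 e)

theorem linePartners_conj (hS : IsRootSubgroupSet S) {A B : Subgroup G} (h : B ∈ linePartners S A)
    (g : G) : conjBy B g ∈ linePartners S (conjBy A g) := by
  obtain ⟨⟨hB, hne, hc⟩, hp⟩ := h
  refine ⟨⟨hS.conj_mem B hB g, fun e => hne (conjBy_inj.1 e), ?_⟩, ?_⟩
  · rw [conjBy, conjBy, ← Subgroup.map_commutator, hc, Subgroup.map_bot]
  · rw [← conjBy_sup]; exact isSubgroupPartition_conj hS hp g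

theorem linePartners_symm {A B : Subgroup G} (hA : A ∈ S) (h : B ∈ linePartners S A) :
    A ∈ linePartners S B := by
  obtain ⟨⟨-, hne, hc⟩, hp⟩ := h
  exact ⟨⟨hA, hne.symm, by rw [Subgroup.commutator_comm]; exact hc⟩, by rwa [sup_comm]⟩

theorem rootCommutatorCase_conj (hS : IsRootSubgroupSet S) {A B : Subgroup G} (hA : A ∈ S)
    (hB : B ∈ S) (h : RootCommutatorCase S A B) (g : G) :
    RootCommutatorCase S (conjBy A g) (conjBy B g) := by
  refine rootCommutatorCase_of_commutator_mem hS (hS.conj_mem A hA g) (hS.conj_mem B hB g) ?_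
  rw [conjBy, conjBy, ← Subgroup.map_commutator]
  exact hS.conj_mem _ h.1 g

variable (hS : IsRootSubgroupSet S) (hF : ∀ A ∈ S, ¬ IsIsolatedIn (FAdj S) S A)

include hS hF

theorem eq_of_mem_inter {A B : Subgroup G} (hA : A ∈ S) (hB : B ∈ S) {x : G} (hxA : x ∈ A)
    (hxB : x ∈ B) (hx : x ≠ 1) : A = B :=
  rootSet_trans_unique hS (hF A hA) hA hB hxA hxB hx

theorem linePartner_of_commutatorCase {A B : Subgroup G} (hA : A ∈ S) (hB : B ∈ S)
    (h : RootCommutatorCase S A B) :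
    A ∈ linePartners S ⁅A, B⁆ ∧ ⁅A, B⁆ ∈ linePartners S A := by
  have h1 := (Cfsg.Agent.S5029.result hS (hF A hA) hA hB h.1).2.2.1
  exact ⟨h1, linePartners_symm h.1 h1⟩

theorem line_members {A B : Subgroup G} (hA : A ∈ S) (hB : B ∈ S)
    (h : RootCommutatorCase S A B) {X : Subgroup G} (hX : X ∈ S) (hle : X ≤ A ⊔ ⁅A, B⁆) :
    X = ⁅A, B⁆ ∨ ∃ b ∈ B, X = conjBy A b := by
  have h1 := (Cfsg.Agent.S5029.result hS (hF A hA) hA hB h.1).1
  have h2 : X ∈ membersIn S (A ⊔ ⁅A, B⁆) := ⟨hX, hle⟩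
  rw [h1] at h2
  rcases h2 with ⟨b, hb, rfl⟩ | rfl
  · exact Or.inr ⟨b, hb, rfl⟩
  · exact Or.inl rfl

/-- The common part of the analysis of a member `E` commuting with `A` in the commutator case with
`D ∈ Ω_A`. -/
theorem nonPartner_aux {A D E : Subgroup G} (hA : A ∈ S) (hD : D ∈ S) (hE : E ∈ S)
    (hr : IsRankOnePair A D) (hAE : ⁅A, E⁆ = ⊥) (h : RootCommutatorCase S E D)
    (hAC : RootCommutatorCase S A ⁅E, D⁆) :
    ⁅D, ⁅A, ⁅E, D⁆⁆⁆ = ⁅E, D⁆ ∧ (∀ e ∈ E, ∀ z ∈ ⁅A, ⁅E, D⁆⁆, Commute e z) ∧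
      ∀ e ∈ E, ∃ u, ∃ k ∈ ⁅A, ⁅E, D⁆⁆, e = k * u ∧ (∀ x ∈ A, Commute u x) ∧
        ∀ x ∈ D, Commute u x := by
  obtain ⟨a, ha, ha1⟩ := exists_mem_ne_one (hS.ne_bot A hA)
  have cEA : ∀ e ∈ E, ∀ x ∈ A, Commute e x := fun e he x hx =>
    (commute_of_commutator_eq_bot hAE hx he).symm
  obtain ⟨C, hCdef⟩ : ∃ C, C = ⁅E, D⁆ := ⟨_, rfl⟩
  have hC : C ∈ S := hCdef ▸ h.1
  rw [← hCdef] at hAC ⊢
  have cCE : ∀ c ∈ C, ∀ e ∈ E, Commute c e := fun c hc e he =>
    h.2.1 c (hCdef ▸ hc) e (Subgroup.mem_sup_left he)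
  have cCD : ∀ c ∈ C, ∀ d ∈ D, Commute c d := fun c hc d hd =>
    h.2.1 c (hCdef ▸ hc) d (Subgroup.mem_sup_right hd)
  obtain ⟨c, hc, hc1⟩ := exists_mem_ne_one (hS.ne_bot C hC)
  obtain ⟨d, hd, hd1, hpart⟩ := hr.cond_left a ha ha1
  obtain ⟨K, hKdef⟩ : ∃ K, K = ⁅A, C⁆ := ⟨_, rfl⟩
  have hK : K ∈ S := hKdef ▸ hAC.1
  have cKA : ∀ z ∈ K, ∀ x ∈ A, Commute z x := fun z hz x hx =>
    hAC.2.1 z (hKdef ▸ hz) x (Subgroup.mem_sup_left hx)
  have cKC : ∀ z ∈ K, ∀ x ∈ C, Commute z x := fun z hz x hx =>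
    hAC.2.1 z (hKdef ▸ hz) x (Subgroup.mem_sup_right hx)
  have cEK : ∀ e ∈ E, ∀ z ∈ K, Commute e z := by
    intro e he
    have hle : K ≤ Subgroup.centralizer {e} := by
      rw [hKdef, Subgroup.commutator_le]
      intro x hx y hy
      have h1 : x ∈ Subgroup.centralizer {e} :=
        Subgroup.mem_centralizer_singleton_iff.2 (cEA e he x hx).symm
      have h2 : y ∈ Subgroup.centralizer {e} :=
        Subgroup.mem_centralizer_singleton_iff.2 (cCE y hy e he).eq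
      rw [commutatorElement_def]
      exact mul_mem (mul_mem (mul_mem h1 h2) (inv_mem h1)) (inv_mem h2)
    exact fun z hz => (Subgroup.mem_centralizer_singleton_iff.1 (hle hz)).symm
  -- `C ^ a` lies in `K ^ d`
  have hsub : conjBy C a⁻¹ ≤ conjBy K d⁻¹ := by
    have hN : E ⊔ C ≤ Subgroup.normalizer (K : Set G) := by
      refine sup_le (fun x hx => ?_) (fun x hx => ?_)
      · exact Subgroup.mem_normalizer_iff.2 fun z => ⟨fun hz => by
          rwa [(cEK x hx z hz).eq, mul_inv_cancel_right], fun hz => by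
          have h1 := (cEK x hx _ hz).eq
          rw [show x * z * x⁻¹ * x = x * z by group] at h1
          have h2 : x * z * x⁻¹ = z := mul_left_cancel h1
          rwa [h2] at hz⟩
      · exact Subgroup.mem_normalizer_iff.2 fun z => ⟨fun hz => by
          rwa [(cKC z hz x hx).symm.eq, mul_inv_cancel_right], fun hz => by
          have h1 := (cKC _ hz x hx).symm.eq
          rw [show x * z * x⁻¹ * x = x * z by group] at h1
          have h2 : x * z * x⁻¹ = z := mul_left_cancel h1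
          rwa [h2] at hz⟩
    have h1 : ⁅E ⊔ C, A⁆ ≤ K := by
      rw [Subgroup.commutator_comm, Subgroup.commutator_le]
      intro x hx y hy
      suffices y ∈ E ⊔ C ∧ ∀ x ∈ A, x * y * x⁻¹ * y⁻¹ ∈ K by
        rw [commutatorElement_def]; exact this.2 x hx
      rw [Subgroup.sup_eq_closure] at hy
      induction hy using Subgroup.closure_induction with
      | mem z hz =>
        rcases hz with hz | hz
        · refine ⟨Subgroup.mem_sup_left hz, fun x hx => ?_⟩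
          rw [← (cEA z hz x hx).eq, mul_inv_cancel_right, mul_inv_cancel]
          exact K.one_mem
        · exact ⟨Subgroup.mem_sup_right hz, fun x hx =>
            hKdef ▸ Subgroup.commutator_mem_commutator hx hz⟩
      | one => exact ⟨one_mem _, fun x _ => by simp [one_mem]⟩
      | mul u v _ _ iu iv =>
        refine ⟨mul_mem iu.1 iv.1, fun x hx => ?_⟩
        rw [show x * (u * v) * x⁻¹ * (u * v)⁻¹ =
          (x * u * x⁻¹ * u⁻¹) * (u * (x * v * x⁻¹ * v⁻¹) * u⁻¹) by group]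
        exact K.mul_mem (iu.2 x hx) ((Subgroup.mem_normalizer_iff.1 (hN iu.1) _).1 (iv.2 x hx))
      | inv u _ iu =>
        refine ⟨inv_mem iu.1, fun x hx => ?_⟩
        rw [show x * u⁻¹ * x⁻¹ * u⁻¹⁻¹ = u⁻¹ * (x * u * x⁻¹ * u⁻¹)⁻¹ * u⁻¹⁻¹ by group]
        exact (Subgroup.mem_normalizer_iff.1 (hN (inv_mem iu.1)) _).1 (K.inv_mem (iu.2 x hx))
    have h2 : conjBy E d ≤ E ⊔ C := by
      intro x hx
      have := conjBy_left_le h (b := d) hd hx
      rwa [← hCdef] at this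
    have hE' : conjBy E a⁻¹ = E := by
      rw [conjBy_eq_self_iff]
      exact Subgroup.mem_normalizer_iff.2 fun z => ⟨fun hz => by
        rwa [(cEA z hz _ (A.inv_mem ha)).symm.eq, mul_inv_cancel_right], fun hz => by
        have h1 := (cEA _ hz a⁻¹ (A.inv_mem ha)).symm.eq
        rw [show a⁻¹ * z * a⁻¹⁻¹ * a⁻¹ = a⁻¹ * z by group] at h1
        have h2 : a⁻¹ * z * a⁻¹⁻¹ = z := mul_left_cancel h1
        rwa [h2] at hz⟩
    have h3 : conjBy E d⁻¹⁻¹ ≤ E ⊔ C := by rwa [inv_inv]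
    calc conjBy C a⁻¹ = ⁅conjBy E a⁻¹, conjBy D a⁻¹⁆ := by
          rw [hCdef, conjBy, conjBy, conjBy, Subgroup.map_commutator]
      _ = ⁅conjBy (conjBy E d) d⁻¹, conjBy A d⁻¹⁆ := by
          rw [hE', ← hpart, conjBy_conjBy, inv_mul_cancel, conjBy_one]
      _ ≤ ⁅conjBy (E ⊔ C) d⁻¹, conjBy A d⁻¹⁆ :=
          Subgroup.commutator_mono (conjBy_mono _ h2) le_rfl
      _ = conjBy ⁅E ⊔ C, A⁆ d⁻¹ := by rw [conjBy, conjBy, conjBy, Subgroup.map_commutator]
      _ ≤ conjBy K d⁻¹ := conjBy_mono _ h1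
  -- the element `c`
  have hCA := rootCommutatorCase_symm hAC
  obtain ⟨κ, hκ, hx⟩ : ∃ z ∈ K, a⁻¹ * c * a = c * z := by
    refine ⟨c⁻¹ * a⁻¹ * c * a, ?_, by group⟩
    have := Subgroup.commutator_mem_commutator (H₁ := C) (H₂ := A) (C.inv_mem hc) (A.inv_mem ha)
    rw [Subgroup.commutator_comm, ← hKdef] at this
    simpa [commutatorElement_def] using this
  have hdx : c * (d * κ * d⁻¹) ∈ K := by
    have h1 : a⁻¹ * c * a ∈ conjBy K d⁻¹ := hsub (by simpa using conj_mem_conjBy a⁻¹ hc)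
    rw [hx, mem_conjBy, inv_inv] at h1
    rwa [show d * (c * κ) * d⁻¹ = (d * c * d⁻¹) * (d * κ * d⁻¹) by group,
      show d * c * d⁻¹ = c by rw [← (cCD c hc d hd).eq, mul_inv_cancel_right]] at h1
  have hCK : C ≠ K := by
    rw [hKdef, Subgroup.commutator_comm]
    exact (commutator_ne_left hS hCA).symm
  rcases hS.pair D hD K hK with hDK | hDK | hDK
  · exfalso
    rw [(commute_of_commutator_eq_bot hDK hd hκ).eq, mul_inv_cancel_right] at hdx
    have : c ∈ K := by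
      have := K.mul_mem hdx (K.inv_mem hκ)
      rwa [mul_inv_cancel_right] at this
    exact hCK (eq_of_mem_inter hS hF hC hK hc this hc1)
  · exfalso
    obtain ⟨z, hz, hz1⟩ := exists_mem_ne_one (hS.ne_bot K hK)
    obtain ⟨y, hy, hye⟩ := exists_conj_eq_mul hCA hc hc1 (z := z)
      (by rw [Subgroup.commutator_comm, ← hKdef]; exact hz)
    refine not_rootElement_mul hS hD (RankOnePair_symm hDK)
      (mem_centralizer_sup (fun x hx => (cKC x hx c hc).symm) (cCD c hc)) hc1 hz hz1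
      ⟨?_, conjBy C y, hS.conj_mem C hC y, ?_⟩
    · rw [← hye]; exact fun e' => hc1 (conj_eq_one_iff.1 e')
    · rw [← hye]; exact conj_mem_conjBy y hc
  have hL : ⁅D, K⁆ = C := by
    have hl : d * κ * d⁻¹ * κ⁻¹ ∈ ⁅D, K⁆ := Subgroup.commutator_mem_commutator hd hκ
    have hcl : c * (d * κ * d⁻¹ * κ⁻¹) ∈ K := by
      rw [← mul_assoc]
      exact K.mul_mem hdx (K.inv_mem hκ)
    have hmem : c ∈ K ⊔ ⁅K, D⁆ := by
      rw [show c = c * (d * κ * d⁻¹ * κ⁻¹) * (d * κ * d⁻¹ * κ⁻¹)⁻¹ by group]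
      exact Subgroup.mul_mem _ (Subgroup.mem_sup_left hcl)
        (Subgroup.mem_sup_right (Subgroup.inv_mem _ (by rwa [Subgroup.commutator_comm K D])))
    have hKD := rootCommutatorCase_symm hDK
    obtain ⟨hm, hp, -⟩ := Cfsg.Agent.S5029.result hS (hF K hK) hK hD hKD.1
    obtain ⟨Z, hZ, hcZ⟩ := hp.2.1 c hmem hc1
    obtain rfl : Z = C := (eq_of_mem_inter hS hF hC hZ.1 hc hcZ hc1).symm
    rcases line_members hS hF hK hD hKD hZ.1 hZ.2 with h1 | ⟨y, hy, h1⟩
    · rw [Subgroup.commutator_comm, ← h1]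
    · exfalso
      apply hCK
      have h2 : conjBy Z y = Z := conjBy_eq_self_iff.2 (Subgroup.mem_normalizer_iff.2 fun z =>
        ⟨fun hz => by rwa [(cCD z hz y hy).symm.eq, mul_inv_cancel_right], fun hz => by
          have h1 := (cCD _ hz y hy).symm.eq
          rw [show y * z * y⁻¹ * y = y * z by group] at h1
          have h2 : y * z * y⁻¹ = z := mul_left_cancel h1
          rwa [h2] at hz⟩)
      exact conjBy_inj.1 (h2.trans h1)
  refine ⟨by rw [← hKdef]; exact hL, fun e he z hz => cEK e he z (hKdef ▸ hz), fun e₀ he₀ => ?_⟩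
  obtain ⟨k, hk, hke⟩ := exists_comm_eq hDK hd hd1 (z := d * e₀ * d⁻¹ * e₀⁻¹) (by
    rw [hL, hCdef, Subgroup.commutator_comm]
    exact Subgroup.commutator_mem_commutator hd he₀)
  obtain ⟨u, hu⟩ : ∃ u, u = k⁻¹ * e₀ := ⟨_, rfl⟩
  have hud : Commute u d := by
    have h1 : d * u * d⁻¹ = u := by
      calc d * u * d⁻¹ = (d * k * d⁻¹ * k⁻¹ * k)⁻¹ * (d * e₀ * d⁻¹ * e₀⁻¹ * e₀) := by rw [hu]; group
        _ = u := by
          rw [hke, hu, mul_inv_rev, mul_assoc, inv_mul_cancel_left]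
    exact (mul_inv_eq_iff_eq_mul.1 h1).symm
  have huA : ∀ x ∈ A, Commute u x := fun x hx =>
    hu ▸ ((cKA k hk x hx).inv_left.mul_left (cEA e₀ he₀ x hx))
  have huD : ∀ x ∈ D, Commute u x := by
    intro x hx
    have h1 : a⁻¹ * x * a ∈ conjBy A d⁻¹ := by
      rw [hpart]; simpa using conj_mem_conjBy a⁻¹ hx
    rw [mem_conjBy, inv_inv] at h1
    have h2 := (hud.inv_right.mul_right (huA _ h1)).mul_right hud
    rw [show d⁻¹ * (d * (a⁻¹ * x * a) * d⁻¹) * d = a⁻¹ * x * a by group] at h2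
    have h3 := ((huA a ha).mul_right h2).mul_right (huA a ha).inv_right
    rwa [show a * (a⁻¹ * x * a) * a⁻¹ = x by group] at h3
  exact ⟨u, k, hKdef ▸ hk, by rw [hu, mul_inv_cancel_left], huA, huD⟩

/-- A member `E` of a line through `A` which is no rank one partner of `D ∈ Ω_A`. -/
theorem nonPartner_structure {A D E : Subgroup G} (hA : A ∈ S) (hD : D ∈ S) (hE : E ∈ S)
    (hr : IsRankOnePair A D) (hAE : ⁅A, E⁆ = ⊥)
    (hroot : ∀ e ∈ E, e ≠ 1 → ∀ a ∈ A, a ≠ 1 → e * a ∈ rootElements S)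
    (hn : ¬ IsRankOnePair E D) :
    RootCommutatorCase S E D ∧ RootCommutatorCase S A ⁅E, D⁆ ∧ ⁅A, ⁅E, D⁆⁆ = E := by
  obtain ⟨e₀, he₀, he₀1⟩ := exists_mem_ne_one (hS.ne_bot E hE)
  obtain ⟨a, ha, ha1⟩ := exists_mem_ne_one (hS.ne_bot A hA)
  have cEA : ∀ e ∈ E, ∀ x ∈ A, Commute e x := fun e he x hx =>
    (commute_of_commutator_eq_bot hAE hx he).symm
  rcases hS.pair E hE D hD with h | h | h
  · exact absurd (hroot e₀ he₀ he₀1 a ha ha1) (not_rootElement_mul hS hD hr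
      (mem_centralizer_sup (cEA e₀ he₀) fun d hd => commute_of_commutator_eq_bot h he₀ hd) he₀1
      ha ha1)
  · exact absurd h hn
  obtain ⟨C, hCdef⟩ : ∃ C, C = ⁅E, D⁆ := ⟨_, rfl⟩
  have hC : C ∈ S := hCdef ▸ h.1
  rw [← hCdef]
  have cCE : ∀ c ∈ C, ∀ e ∈ E, Commute c e := fun c hc e he =>
    h.2.1 c (hCdef ▸ hc) e (Subgroup.mem_sup_left he)
  have cCD : ∀ c ∈ C, ∀ d ∈ D, Commute c d := fun c hc d hd =>
    h.2.1 c (hCdef ▸ hc) d (Subgroup.mem_sup_right hd)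
  obtain ⟨c, hc, hc1⟩ := exists_mem_ne_one (hS.ne_bot C hC)
  obtain ⟨d, hd, hd1, hpart⟩ := hr.cond_left a ha ha1
  rcases hS.pair A hA C hC with hAC | hAC | hAC
  · exfalso
    obtain ⟨y, hy, hye⟩ := exists_conj_eq_mul (rootCommutatorCase_symm h) hd hd1 (z := c)
      (by rw [Subgroup.commutator_comm, ← hCdef]; exact hc)
    refine not_rootElement_mul hS hA (RankOnePair_symm hr)
      (mem_centralizer_sup (cCD c hc) fun x hx => (commute_of_commutator_eq_bot hAC hx hc).symm)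
      hc1 hd hd1 ⟨?_, conjBy D y, hS.conj_mem D hD y, ?_⟩
    · rw [(cCD c hc d hd).eq, ← hye]; exact fun e' => hd1 (conj_eq_one_iff.1 e')
    · rw [(cCD c hc d hd).eq, ← hye]; exact conj_mem_conjBy y hd
  · exfalso
    exact not_rootElement_mul hS hC hAC
      (mem_centralizer_sup (cEA e₀ he₀) fun x hx => (cCE x hx e₀ he₀).symm) he₀1 ha ha1
      (hroot e₀ he₀ he₀1 a ha ha1)
  obtain ⟨K, hKdef⟩ : ∃ K, K = ⁅A, C⁆ := ⟨_, rfl⟩
  have hK : K ∈ S := hKdef ▸ hAC.1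
  obtain ⟨-, hEK, hsplit⟩ := nonPartner_aux hS hF hA hD hE hr hAE h (hCdef ▸ hAC)
  rw [← hCdef, ← hKdef] at hEK hsplit
  refine ⟨h, hAC, ?_⟩
  rw [← hKdef]
  obtain ⟨u, k, hk, hsp, huA, huD⟩ := hsplit e₀ he₀
  have hu : u = k⁻¹ * e₀ := by rw [hsp, inv_mul_cancel_left]
  have cEK : ∀ e ∈ E, ∀ z ∈ K, Commute e z := hEK
  have hu1 : u = 1 := by
    by_contra hu1
    obtain ⟨y, hy, hye⟩ := exists_conj_eq_mul hAC ha ha1 (z := k) (hKdef ▸ hk)
    have hr' : IsRankOnePair (conjBy A y) D := by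
      have h1 := isRankOnePair_conj hr y
      rwa [conjBy_eq_of_commute fun z hz => cCD y hy z hz] at h1
    have huc : ∀ x ∈ conjBy A y, Commute u x := by
      intro x hx
      have hle : A ⊔ K ≤ Subgroup.centralizer {u} :=
        sup_le (fun z hz => Subgroup.mem_centralizer_singleton_iff.2 (huA z hz).symm)
          (fun z hz => Subgroup.mem_centralizer_singleton_iff.2 (by
            have hKcomm := commute_of_mem hS hK hk hz
            rw [hu]; exact (hKcomm.inv_left.mul_left (cEK e₀ he₀ z hz)).eq.symm))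
      exact (Subgroup.mem_centralizer_singleton_iff.1
        (hle (by have := conjBy_left_le hAC hy hx; rwa [← hKdef] at this))).symm
    refine not_rootElement_mul hS hD hr' (mem_centralizer_sup huc huD) hu1
      (conj_mem_conjBy y ha) (fun e' => ha1 (conj_eq_one_iff.1 e')) ?_
    have e1 : u * (y * a * y⁻¹) = e₀ * a := by
      have e2 := (huc _ (conj_mem_conjBy y ha)).eq
      rw [e2, hye, hu, mul_assoc, ← mul_assoc k, mul_inv_cancel, one_mul,
        (cEA e₀ he₀ a ha).eq]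
    rw [e1]
    exact hroot e₀ he₀ he₀1 a ha ha1
  refine eq_of_mem_inter hS hF hK hE (x := e₀) ?_ he₀ he₀1
  rw [hu, inv_mul_eq_one] at hu1
  exact hu1 ▸ hk

theorem line_root {A B E : Subgroup G} (hB : B ∈ linePartners S A) (hA : A ∈ S) (hE : E ∈ S)
    (hle : E ≤ A ⊔ B) (hne : E ≠ A) :
    ⁅A, E⁆ = ⊥ ∧ ∀ e ∈ E, e ≠ 1 → ∀ a ∈ A, a ≠ 1 → e * a ∈ rootElements S := by
  have hc := Subgroup.commutator_eq_bot_iff_le_centralizer.1 hB.1.2.2
  have hA' : A ⊔ B ≤ Subgroup.centralizer (A : Set G) := by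
    refine sup_le (fun x hx => Subgroup.mem_centralizer_iff.2 fun y hy =>
      (commute_of_mem hS hA hy hx).eq) ?_
    intro b hb
    rw [Subgroup.mem_centralizer_iff]
    exact fun y hy => (Subgroup.mem_centralizer_iff.1 (hc hy) b hb).symm
  refine ⟨?_, fun e he he1 a ha ha1 => ?_⟩
  · rw [Subgroup.commutator_comm, Subgroup.commutator_eq_bot_iff_le_centralizer]
    exact hle.trans hA'
  · have hne1 : e * a ≠ 1 := fun h1 => hne
      (eq_of_mem_inter hS hF hE hA he (by rw [eq_inv_of_mul_eq_one_left h1]; exact A.inv_mem ha) he1)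
    obtain ⟨Z, hZ, hz⟩ := hB.2.2.1 _
      (Subgroup.mul_mem _ (hle he) (Subgroup.mem_sup_left ha)) hne1
    exact ⟨hne1, Z, hZ.1, hz⟩

/-- For `D ∈ Ω_A` every line through `A` has a member in the commutator case with `D`. -/
theorem exists_nonPartner {A B D : Subgroup G} (hA : A ∈ S) (hB : B ∈ linePartners S A)
    (hD : D ∈ S) (hr : IsRankOnePair A D) :
    ∃ E ∈ S, E ≠ A ∧ A ⊔ E = A ⊔ B ∧ RootCommutatorCase S E D ∧
      RootCommutatorCase S A ⁅E, D⁆ ∧ ⁅A, ⁅E, D⁆⁆ = E ∧ (¬ IsRankOnePair B D → E = B) := by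
  by_cases hBD : IsRankOnePair B D
  · obtain ⟨b, hb, hb1⟩ := exists_mem_ne_one (hS.ne_bot B hB.1.1)
    obtain ⟨d, hd, hd1, hbd⟩ := hBD.cond_left b hb hb1
    obtain ⟨a, ha, -, had⟩ := hr.cond_right d hd hd1
    have hy1 : a * b⁻¹ ≠ 1 := fun h1 => hB.1.2.1
      (eq_of_mem_inter hS hF hB.1.1 hA hb (by rwa [← mul_inv_eq_one.1 h1]) hb1)
    obtain ⟨E, hE, hyE⟩ := hB.2.2.1 _
      (Subgroup.mul_mem _ (Subgroup.mem_sup_left ha) (Subgroup.mem_sup_right (B.inv_mem hb))) hy1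
    have hEA : E ≠ A := by
      rintro rfl
      refine hB.1.2.1 (eq_of_mem_inter hS hF hB.1.1 hA hb ?_ hb1)
      have := E.inv_mem (E.mul_mem (E.inv_mem ha) hyE)
      rwa [inv_mul_cancel_left, inv_inv] at this
    have hn : ¬ IsRankOnePair E D := by
      intro hED
      obtain ⟨d₀, hd₀, hd₀1⟩ := exists_mem_ne_one (hS.ne_bot D hD)
      refine not_commute_conj hED hyE hy1 hd₀ hd₀1 ?_
      have h0 : ⁅conjBy A d⁻¹, conjBy B d⁻¹⁆ = ⊥ := by
        rw [conjBy, conjBy, ← Subgroup.map_commutator, hB.1.2.2, Subgroup.map_bot]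
      rw [← had, hbd] at h0
      have h1 : Commute (a⁻¹ * d₀ * a) (b⁻¹ * d₀ * b) := commute_of_commutator_eq_bot h0
        (by simpa using conj_mem_conjBy a⁻¹ hd₀) (by simpa using conj_mem_conjBy b⁻¹ hd₀)
      have h2 := (Commute.conj_iff a).2 h1
      rw [show a * (a⁻¹ * d₀ * a) * a⁻¹ = d₀ by group,
        show a * (b⁻¹ * d₀ * b) * a⁻¹ = a * b⁻¹ * d₀ * (a * b⁻¹)⁻¹ by group] at h2
      exact h2.symm
    obtain ⟨hAE, hroot⟩ := line_root hS hF hB hA hE.1 hE.2 hEA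
    obtain ⟨h1, h2, h3⟩ := nonPartner_structure hS hF hA hD hE.1 hr hAE hroot hn
    refine ⟨E, hE.1, hEA, le_antisymm (sup_le le_sup_left hE.2) (sup_le le_sup_left ?_), h1, h2, h3,
      fun h => absurd hBD h⟩
    obtain ⟨-, hp, -⟩ := Cfsg.Agent.S5029.result hS (hF A hA) hA h1.1 h2.1
    rw [h3] at hp
    obtain ⟨Z, hZ, hbZ⟩ := hp.2.1 b (by
      have := Subgroup.mul_mem _ (Subgroup.inv_mem _ (Subgroup.mem_sup_right (S := A) hyE))
        (Subgroup.mem_sup_left (T := E) ha)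
      rwa [mul_inv_rev, inv_inv, inv_mul_cancel_right] at this) hb1
    exact (eq_of_mem_inter hS hF hB.1.1 hZ.1 hb hbZ hb1).le.trans hZ.2
  · obtain ⟨hAE, hroot⟩ := line_root hS hF hB hA hB.1.1 le_sup_right hB.1.2.1
    obtain ⟨h1, h2, h3⟩ := nonPartner_structure hS hF hA hD hB.1.1 hr hAE hroot hBD
    exact ⟨B, hB.1.1, hB.1.2.1, rfl, h1, h2, h3, fun _ => rfl⟩

end H98
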