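import Cfsg.Agent.H98.LineGroup

/-! Non-degenerate classes of abstract root subgroups: special rank one pairs, connectivity. -/

set_option autoImplicit false

namespace H98

open Cfsg

variable {G : Type*} [Group G] {S : Set (Subgroup G)}

theorem nondeg_facts (hS : IsRootSubgroupClass S) (hnd : IsNondegenerateRootSet S) :
    (∀ A ∈ S, ¬ IsIsolatedIn (FAdj S) S A) ∧ ∀ A ∈ S, ∃ C, C ∈ linePartners S A := by
  obtain ⟨-, ⟨R, hR, T, hT, hrt⟩, P, hP, Q, hQ, hPQ⟩ := hnd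
  have hF : ∀ A ∈ S, ¬ IsIsolatedIn (FAdj S) S A := by
    intro A hA
    obtain ⟨g, rfl⟩ := hS.2.2 R hR A hA
    exact not_isolated_conj hS.1 g hR (not_isolated_of_partner hR hT hrt)
  refine ⟨hF, fun A hA => ?_⟩
  obtain ⟨g, rfl⟩ := hS.2.2 P hP A hA
  exact ⟨_, linePartners_conj hS.1 (linePartner_of_commutatorCase hS.1 hF hP hQ hPQ).2 g⟩

variable (hS : IsRootSubgroupSet S)

include hS

theorem eq_one_of_centralizes {A B : Subgroup G} (h : RootCommutatorCase S A B) {a : G}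
    (ha : a ∈ A) (hc : ∀ b ∈ B, Commute a b) : a = 1 := by
  by_contra ha1
  refine hS.ne_bot _ h.1 ?_
  rw [← h.2.2.1 a ha ha1, Subgroup.closure_eq_bot_iff]
  rintro _ ⟨b, hb, rfl⟩
  show a * b * a⁻¹ * b⁻¹ = 1
  rw [(hc b hb).eq]; group

/-- A rank one pair acting on a line pair `E, ⁅E, B⁆` as `SL₂` is special. -/
theorem special_of_structure {A B E : Subgroup G} (hA : A ∈ S) (hB : B ∈ S) (hE : E ∈ S)
    (hr : IsRankOnePair A B) (hEB : RootCommutatorCase S E B)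
    (hAC : RootCommutatorCase S A ⁅E, B⁆) (hACE : ⁅A, ⁅E, B⁆⁆ = E) :
    IsSpecialRankOnePair A B := by
  refine ⟨hr, fun a ha ha1 b hb hb1 hrel => ?_⟩
  obtain ⟨C, hCdef⟩ : ∃ C, C = ⁅E, B⁆ := ⟨_, rfl⟩
  rw [← hCdef] at hAC hACE
  have hC : C ∈ S := hCdef ▸ hEB.1
  have cEA : ∀ e ∈ E, ∀ x ∈ A, Commute e x := fun e he x hx =>
    hAC.2.1 e (hACE.symm ▸ he) x (Subgroup.mem_sup_left hx)
  have cEC : ∀ e ∈ E, ∀ x ∈ C, Commute e x := fun e he x hx =>
    hAC.2.1 e (hACE.symm ▸ he) x (Subgroup.mem_sup_right hx)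
  have cCB : ∀ c ∈ C, ∀ x ∈ B, Commute c x := fun c hc x hx =>
    hEB.2.1 c (hCdef ▸ hc) x (Subgroup.mem_sup_right hx)
  have fixA : ∀ x ∈ A, ∀ e ∈ E, x * e * x⁻¹ = e := fun x hx e he => by
    rw [← (cEA e he x hx).eq, mul_inv_cancel_right]
  have fixB : ∀ x ∈ B, ∀ c ∈ C, x * c * x⁻¹ = c := fun x hx c hc => by
    rw [← (cCB c hc x hx).eq, mul_inv_cancel_right]
  -- images of `E` under `b`, of `C` under `a`
  have stepE : ∀ e ∈ E, ∃ f ∈ C, b⁻¹ * e * b = e * f ∧ a * f * a⁻¹ = e⁻¹ * f := by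
    intro e he
    obtain ⟨f, hf, hfe⟩ : ∃ f ∈ C, b⁻¹ * e * b = e * f := by
      refine ⟨e⁻¹ * b⁻¹ * e * b, ?_, by group⟩
      rw [hCdef]
      have := Subgroup.commutator_mem_commutator (H₁ := E) (H₂ := B) (E.inv_mem he) (B.inv_mem hb)
      simpa [commutatorElement_def] using this
    refine ⟨f, hf, hfe, ?_⟩
    have hg : a * f * a⁻¹ * f⁻¹ ∈ E := hACE ▸ Subgroup.commutator_mem_commutator ha hf
    have key : ∀ x ∈ B, Commute (e * (a * f * a⁻¹)) x := by
      intro x hx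
      have h1 : a⁻¹ * x * a ∈ conjBy A b⁻¹ := by
        rw [hrel]; simpa using conj_mem_conjBy a⁻¹ hx
      rw [mem_conjBy, inv_inv] at h1
      have h2 : Commute (b⁻¹ * e * b) (a⁻¹ * x * a) := by
        have h3 := (Commute.conj_iff b⁻¹).2 (cEA e he _ h1)
        rw [show b⁻¹ * (b * (a⁻¹ * x * a) * b⁻¹) * b⁻¹⁻¹ = a⁻¹ * x * a by group, inv_inv] at h3
        exact h3
      have h4 := (Commute.conj_iff a).2 h2
      rw [hfe, show a * (a⁻¹ * x * a) * a⁻¹ = x by group,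
        show a * (e * f) * a⁻¹ = (a * e * a⁻¹) * (a * f * a⁻¹) by group, fixA a ha e he] at h4
      exact h4
    have h5 : e * (a * f * a⁻¹ * f⁻¹) = 1 := by
      refine eq_one_of_centralizes hS hEB (E.mul_mem he hg) fun x hx => ?_
      have h6 := (key x hx).mul_left (cCB f hf x hx).inv_left
      rwa [show e * (a * f * a⁻¹) * f⁻¹ = e * (a * f * a⁻¹ * f⁻¹) by group] at h6
    have h6 : a * f * a⁻¹ * f⁻¹ = e⁻¹ := eq_inv_of_mul_eq_one_right h5
    exact mul_inv_eq_iff_eq_mul.1 h6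
  have stepC : ∀ c ∈ C, ∃ e ∈ E, a⁻¹ * c * a = c * e ∧ b * e * b⁻¹ = c⁻¹ * e := by
    intro c hc
    obtain ⟨e, he, hce⟩ : ∃ e ∈ E, a⁻¹ * c * a = c * e := by
      refine ⟨c⁻¹ * a⁻¹ * c * a, ?_, by group⟩
      have := Subgroup.commutator_mem_commutator (H₁ := C) (H₂ := A) (C.inv_mem hc) (A.inv_mem ha)
      rw [Subgroup.commutator_comm, hACE] at this
      simpa [commutatorElement_def] using this
    refine ⟨e, he, hce, ?_⟩
    have hh : b * e * b⁻¹ * e⁻¹ ∈ C := by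
      rw [hCdef, Subgroup.commutator_comm]
      exact Subgroup.commutator_mem_commutator hb he
    have key : ∀ x ∈ A, Commute (c * (b * e * b⁻¹)) x := by
      intro x hx
      have h1 : b⁻¹ * x * b ∈ conjBy B a⁻¹ := by
        rw [← hrel]; simpa using conj_mem_conjBy b⁻¹ hx
      rw [mem_conjBy, inv_inv] at h1
      have h2 : Commute (a⁻¹ * c * a) (b⁻¹ * x * b) := by
        have h3 := (Commute.conj_iff a⁻¹).2 (cCB c hc _ h1)
        rw [show a⁻¹ * (a * (b⁻¹ * x * b) * a⁻¹) * a⁻¹⁻¹ = b⁻¹ * x * b by group, inv_inv] at h3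
        exact h3
      have h4 := (Commute.conj_iff b).2 h2
      rw [hce, show b * (b⁻¹ * x * b) * b⁻¹ = x by group,
        show b * (c * e) * b⁻¹ = (b * c * b⁻¹) * (b * e * b⁻¹) by group, fixB b hb c hc] at h4
      exact h4
    have h5 : c * (b * e * b⁻¹ * e⁻¹) = 1 := by
      refine eq_one_of_centralizes hS (rootCommutatorCase_symm hAC) (C.mul_mem hc hh) fun x hx => ?_
      have h6 := (key x hx).mul_left (cEA e he x hx).inv_left
      rwa [show c * (b * e * b⁻¹) * e⁻¹ = c * (b * e * b⁻¹ * e⁻¹) by group] at h6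
    exact mul_inv_eq_iff_eq_mul.1 (eq_inv_of_mul_eq_one_right h5)
  obtain ⟨u, hu⟩ : ∃ u, u = b⁻¹ * a * b := ⟨_, rfl⟩
  obtain ⟨v, hv⟩ : ∃ v, v = a⁻¹ * b⁻¹ * a := ⟨_, rfl⟩
  rw [← hu, ← hv]
  have hE' : ∀ e ∈ E, u * e * u⁻¹ = v * e * v⁻¹ := by
    intro e he
    obtain ⟨f, hf, hfe, haf⟩ := stepE e he
    have hbe : b * e * b⁻¹ = e * f⁻¹ := by
      calc b * e * b⁻¹ = b * (b⁻¹ * e * b) * b⁻¹ * (b * f * b⁻¹)⁻¹ := by rw [hfe]; group
        _ = e * f⁻¹ := by rw [fixB b hb f hf]; group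
    have hafi : a⁻¹ * f * a = e * f := by
      calc a⁻¹ * f * a = a⁻¹ * (e * (e⁻¹ * f)) * a := by group
        _ = (a⁻¹ * e * a⁻¹⁻¹) * (a⁻¹ * (a * f * a⁻¹) * a) := by rw [haf]; group
        _ = e * f := by rw [fixA a⁻¹ (A.inv_mem ha) e he]; group
    have l1 : u * e * u⁻¹ = e * f * (e * f) * f⁻¹ := by
      calc u * e * u⁻¹ = b⁻¹ * (a * (b * e * b⁻¹) * a⁻¹) * b := by rw [hu]; group
        _ = b⁻¹ * ((a * e * a⁻¹) * (a * f * a⁻¹)⁻¹) * b := by rw [hbe]; group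
        _ = b⁻¹ * (e * f⁻¹ * e) * b := by rw [fixA a ha e he, haf]; group
        _ = (b⁻¹ * e * b) * (b⁻¹ * f * b⁻¹⁻¹)⁻¹ * (b⁻¹ * e * b) := by group
        _ = e * f * f⁻¹ * (e * f) := by rw [fixB b⁻¹ (B.inv_mem hb) f hf, hfe]
        _ = e * f * (e * f) * f⁻¹ := by
          have hc : Commute f⁻¹ (e * f) :=
            ((cEC e he f hf).symm.mul_right (Commute.refl f)).inv_left
          rw [mul_assoc (e * f), hc.eq, ← mul_assoc]
    have l2 : v * e * v⁻¹ = e * (e * f) := by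
      calc v * e * v⁻¹ = a⁻¹ * (b⁻¹ * (a * e * a⁻¹) * b) * a := by rw [hv]; group
        _ = (a⁻¹ * e * a⁻¹⁻¹) * (a⁻¹ * f * a) := by rw [fixA a ha e he, hfe]; group
        _ = e * (e * f) := by rw [fixA a⁻¹ (A.inv_mem ha) e he, hafi]
    rw [l1, l2]
    calc e * f * (e * f) * f⁻¹ = e * (f * e) := by group
      _ = e * (e * f) := by rw [(cEC e he f hf).eq]
  have hC' : ∀ c ∈ C, u * c * u⁻¹ = v * c * v⁻¹ := by
    intro c hc
    obtain ⟨e, he, hce, hbe⟩ := stepC c hc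
    have hbei : b⁻¹ * e * b = c * e := by
      calc b⁻¹ * e * b = b⁻¹ * (c * (c⁻¹ * e)) * b := by group
        _ = (b⁻¹ * c * b⁻¹⁻¹) * (b⁻¹ * (b * e * b⁻¹) * b) := by rw [hbe]; group
        _ = c * e := by rw [fixB b⁻¹ (B.inv_mem hb) c hc]; group
    have haci : a * c * a⁻¹ = c * e⁻¹ := by
      calc a * c * a⁻¹ = a * (a⁻¹ * c * a) * a⁻¹ * (a * e * a⁻¹)⁻¹ := by rw [hce]; group
        _ = c * e⁻¹ := by rw [fixA a ha e he]; group
    have l1 : u * c * u⁻¹ = c * (c * e)⁻¹ := by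
      calc u * c * u⁻¹ = b⁻¹ * (a * (b * c * b⁻¹) * a⁻¹) * b := by rw [hu]; group
        _ = (b⁻¹ * c * b⁻¹⁻¹) * (b⁻¹ * e * b)⁻¹ := by rw [fixB b hb c hc, haci]; group
        _ = c * (c * e)⁻¹ := by rw [fixB b⁻¹ (B.inv_mem hb) c hc, hbei]
    have l2 : v * c * v⁻¹ = a⁻¹ * (c * (c * e)⁻¹) * a := by
      calc v * c * v⁻¹ = a⁻¹ * (b⁻¹ * (a * c * a⁻¹) * b) * a := by rw [hv]; group
        _ = a⁻¹ * ((b⁻¹ * c * b⁻¹⁻¹) * (b⁻¹ * e * b)⁻¹) * a := by rw [haci]; group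
        _ = a⁻¹ * (c * (c * e)⁻¹) * a := by rw [fixB b⁻¹ (B.inv_mem hb) c hc, hbei]
    have h3 : c * (c * e)⁻¹ = e⁻¹ := by
      rw [(cEC e he c hc).symm.eq]; group
    rw [l1, l2, h3, show a⁻¹ * e⁻¹ * a = a⁻¹ * e⁻¹ * a⁻¹⁻¹ by group,
      fixA a⁻¹ (A.inv_mem ha) _ (E.inv_mem he)]
  have huU : u ∈ conjBy A b⁻¹ := by rw [hu]; simpa using conj_mem_conjBy b⁻¹ ha
  have hvU : v ∈ conjBy A b⁻¹ := by
    rw [hv, hrel]; simpa using conj_mem_conjBy a⁻¹ (B.inv_mem hb)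
  obtain ⟨z, hzdef⟩ : ∃ z, z = v⁻¹ * u := ⟨_, rfl⟩
  have hzA : b * z * b⁻¹ ∈ A := by
    have h1 : z ∈ conjBy A b⁻¹ := hzdef ▸ Subgroup.mul_mem _ (Subgroup.inv_mem _ hvU) huU
    rwa [mem_conjBy, inv_inv] at h1
  have hzM : ∀ y ∈ E ⊔ C, Commute z y := by
    have hle : E ⊔ C ≤ Subgroup.centralizer {z} := by
      refine sup_le (fun y hy => ?_) (fun y hy => ?_) <;>
        rw [Subgroup.mem_centralizer_singleton_iff]
      · have h2 : z * y * z⁻¹ = y := by
          calc z * y * z⁻¹ = v⁻¹ * (u * y * u⁻¹) * v := by rw [hzdef]; group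
            _ = y := by rw [hE' y hy]; group
        exact (mul_inv_eq_iff_eq_mul.1 h2).symm
      · have h2 : z * y * z⁻¹ = y := by
          calc z * y * z⁻¹ = v⁻¹ * (u * y * u⁻¹) * v := by rw [hzdef]; group
            _ = y := by rw [hC' y hy]; group
        exact (mul_inv_eq_iff_eq_mul.1 h2).symm
    exact fun y hy => (Subgroup.mem_centralizer_singleton_iff.1 (hle hy)).symm
  have h0 : b * z * b⁻¹ = 1 := by
    refine eq_one_of_centralizes hS hAC hzA fun c hc => ?_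
    have h1 := (Commute.conj_iff b).2 (hzM c (Subgroup.mem_sup_right hc))
    rwa [fixB b hb c hc] at h1
  rw [conj_eq_one_iff, hzdef, inv_mul_eq_one] at h0
  exact h0.symm

variable (hF : ∀ A ∈ S, ¬ IsIsolatedIn (FAdj S) S A)
  (hline : ∀ A ∈ S, ∃ C, C ∈ linePartners S A)

include hF hline

theorem partner_structure {A B : Subgroup G} (hA : A ∈ S) (hB : B ∈ S) (hr : IsRankOnePair A B) :
    ∃ E ∈ linePartners S A, RootCommutatorCase S E B ∧ RootCommutatorCase S A ⁅E, B⁆ ∧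
      ⁅A, ⁅E, B⁆⁆ = E := by
  obtain ⟨C₀, hC₀⟩ := hline A hA
  obtain ⟨E, hE, hne, hl, h1, h2, h3, -⟩ := exists_nonPartner hS hF hA hC₀ hB hr
  exact ⟨E, h3 ▸ (linePartner_of_commutatorCase hS hF hA h1.1 h2).2, h1, h2, h3⟩

theorem eAdj_connected_conj {A D : Subgroup G} (hA : A ∈ S) (hD : D ∈ S) {d : G} (hd : d ∈ D) :
    Relation.ReflTransGen (EAdj S S) A (conjBy A d) := by
  rcases hS.pair A hA D hD with h | h | h
  · rw [conjBy_eq_of_commute fun x hx => (commute_of_commutator_eq_bot h hx hd).symm]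
  · obtain ⟨E, hE, h1, h2, h3⟩ := partner_structure hS hF hline hA hD h
    have p1 : EAdj S S A E := ⟨hA, hE.1.1, hE⟩
    have p2 : EAdj S S E ⁅E, D⁆ :=
      ⟨hE.1.1, h1.1, (linePartner_of_commutatorCase hS hF hE.1.1 hD h1).2⟩
    have hDline := (linePartner_of_commutatorCase hS hF hD hE.1.1 (rootCommutatorCase_symm h1)).1
    rw [Subgroup.commutator_comm D E] at hDline
    have p3 : EAdj S S ⁅E, D⁆ D := ⟨h1.1, hD, hDline⟩
    have q : ∀ {X Y : Subgroup G}, EAdj S S X Y → EAdj S S (conjBy X d) (conjBy Y d) := fun p =>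
      ⟨hS.conj_mem _ p.1 d, hS.conj_mem _ p.2.1 d, linePartners_conj hS p.2.2 d⟩
    have s : ∀ {X Y : Subgroup G}, EAdj S S X Y → EAdj S S Y X := fun p =>
      ⟨p.2.1, p.1, linePartners_symm p.1 p.2.2⟩
    have r3 : EAdj S S D (conjBy ⁅E, D⁆ d) := by
      have := s (q p3); rwa [conjBy_self hd] at this
    exact ((((Relation.ReflTransGen.single p1).tail p2).tail p3).tail r3).tail (s (q p2)) |>.tail
      (s (q p1))
  · have h1 := (linePartner_of_commutatorCase hS hF hA hD h).2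
    have h2 : ⁅A, D⁆ ∈ linePartners S (conjBy A d) := by
      have := linePartners_conj hS h1 d
      rwa [conjBy_commutator h (Subgroup.mem_sup_right hd)] at this
    exact (Relation.ReflTransGen.single ⟨hA, h.1, h1⟩).tail
      ⟨h.1, hS.conj_mem A hA d, linePartners_symm (hS.conj_mem A hA d) h2⟩

theorem eAdj_connected (hconj : IsConjClassOfSubgroups S) :
    IsConnectedFamily (EAdj S S) S := by
  intro A hA B hB
  obtain ⟨g, rfl⟩ := hconj.2 A hA B hB
  have hg : g ∈ ⨆ A ∈ S, A := by rw [hS.generates]; trivial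
  clear hB
  revert A
  rw [iSup_subtype'] at hg
  induction hg using Subgroup.iSup_induction' with
  | hp i x hx => exact fun A hA => eAdj_connected_conj hS hF hline hA i.2 hx
  | h1 => intro A _; rw [conjBy_one]
  | hmul x y _ _ ix iy =>
    intro A hA
    rw [← conjBy_conjBy]
    exact (iy A hA).trans (ix _ (hS.conj_mem A hA y))

theorem linePartners_generate (hconj : IsConjClassOfSubgroups S) {A B : Subgroup G} (hA : A ∈ S)
    (hB : B ∈ S) (hr : IsRankOnePair A B) :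
    (⨆ C ∈ linePartners S A, C) ⊔ B = ⊤ := by
  obtain ⟨H, hH⟩ : ∃ H, H = (⨆ C ∈ linePartners S A, C) ⊔ B := ⟨_, rfl⟩
  rw [← hH]
  have hLH : ∀ C ∈ linePartners S A, C ≤ H := fun C hC =>
    hH ▸ le_sup_of_le_left (le_iSup₂_of_le C hC le_rfl)
  have hBH : B ≤ H := hH ▸ le_sup_right
  have hcomm : ∀ {X Y : Subgroup G}, X ≤ H → Y ≤ H → ⁅X, Y⁆ ≤ H := fun hX hY =>
    (Subgroup.commutator_mono hX hY).trans (Subgroup.commutator_le_self H)
  have hmove : ∀ E ∈ linePartners S A, ∃ h ∈ H, conjBy A h = E := by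
    intro E hE
    have hEH := hLH E hE
    obtain ⟨E', hE', hne', hl, h1, h2, h3, -⟩ := exists_nonPartner hS hF hA hE hB hr
    have hE'L : E' ∈ linePartners S A :=
      h3 ▸ (linePartner_of_commutatorCase hS hF hA h1.1 h2).2
    have hC'H : ⁅E', B⁆ ≤ H := hcomm (hLH E' hE'L) hBH
    by_cases hEE : E = E'
    · subst hEE
      have hAE := linePartners_symm hA hE
      -- some member fixing `A` moves `E` along the line
      obtain ⟨W, hW, hEW, hEWA⟩ := exists_commutatorCase_line hS hF hE' hAE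
      have hWA : W ∈ linePartners S A := by
        have := (linePartner_of_commutatorCase hS hF hW hE' (rootCommutatorCase_symm hEW)).1
        rwa [Subgroup.commutator_comm, hEWA] at this
      obtain ⟨c, hc, hc1⟩ := exists_mem_ne_one (hS.ne_bot _ h1.1)
      have hZ : conjBy A c ≤ A ⊔ E := by
        have := conjBy_left_le h2 (b := c) hc
        rwa [h3] at this
      rcases line_members hS hF hE' hW hEW (hS.conj_mem A hA c)
          (by rw [hEWA, sup_comm]; exact hZ) with h | ⟨w, hw, h⟩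
      · exfalso
        rw [hEWA] at h
        refine hc1 (eq_one_of_centralizes hS (rootCommutatorCase_symm h2) hc fun a ha => ?_)
        have h5 : c * a * c⁻¹ * a⁻¹ ∈ A :=
          A.mul_mem (h ▸ conj_mem_conjBy c ha) (A.inv_mem ha)
        have h6 : c * a * c⁻¹ * a⁻¹ ∈ E := by
          rw [← h3, Subgroup.commutator_comm]
          exact Subgroup.commutator_mem_commutator hc ha
        exact mul_inv_eq_iff_eq_mul.1 (mul_inv_eq_one.1 (by_contra fun hne =>
          hne' (eq_of_mem_inter hS hF hE' hA h6 h5 hne)))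
      · exact ⟨w⁻¹ * c, H.mul_mem (H.inv_mem (hLH W hWA hw)) (hC'H hc), by
          rw [← conjBy_conjBy, h, conjBy_conjBy, inv_mul_cancel, conjBy_one]⟩
    · rcases line_members hS hF hA h1.1 h2 hE.1.1
          (by rw [h3, hl]; exact le_sup_right) with h | ⟨c, hc, h⟩
      · exact absurd (h.trans h3) hEE
      · exact ⟨c, hC'H hc, h.symm⟩
  have horbit : ∀ F, Relation.ReflTransGen (EAdj S S) A F → ∃ h ∈ H, conjBy A h = F := by
    intro F hF'
    induction hF' with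
    | refl => exact ⟨1, H.one_mem, conjBy_one A⟩
    | @tail X Y _ hXY ih =>
      obtain ⟨h, hh, rfl⟩ := ih
      have hY := linePartners_conj hS hXY.2.2 h⁻¹
      rw [conjBy_conjBy, inv_mul_cancel, conjBy_one] at hY
      obtain ⟨h', hh', e⟩ := hmove _ hY
      exact ⟨h * h', H.mul_mem hh hh', by
        rw [← conjBy_conjBy, e, conjBy_conjBy, mul_inv_cancel, conjBy_one]⟩
  have hAH : A ≤ H := by
    obtain ⟨C₀, hC₀⟩ := hline A hA
    obtain ⟨W, hW, hCW, hCWA⟩ :=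
      exists_commutatorCase_line hS hF hC₀.1.1 (linePartners_symm hA hC₀)
    have hWA : W ∈ linePartners S A := by
      have := (linePartner_of_commutatorCase hS hF hW hC₀.1.1 (rootCommutatorCase_symm hCW)).1
      rwa [Subgroup.commutator_comm, hCWA] at this
    exact hCWA ▸ hcomm (hLH _ hC₀) (hLH _ hWA)
  rw [eq_top_iff, ← hS.generates]
  refine iSup₂_le fun F hFS => ?_
  obtain ⟨h, hh, rfl⟩ := horbit F (eAdj_connected hS hF hline hconj A hA F hFS)
  exact conjBy_le_of_mem hAH hh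

end H98
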