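import Cfsg.Agent.H48.Count

/-!
The number of pairs of complementary totally isotropic subspaces of maximal dimension.
-/

set_option autoImplicit false
set_option linter.unusedSectionVars false

namespace H98.PolarPairs

open Matrix H48

variable {F : Type*} [Field F] {d : ℕ}

local notation "V" => (Fin d ⊕ Fin d → F)
local notation "Sp" => Matrix.symplecticGroup (Fin d) F

/-- Totally isotropic. -/
def TI (U : Submodule F (Fin d ⊕ Fin d → F)) : Prop := ∀ u ∈ U, ∀ v ∈ U, sf u v = 0

theorem finrank_le {U : Submodule F V} (hU : TI U) : Module.finrank F U ≤ d := by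
  let b := Module.finBasis F U
  have hli : LinearIndependent F (fun i => (b i : V)) :=
    b.linearIndependent.map' U.subtype (Submodule.ker_subtype U)
  have h1 := finrank_ker_pairing hli
  have h2 : U ≤ LinearMap.ker (pairing fun i => (b i : V)) := fun u hu =>
    LinearMap.mem_ker.2 (funext fun i => hU _ (b i).2 _ hu)
  have h3 := Submodule.finrank_mono h2
  rw [Fintype.card_fin] at h1
  omega

/-- Complementary totally isotropic subspaces. -/
def IsPair (P : Submodule F (Fin d ⊕ Fin d → F) × Submodule F (Fin d ⊕ Fin d → F)) : Prop :=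
  IsCompl P.1 P.2 ∧ TI P.1 ∧ TI P.2

theorem IsPair.finrank_eq {P : Submodule F V × Submodule F V} (h : IsPair P) :
    Module.finrank F P.1 = d ∧ Module.finrank F P.2 = d := by
  have h1 := finrank_le h.2.1
  have h2 := finrank_le h.2.2
  have h3 := Submodule.finrank_sup_add_finrank_inf_eq P.1 P.2
  rw [h.1.sup_eq_top, h.1.inf_eq_bot, finrank_top, finrank_bot, Module.finrank_fintype_fun_eq_card,
    Fintype.card_sum, Fintype.card_fin] at h3
  omega

theorem eq_zero_of_orth {P : Submodule F V × Submodule F V} (h : IsPair P) {x : V}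
    (h1 : ∀ u ∈ P.1, sf u x = 0) (h2 : ∀ u ∈ P.2, sf u x = 0) : x = 0 := by
  refine eq_zero_of_sf fun y => ?_
  have hy : y ∈ P.1 ⊔ P.2 := by rw [h.1.sup_eq_top]; trivial
  obtain ⟨a, ha, b, hb, rfl⟩ := Submodule.mem_sup.1 hy
  rw [map_add, sf_eq_zero_comm (h1 a ha), sf_eq_zero_comm (h2 b hb), add_zero]

/-- The standard vectors. -/
def ev (i : Fin d) : Fin d ⊕ Fin d → F := Pi.single (Sum.inl i) 1

/-- The standard vectors. -/
def fv (i : Fin d) : Fin d ⊕ Fin d → F := Pi.single (Sum.inr i) 1

theorem sf_ev (i : Fin d) (x : V) : sf (ev i) x = - x (Sum.inr i) := sf_lagr i x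

theorem sf_fv (i : Fin d) (x : V) : sf (fv i) x = x (Sum.inl i) := by
  rw [sf_apply, Finset.sum_eq_single i]
  · simp [fv]
  · intro j _ hj
    simp [fv, Pi.single_apply, hj]
  · simp

/-- The standard pair. -/
def spanE : Submodule F (Fin d ⊕ Fin d → F) := Submodule.span F (Set.range ev)

/-- The standard pair. -/
def spanF : Submodule F (Fin d ⊕ Fin d → F) := Submodule.span F (Set.range fv)

theorem ti_span (g : Fin d → V) (hg : ∀ i j, sf (g i) (g j) = 0) : TI (Submodule.span F (Set.range g)) := by
  intro u hu v hv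
  induction hu using Submodule.span_induction with
  | mem a ha =>
    obtain ⟨i, rfl⟩ := ha
    induction hv using Submodule.span_induction with
    | mem b hb => obtain ⟨j, rfl⟩ := hb; exact hg i j
    | zero => simp
    | add b c _ _ hb hc => simp [hb, hc]
    | smul r b _ hb => simp [hb]
  | zero => simp
  | add b c _ _ hb hc => simp [hb, hc]
  | smul r b _ hb => simp [hb]

theorem isPair_std : IsPair ((spanE, spanF) : Submodule F V × Submodule F V) := by
  refine ⟨⟨?_, ?_⟩, ti_span _ fun i j => ?_, ti_span _ fun i j => ?_⟩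
  · exact (Pi.linearIndependent_single_one (Fin d ⊕ Fin d) F).disjoint_span_image
      (s := Set.range Sum.inl) (t := Set.range Sum.inr)
      (Set.isCompl_range_inl_range_inr.disjoint) |>.mono
      (Submodule.span_mono (by rintro _ ⟨i, rfl⟩; exact ⟨_, ⟨i, rfl⟩, rfl⟩))
      (Submodule.span_mono (by rintro _ ⟨i, rfl⟩; exact ⟨_, ⟨i, rfl⟩, rfl⟩))
  · rw [codisjoint_iff, eq_top_iff]
    intro x _
    rw [pi_eq_sum_univ' x, Fintype.sum_sum_type]
    exact Submodule.add_mem_sup (Submodule.sum_mem _ fun i _ => Submodule.smul_mem _ _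
      (Submodule.subset_span ⟨i, rfl⟩)) (Submodule.sum_mem _ fun i _ => Submodule.smul_mem _ _
      (Submodule.subset_span ⟨i, rfl⟩))
  · rw [sf_ev]; simp [ev]
  · rw [sf_fv]; simp [fv]

/-- The linear map of an element. -/
def act (g : Sp) : V →ₗ[F] V := (DistribMulAction.toLinearEquiv F V g).toLinearMap

theorem act_apply (g : Sp) (v : V) : act g v = g • v := rfl

theorem act_inj (g : Sp) : Function.Injective (act g) := (DistribMulAction.toLinearEquiv F V g).injective

theorem act_surj (g : Sp) : Function.Surjective (act g) := (DistribMulAction.toLinearEquiv F V g).surjective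

theorem isPair_map (g : Sp) :
    IsPair ((spanE.map (act g), spanF.map (act g)) : Submodule F V × Submodule F V) := by
  obtain ⟨h1, h2, h3⟩ := isPair_std (F := F) (d := d)
  refine ⟨⟨?_, ?_⟩, ?_, ?_⟩
  · rw [disjoint_iff, ← Submodule.map_inf _ (act_inj g), h1.inf_eq_bot, Submodule.map_bot]
  · rw [codisjoint_iff, ← Submodule.map_sup, h1.sup_eq_top, Submodule.map_top,
      LinearMap.range_eq_top.2 (act_surj g)]
  · rintro _ ⟨u, hu, rfl⟩ _ ⟨v, hv, rfl⟩
    rw [act_apply, act_apply, sf_smul_smul, h2 u hu v hv]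
  · rintro _ ⟨u, hu, rfl⟩ _ ⟨v, hv, rfl⟩
    rw [act_apply, act_apply, sf_smul_smul, h3 u hu v hv]

/-- The pair of an element. -/
def pairOf (g : Matrix.symplecticGroup (Fin d) F) :
    {P : Submodule F (Fin d ⊕ Fin d → F) × Submodule F (Fin d ⊕ Fin d → F) // IsPair P} :=
  ⟨(spanE.map (act g), spanF.map (act g)), isPair_map g⟩

theorem ev_mem (g : Sp) (i : Fin d) : g • (ev i : V) ∈ spanE.map (act g) :=
  ⟨ev i, Submodule.subset_span ⟨i, rfl⟩, rfl⟩

theorem fv_mem (g : Sp) (i : Fin d) : g • (fv i : V) ∈ spanF.map (act g) :=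
  ⟨fv i, Submodule.subset_span ⟨i, rfl⟩, rfl⟩

variable [Fintype F]

theorem card_fibre (P : {P : Submodule F V × Submodule F V // IsPair P}) :
    Nat.card {g : Sp // pairOf g = P} = ∏ i : Fin d, (Fintype.card F ^ d - Fintype.card F ^ (i : ℕ)) := by
  classical
  obtain ⟨⟨U, W⟩, hP⟩ := P
  have hUd : Module.finrank F U = d := hP.finrank_eq.1
  have hWd : Module.finrank F W = d := hP.finrank_eq.2
  have hc := @card_linearIndependent F U _ _ _ _ _ d hUd.ge
  rw [hUd] at hc
  rw [← hc]
  have hmap : ∀ g : {g : Sp // pairOf g = ⟨(U, W), hP⟩},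
      spanE.map (act g.1) = U ∧ spanF.map (act g.1) = W := fun g =>
    ⟨congrArg (fun z => z.1.1) g.2, congrArg (fun z => z.1.2) g.2⟩
  refine Nat.card_congr (Equiv.ofBijective (fun g => ⟨fun i => ⟨g.1 • ev i,
    (hmap g).1.le (ev_mem g.1 i)⟩, ?_⟩) ⟨?_, ?_⟩)
  · refine LinearIndependent.of_comp U.subtype ?_
    exact ((Pi.linearIndependent_single_one (Fin d ⊕ Fin d) F).comp _ Sum.inl_injective).map'
      (act g.1) (LinearMap.ker_eq_bot.2 (act_inj g.1))
  · intro g h hgh
    have hev : ∀ i, g.1 • (ev i : V) = h.1 • (ev i : V) := fun i =>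
      congrArg Subtype.val (congrFun (congrArg Subtype.val hgh) i)
    have hfv : ∀ i, g.1 • (fv i : V) = h.1 • (fv i : V) := by
      intro i
      have hg : g.1 • (fv i : V) ∈ W :=
        (hmap g).2.le (fv_mem g.1 i)
      have hh : h.1 • (fv i : V) ∈ W :=
        (hmap h).2.le (fv_mem h.1 i)
      refine sub_eq_zero.1 (eq_zero_of_orth hP (fun u hu => ?_) fun u hu => hP.2.2 u hu _ (W.sub_mem hg hh))
      replace hu : u ∈ spanE.map (act g.1) := (hmap g).1.symm ▸ hu
      obtain ⟨e, he, rfl⟩ := hu
      induction he using Submodule.span_induction with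
      | mem a ha =>
        obtain ⟨j, rfl⟩ := ha
        rw [map_sub, act_apply, sf_smul_smul, hev, sf_smul_smul, sub_self]
      | zero => simp
      | add b c _ _ hb hc => rw [map_add, map_add, LinearMap.add_apply, hb, hc, add_zero]
      | smul r b _ hb => rw [map_smul, map_smul, LinearMap.smul_apply, hb, smul_zero]
    refine Subtype.ext (Subtype.ext (Matrix.ext_of_mulVec_single fun s => ?_))
    rcases s with i | i
    · exact hev i
    · exact hfv i
  · rintro ⟨u, hu⟩
    have hub : ∀ i, (u i : V) ∈ U := fun i => (u i).2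
    have huli : LinearIndependent F (fun i => (u i : V)) := hu.map' U.subtype (Submodule.ker_subtype U)
    have hspan : Submodule.span F (Set.range fun i => (u i : V)) = U :=
      Submodule.eq_of_le_of_finrank_le (Submodule.span_le.2 (by rintro _ ⟨i, rfl⟩; exact hub i))
        (by rw [finrank_span_eq_card huli, Fintype.card_fin, hUd])
    let φ : W →ₗ[F] (Fin d → F) := (pairing fun i => (u i : V)).comp W.subtype
    have hφi : Function.Injective φ := by
      rw [← LinearMap.ker_eq_bot, LinearMap.ker_eq_bot']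
      intro x hx
      refine Subtype.ext (eq_zero_of_orth hP (fun y hy => ?_) fun y hy => hP.2.2 y hy _ x.2)
      replace hy : y ∈ Submodule.span F (Set.range fun i => (u i : V)) := hspan.symm ▸ hy
      induction hy using Submodule.span_induction with
      | mem a ha => obtain ⟨j, rfl⟩ := ha; exact congrFun hx j
      | zero => simp
      | add b c _ _ hb hc => simp [hb, hc]
      | smul r b _ hb => simp [hb]
    have hφs : Function.Surjective φ :=
      (LinearMap.injective_iff_surjective_of_finrank_eq_finrank (by simp [hWd])).1 hφi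
    choose w hw using fun i : Fin d => hφs (fun j => if j = i then -1 else 0)
    have hw' : ∀ i j, sf (u j : V) (w i : V) = if j = i then -1 else 0 := fun i j => congrFun (hw i) j
    let z : Fin d ⊕ Fin d → V := Sum.elim (fun i => (u i : V)) fun i => (w i : V)
    let e0 : Fin d ⊕ Fin d → V := fun s => Pi.single s 1
    have hgram : ∀ s t, sf (e0 s) (e0 t) = sf (z s) (z t) := by
      rintro (i | i) (j | j)
      · show sf (ev i) (ev j) = _
        rw [sf_ev, show sf (z (Sum.inl i)) (z (Sum.inl j)) = 0 from hP.2.1 _ (hub i) _ (hub j)]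
        simp [ev]
      · show sf (ev i) (fv j) = _
        rw [sf_ev]
        show _ = sf (u i : V) (w j : V)
        rw [hw']
        rcases eq_or_ne i j with rfl | hij
        · simp [fv]
        · simp [fv, Pi.single_apply, hij]
      · show sf (fv i) (ev j) = _
        rw [sf_fv]
        show _ = sf (w i : V) (u j : V)
        rw [sf_swap (u j : V), hw']
        rcases eq_or_ne i j with rfl | hij
        · simp [ev]
        · simp [ev, Pi.single_apply, hij, hij.symm]
      · show sf (fv i) (fv j) = _
        rw [sf_fv, show sf (z (Sum.inr i)) (z (Sum.inr j)) = 0 from hP.2.2 _ (w i).2 _ (w j).2]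
        simp [fv]
    have hzli : LinearIndependent F z := by
      rw [Fintype.linearIndependent_iff]
      intro c hc
      have h0 : ∑ s, c s • e0 s = 0 := eq_zero_of_sf fun v => by
        have he : v = ∑ t, v t • e0 t := pi_eq_sum_univ' v
        rw [he, map_sum]
        refine Finset.sum_eq_zero fun t _ => ?_
        have h1 : sf (∑ s, c s • e0 s) (e0 t) = sf (∑ s, c s • z s) (z t) := by
          simp only [map_sum, map_smul, LinearMap.sum_apply, LinearMap.smul_apply, hgram]
        rw [map_smul, sf_swap, ← sf_swap, h1, hc]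
        simp
      intro s
      have h2 := congrFun h0 s
      simpa [e0, Finset.sum_apply, Pi.single_apply] using h2
    obtain ⟨g, -, hg⟩ := witt e0 z (Pi.linearIndependent_single_one _ _) hzli hgram
    have hgU : spanE.map (act g) = U := by
      rw [spanE, Submodule.map_span, ← hspan, ← Set.range_comp]
      exact congrArg _ (congrArg Set.range (funext fun i => hg (Sum.inl i)))
    have hgW : spanF.map (act g) = W := by
      refine Submodule.eq_of_le_of_finrank_le ?_ ?_
      · rw [spanF, Submodule.map_span, Submodule.span_le]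
        rintro _ ⟨_, ⟨i, rfl⟩, rfl⟩
        show g • (e0 (Sum.inr i)) ∈ W
        rw [hg]
        exact (w i).2
      · have := (isPair_map g).finrank_eq.2
        simp only at this
        omega
    refine ⟨⟨g, Subtype.ext (Prod.ext hgU hgW)⟩, ?_⟩
    exact Subtype.ext (funext fun i => Subtype.ext (hg (Sum.inl i)))

/-- The order of the symplectic group through the pairs. -/
theorem card_sp_eq :
    Nat.card Sp = Nat.card {P : Submodule F V × Submodule F V // IsPair P} *
      ∏ i : Fin d, (Fintype.card F ^ d - Fintype.card F ^ (i : ℕ)) := by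
  classical
  haveI : Fintype {P : Submodule F V × Submodule F V // IsPair P} := Fintype.ofFinite _
  rw [← Nat.card_congr (Equiv.sigmaFiberEquiv (pairOf (F := F) (d := d))), Nat.card_sigma,
    Finset.sum_congr rfl (fun P _ => card_fibre P), Finset.sum_const, smul_eq_mul, Finset.card_univ,
    Nat.card_eq_fintype_card]

/-- A prime not dividing `q` which divides the number of pairs divides some `q ^ i + 1`. -/
theorem exists_dvd_pow_succ_add_one (hd : 0 < d) (hodd : Odd (Fintype.card F)) {r : ℕ} (hr : r.Prime)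
    (hrq : ¬ r ∣ Fintype.card F)
    (h : r ∣ Nat.card {P : Submodule F V × Submodule F V // IsPair P} / 2) :
    ∃ i < d, r ∣ Fintype.card F ^ (i + 1) + 1 := by
  classical
  have h0 := card_sp_eq (F := F) (d := d)
  rw [card_sp, Fintype.card_fin] at h0
  set q := Fintype.card F
  set N := Nat.card {P : Submodule F V × Submodule F V // IsPair P}
  have hq : 1 < q := Fintype.one_lt_card
  obtain ⟨A, hA⟩ : ∃ A, A = ∏ i ∈ Finset.range d, (q ^ (i + 1) - 1) := ⟨_, rfl⟩
  obtain ⟨B, hB⟩ : ∃ B, B = ∏ i ∈ Finset.range d, (q ^ (i + 1) + 1) := ⟨_, rfl⟩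
  obtain ⟨s, hs⟩ : ∃ s, s = ∑ i ∈ Finset.range d, i := ⟨_, rfl⟩
  have e1 : ∏ i ∈ Finset.range d, (q ^ (2 * (i + 1)) - 1) = A * B := by
    rw [hA, hB, ← Finset.prod_mul_distrib]
    refine Finset.prod_congr rfl fun i _ => ?_
    rw [mul_comm 2, pow_mul, mul_comm (_ - 1), ← Nat.sq_sub_sq, one_pow]
  have e2 : ∏ i : Fin d, (q ^ d - q ^ (i : ℕ)) = q ^ s * A := by
    rw [Fin.prod_univ_eq_prod_range (fun i => q ^ d - q ^ i) d, hA, hs, ← Finset.prod_pow_eq_pow_sum,
      ← Finset.prod_range_reflect (fun i => q ^ (i + 1) - 1) d, ← Finset.prod_mul_distrib]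
    refine Finset.prod_congr rfl fun i hi => ?_
    rw [Finset.mem_range] at hi
    rw [Nat.mul_sub, mul_one, ← pow_add]
    congr 2
    omega
  rw [e1, e2] at h0
  have hApos : 0 < A := hA ▸ Finset.prod_pos fun i _ => Nat.sub_pos_of_lt (Nat.one_lt_pow (by omega) hq)
  have h1 : q ^ (d ^ 2) * B = N * q ^ s := by
    refine Nat.eq_of_mul_eq_mul_right hApos ?_
    rw [mul_assoc, mul_comm B A, h0, mul_assoc]
  have hrN : r ∣ N := by
    have h2 : 2 ∣ N := by
      have hB2 : 2 ∣ B := by
        refine hB ▸ dvd_trans ?_ (Finset.dvd_prod_of_mem _ (Finset.mem_range.2 hd))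
        exact even_iff_two_dvd.1 ((hodd.pow).add_odd odd_one)
      have h3 : 2 ∣ N * q ^ s := h1 ▸ dvd_mul_of_dvd_right hB2 _
      exact (Nat.Coprime.pow_right s (Nat.coprime_two_left.2 hodd)).dvd_of_dvd_mul_right h3
    rw [← Nat.div_mul_cancel h2]
    exact dvd_mul_of_dvd_left h _
  have hrB : r ∣ B := by
    have h2 : r ∣ q ^ (d ^ 2) * B := h1 ▸ dvd_mul_of_dvd_left hrN _
    exact (hr.dvd_mul.1 h2).resolve_left fun e => hrq (hr.dvd_of_dvd_pow e)
  rw [hB] at hrB
  obtain ⟨i, hi, hdvd⟩ := hr.prime.exists_mem_finset_dvd hrB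
  exact ⟨i, Finset.mem_range.1 hi, hdvd⟩

end H98.PolarPairs
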