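import Mathlib

/-!
Symplectic bases adapted to an isometry with scalar square.
-/

set_option autoImplicit false
set_option linter.unusedSectionVars false
set_option linter.style.haveILetI false

namespace H98.SympFrame

variable {F V : Type*} [Field F] [AddCommGroup V] [Module F V] [FiniteDimensional F V]
variable (f : LinearMap.BilinForm F V) (T : V →ₗ[F] V)

/-- An invariant non-degenerate subspace on which the twisted form vanishes. -/
def Weak : Prop :=
  ∃ W : Submodule F V, W ≠ ⊥ ∧ (∀ u ∈ W, T u ∈ W) ∧ (∀ u ∈ W, u ≠ 0 → ∃ y ∈ W, f u y ≠ 0) ∧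
    ∀ u ∈ W, f u (T u) = 0

/-- A symplectic family adapted to the map. -/
structure IsAdapted {κ : Type} [Fintype κ] (v w : κ → V) (π : κ → κ) : Prop where
  fvv : ∀ i j, f (v i) (v j) = 0
  fww : ∀ i j, f (w i) (w j) = 0
  fvw : ∀ i, f (v i) (w i) = 1
  fvw_ne : ∀ i j, i ≠ j → f (v i) (w j) = 0
  invol : ∀ i, π (π i) = i
  kind : ∀ i, (∃ c d : F, T (v i) = c • v (π i) ∧ T (w i) = d • w (π i) ∧ Weak f T) ∨
    (π i = i ∧ f (v i) (T (v i)) ≠ 0 ∧ ∃ c d : F, T (v i) = c • w i ∧ T (w i) = d • v i)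

variable {f T} (hA : ∀ u : V, f u u = 0)
  (hT : ∀ u v : V, f (T u) (T v) = f u v) {z : F} (hz : z ≠ 0) (hTT : ∀ v : V, T (T v) = z • v)

include hA in
theorem swap (u v : V) : f v u = -f u v := by
  have h := hA (u + v)
  simp only [map_add, LinearMap.add_apply, hA, zero_add, add_zero] at h
  linear_combination h

section Step

variable {κ : Type} [Fintype κ] {v w : κ → V} {π : κ → κ}

include hA in
theorem IsAdapted.fwv (h : IsAdapted f T v w π) (i : κ) : f (w i) (v i) = -1 := by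
  rw [swap hA (v i) (w i), h.fvw]

include hA in
theorem IsAdapted.fwv_ne (h : IsAdapted f T v w π) (i j : κ) (hij : i ≠ j) : f (w i) (v j) = 0 := by
  rw [swap hA (v j) (w i), h.fvw_ne j i (Ne.symm hij), neg_zero]

include hA hT hz hTT in
/-- The complement of an adapted family inside an invariant non-degenerate subspace. -/
theorem complement (h : IsAdapted f T v w π) (W : Submodule F V) (hv : ∀ i, v i ∈ W) (hw : ∀ i, w i ∈ W)
    (hTW : ∀ u ∈ W, T u ∈ W) (hnd : ∀ u ∈ W, u ≠ 0 → ∃ y ∈ W, f u y ≠ 0) :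
    ∃ W' : Submodule F V, W' ≤ W ∧ (∀ u ∈ W', T u ∈ W') ∧ (∀ u ∈ W', u ≠ 0 → ∃ y ∈ W', f u y ≠ 0) ∧
      Module.finrank F W' + 2 * Fintype.card κ = Module.finrank F W ∧
      ∀ u ∈ W', ∀ i, f (v i) u = 0 ∧ f (w i) u = 0 := by
  classical
  let L : W →ₗ[F] (κ → F × F) :=
    { toFun := fun u i => (f (v i) (u : V), f (w i) (u : V))
      map_add' := fun a b => by funext i; simp
      map_smul' := fun c a => by funext i; simp }
  refine ⟨(LinearMap.ker L).map W.subtype, Submodule.map_subtype_le _ _, ?_⟩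
  have hmem : ∀ u, u ∈ (LinearMap.ker L).map W.subtype ↔ u ∈ W ∧ ∀ i, f (v i) u = 0 ∧ f (w i) u = 0 := by
    intro u
    constructor
    · rintro ⟨⟨u, hu⟩, hk, rfl⟩
      exact ⟨hu, fun i => ⟨congrArg Prod.fst (congrFun (LinearMap.mem_ker.1 hk) i),
        congrArg Prod.snd (congrFun (LinearMap.mem_ker.1 hk) i)⟩⟩
    · rintro ⟨hu, hk⟩
      exact ⟨⟨u, hu⟩, LinearMap.mem_ker.2 (funext fun i => Prod.ext (hk i).1 (hk i).2), rfl⟩
  -- the projection onto the block
  let p : V → V := fun y => ∑ i, (f (v i) y • w i - f (w i) y • v i)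
  have hp : ∀ y ∈ W, y - p y ∈ (LinearMap.ker L).map W.subtype := by
    intro y hy
    refine (hmem _).2 ⟨W.sub_mem hy (W.sum_mem fun i _ => W.sub_mem (W.smul_mem _ (hw i)) (W.smul_mem _ (hv i))),
      fun i => ⟨?_, ?_⟩⟩
    · rw [map_sub, map_sum, Finset.sum_eq_single i (fun j _ hj => ?_) (by simp)]
      · simp [h.fvw, h.fvv]
      · simp [h.fvw_ne i j (Ne.symm hj), h.fvv]
    · rw [map_sub, map_sum, Finset.sum_eq_single i (fun j _ hj => ?_) (by simp)]
      · simp [h.fwv hA, h.fww]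
      · simp [h.fwv_ne hA i j (Ne.symm hj), h.fww]
  refine ⟨fun u hu => ?_, fun u hu hu0 => ?_, ?_, fun u hu => ((hmem u).1 hu).2⟩
  · obtain ⟨huW, huk⟩ := (hmem u).1 hu
    have key : ∀ y, f (T y) u = 0 → f y (T u) = 0 := by
      intro y hy
      have h1 := hT (T y) u
      rw [hTT, map_smul, LinearMap.smul_apply, hy, smul_eq_mul, mul_eq_zero] at h1
      exact h1.resolve_left hz
    refine (hmem _).2 ⟨hTW u huW, fun i => ⟨key _ ?_, key _ ?_⟩⟩
    · rcases h.kind i with ⟨c, d, e1, -, -⟩ | ⟨-, -, c, d, e1, -⟩ <;> rw [e1, map_smul, LinearMap.smul_apply]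
      · rw [(huk _).1, smul_zero]
      · rw [(huk _).2, smul_zero]
    · rcases h.kind i with ⟨c, d, -, e2, -⟩ | ⟨-, -, c, d, -, e2⟩ <;> rw [e2, map_smul, LinearMap.smul_apply]
      · rw [(huk _).2, smul_zero]
      · rw [(huk _).1, smul_zero]
  · obtain ⟨huW, huk⟩ := (hmem u).1 hu
    obtain ⟨y, hy, huy⟩ := hnd u huW hu0
    refine ⟨y - p y, hp y hy, ?_⟩
    rw [map_sub, map_sum, Finset.sum_eq_zero (fun i _ => ?_), sub_zero]
    · exact huy
    · simp [swap hA (w i) u, swap hA (v i) u, (huk i).1, (huk i).2]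
  · have hsurj : LinearMap.range L = ⊤ := by
      rw [LinearMap.range_eq_top]
      intro s
      refine ⟨⟨∑ i, ((s i).1 • w i - (s i).2 • v i),
        W.sum_mem fun i _ => W.sub_mem (W.smul_mem _ (hw i)) (W.smul_mem _ (hv i))⟩, funext fun i => Prod.ext ?_ ?_⟩
      · show f (v i) (∑ j, ((s j).1 • w j - (s j).2 • v j)) = (s i).1
        rw [map_sum, Finset.sum_eq_single i (fun j _ hj => by simp [h.fvw_ne i j (Ne.symm hj), h.fvv]) (by simp)]
        simp [h.fvw, h.fvv]
      · show f (w i) (∑ j, ((s j).1 • w j - (s j).2 • v j)) = (s i).2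
        rw [map_sum, Finset.sum_eq_single i (fun j _ hj => by simp [h.fwv_ne hA i j (Ne.symm hj), h.fww]) (by simp)]
        simp [h.fwv hA, h.fww]
    have h1 := L.finrank_range_add_finrank_ker
    rw [hsurj, finrank_top, Module.finrank_pi_fintype, Finset.sum_const, Finset.card_univ, smul_eq_mul,
      Module.finrank_prod, Module.finrank_self] at h1
    rw [Submodule.finrank_map_subtype_eq]
    omega

end Step

include hA hT hz hTT in
/-- An invariant non-degenerate subspace has an adapted symplectic basis. -/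
theorem exists_adapted (W : Submodule F V) (hTW : ∀ u ∈ W, T u ∈ W)
    (hnd : ∀ u ∈ W, u ≠ 0 → ∃ y ∈ W, f u y ≠ 0) :
    ∃ (κ : Type) (_ : Fintype κ) (v w : κ → V) (π : κ → κ), IsAdapted f T v w π ∧
      (∀ i, v i ∈ W) ∧ (∀ i, w i ∈ W) ∧ Module.finrank F W = 2 * Fintype.card κ := by
  classical
  induction hn : Module.finrank F W using Nat.strong_induction_on generalizing W with
  | _ n ih =>
  by_cases hW : W = ⊥
  · refine ⟨Fin 0, inferInstance, Fin.elim0, Fin.elim0, id, ⟨fun i => i.elim0, fun i => i.elim0, fun i => i.elim0,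
      fun i => i.elim0, fun i => i.elim0, fun i => i.elim0⟩, fun i => i.elim0, fun i => i.elim0, ?_⟩
    rw [← hn, hW, finrank_bot]
    simp
  obtain ⟨κ₀, hfin, v₀, w₀, π₀, h₀, hv₀, hw₀, hpos⟩ : ∃ (κ : Type) (_ : Fintype κ) (v w : κ → V) (π : κ → κ),
      IsAdapted f T v w π ∧ (∀ i, v i ∈ W) ∧ (∀ i, w i ∈ W) ∧ 0 < Fintype.card κ := by
    by_cases hstrong : ∃ u ∈ W, f u (T u) ≠ 0
    · obtain ⟨u, hu, hc⟩ := hstrong
      set c := f u (T u)
      refine ⟨Unit, inferInstance, fun _ => u, fun _ => c⁻¹ • T u, id,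
        ⟨fun _ _ => hA u, fun _ _ => hA _, fun _ => by simp [c, inv_mul_cancel₀ hc],
          fun i j hij => absurd (Subsingleton.elim i j) hij, fun _ => rfl, fun _ => Or.inr ⟨rfl, hc, c, c⁻¹ * z, ?_, ?_⟩⟩,
        fun _ => hu, fun _ => W.smul_mem _ (hTW u hu), by simp⟩
      · rw [smul_smul, mul_inv_cancel₀ hc, one_smul]
      · rw [map_smul, hTT, smul_smul]
    push Not at hstrong
    have hweak : Weak f T := ⟨W, hW, hTW, hnd, hstrong⟩
    by_cases hscal : ∀ u ∈ W, ∃ c : F, T u = c • u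
    · obtain ⟨u, hu, hu0⟩ := W.exists_mem_ne_zero_of_ne_bot hW
      obtain ⟨y, hy, huy⟩ := hnd u hu hu0
      obtain ⟨c, hc⟩ := hscal u hu
      obtain ⟨d, hd⟩ := hscal ((f u y)⁻¹ • y) (W.smul_mem _ hy)
      exact ⟨Unit, inferInstance, fun _ => u, fun _ => (f u y)⁻¹ • y, id,
        ⟨fun _ _ => hA u, fun _ _ => hA _, fun _ => by simp [inv_mul_cancel₀ huy],
          fun i j hij => absurd (Subsingleton.elim i j) hij, fun _ => rfl, fun _ => Or.inl ⟨c, d, hc, hd, hweak⟩⟩,
        fun _ => hu, fun _ => W.smul_mem _ hy, by simp⟩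
    push Not at hscal
    obtain ⟨u, hu, hns⟩ := hscal
    have hu0 : u ≠ 0 := fun e => hns 0 (by simp [e])
    -- a vector paired with u and orthogonal to its image
    obtain ⟨y, hy, hTy, huy⟩ : ∃ y ∈ W, f (T u) y = 0 ∧ f u y ≠ 0 := by
      by_contra hcon
      push Not at hcon
      have hTu0 : T u ≠ 0 := fun e => hns 0 (by rw [e, zero_smul])
      obtain ⟨y₀, hy₀, hne⟩ := hnd (T u) (hTW u hu) hTu0
      set α := f u y₀ / f (T u) y₀
      apply hns α⁻¹
      have hmem : u - α • T u ∈ W := W.sub_mem hu (W.smul_mem _ (hTW u hu))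
      have h0 : u - α • T u = 0 := by
        by_contra hne0
        obtain ⟨y, hy, hyne⟩ := hnd _ hmem hne0
        apply hyne
        have h1 := hcon (y - (f (T u) y / f (T u) y₀) • y₀) (W.sub_mem hy (W.smul_mem _ hy₀))
          (by simp [div_mul_cancel₀ _ hne])
        simp only [map_sub, map_smul, LinearMap.sub_apply, LinearMap.smul_apply, smul_eq_mul] at h1 ⊢
        rw [← h1, show f (T u) y / f (T u) y₀ * f u y₀ = α * f (T u) y by simp only [α]; ring]
      rw [sub_eq_zero] at h0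
      have hα : α ≠ 0 := fun e => hu0 (by rw [h0, e, zero_smul])
      conv_rhs => rw [h0]
      rw [smul_smul, inv_mul_cancel₀ hα, one_smul]
    set w := (f u y)⁻¹ • y with hwdef
    have hwW : w ∈ W := W.smul_mem _ hy
    have e1 : f u w = 1 := by simp [w, inv_mul_cancel₀ huy]
    have e2 : f (T u) w = 0 := by simp [w, hTy]
    have e3 : f u (T w) = 0 := by
      have h1 := hT (T u) w
      rw [hTT, map_smul, LinearMap.smul_apply, e2, smul_eq_mul, mul_eq_zero] at h1
      exact h1.resolve_left hz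
    have e4 : f (T u) u = 0 := by rw [swap hA u, hstrong u hu, neg_zero]
    have e5 : f (T w) w = 0 := by rw [swap hA w, hstrong w hwW, neg_zero]
    refine ⟨Fin 2, inferInstance, ![u, T u], ![w, T w], ![1, 0], ⟨?_, ?_, ?_, ?_, ?_, ?_⟩, ?_, ?_, by simp⟩
    · intro i j
      fin_cases i <;> fin_cases j <;> simp [hA, hstrong u hu, e4]
    · intro i j
      fin_cases i <;> fin_cases j <;> simp [hA, hstrong w hwW, e5]
    · intro i
      fin_cases i <;> simp [e1, hT]
    · intro i j hij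
      fin_cases i <;> fin_cases j <;> first | exact absurd rfl hij | simp [e2, e3]
    · intro i
      fin_cases i <;> rfl
    · intro i
      fin_cases i
      · exact Or.inl ⟨1, 1, by simp, by simp, hweak⟩
      · exact Or.inl ⟨z, z, by simp [hTT], by simp [hTT], hweak⟩
    · intro i; fin_cases i
      · exact hu
      · exact hTW u hu
    · intro i; fin_cases i
      · exact hwW
      · exact hTW w hwW
  obtain ⟨W', hle, hTW', hnd', hdim, horth⟩ := complement hA hT hz hTT h₀ W hv₀ hw₀ hTW hnd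
  obtain ⟨κ₁, hfin1, v₁, w₁, π₁, h₁, hv₁, hw₁, hd₁⟩ := ih _ (by omega) W' hTW' hnd' rfl
  refine ⟨κ₀ ⊕ κ₁, inferInstance, Sum.elim v₀ v₁, Sum.elim w₀ w₁, Sum.map π₀ π₁, ⟨?_, ?_, ?_, ?_, ?_, ?_⟩, ?_, ?_, ?_⟩
  · rintro (i | i) (j | j)
    · exact h₀.fvv i j
    · exact (horth _ (hv₁ j) i).1
    · show f (v₁ i) (v₀ j) = 0
      rw [swap hA (v₀ j), (horth _ (hv₁ i) j).1, neg_zero]
    · exact h₁.fvv i j
  · rintro (i | i) (j | j)
    · exact h₀.fww i j
    · exact (horth _ (hw₁ j) i).2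
    · show f (w₁ i) (w₀ j) = 0
      rw [swap hA (w₀ j), (horth _ (hw₁ i) j).2, neg_zero]
    · exact h₁.fww i j
  · rintro (i | i)
    · exact h₀.fvw i
    · exact h₁.fvw i
  · rintro (i | i) (j | j) hij
    · exact h₀.fvw_ne i j fun e => hij (by rw [e])
    · exact (horth _ (hw₁ j) i).1
    · show f (v₁ i) (w₀ j) = 0
      rw [swap hA (w₀ j), (horth _ (hv₁ i) j).2, neg_zero]
    · exact h₁.fvw_ne i j fun e => hij (by rw [e])
  · rintro (i | i) <;> simp [h₀.invol, h₁.invol]
  · rintro (i | i)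
    · rcases h₀.kind i with h | ⟨e, h⟩
      · exact Or.inl h
      · exact Or.inr ⟨by simp [e], h⟩
    · rcases h₁.kind i with h | ⟨e, h⟩
      · exact Or.inl h
      · exact Or.inr ⟨by simp [e], h⟩
  · rintro (i | i)
    · exact hv₀ i
    · exact hle (hv₁ i)
  · rintro (i | i)
    · exact hw₀ i
    · exact hle (hw₁ i)
  · rw [Fintype.card_sum]
    omega

include hA hT hz hTT in
/-- The whole space. -/
theorem exists_adapted_top (hnd : ∀ u : V, u ≠ 0 → ∃ y, f u y ≠ 0) :
    ∃ (κ : Type) (_ : Fintype κ) (v w : κ → V) (π : κ → κ), IsAdapted f T v w π ∧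
      Module.finrank F V = 2 * Fintype.card κ ∧ Submodule.span F (Set.range (Sum.elim v w)) = ⊤ := by
  classical
  obtain ⟨κ, hfin, v, w, π, h, -, -, hd⟩ := exists_adapted hA hT hz hTT ⊤ (fun u _ => Submodule.mem_top)
    (fun u _ hu => let ⟨y, hy⟩ := hnd u hu; ⟨y, Submodule.mem_top, hy⟩)
  rw [finrank_top] at hd
  refine ⟨κ, hfin, v, w, π, h, hd, ?_⟩
  have hli : LinearIndependent F (Sum.elim v w) := by
    rw [Fintype.linearIndependent_iff]
    intro c hc
    have hev : ∀ y, f y (∑ a, c a • Sum.elim v w a) = 0 := fun y => by rw [hc, map_zero]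
    rintro (i | i)
    · have h1 := hev (w i)
      rw [map_sum, Finset.sum_eq_single (Sum.inl i) (fun a _ ha => ?_) (by simp)] at h1
      · simpa [h.fwv hA] using h1
      · rcases a with j | j
        · simp [h.fwv_ne hA i j fun e => ha (by rw [e])]
        · simp [h.fww]
    · have h1 := hev (v i)
      rw [map_sum, Finset.sum_eq_single (Sum.inr i) (fun a _ ha => ?_) (by simp)] at h1
      · simpa [h.fvw] using h1
      · rcases a with j | j
        · simp [h.fvv]
        · simp [h.fvw_ne i j fun e => ha (by rw [e])]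
  exact hli.span_eq_top_of_card_eq_finrank' (by rw [Fintype.card_sum, hd, two_mul])

end H98.SympFrame
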