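import Cfsg.Agent.H98.PolarPairs
import Cfsg.Agent.H98.SympFrame

/-!
An element of odd prime order acting irreducibly on a non-degenerate subspace fixes no pair of
complementary totally isotropic subspaces.
-/

set_option autoImplicit false
set_option linter.unusedSectionVars false

namespace H98.PolarPairs

open Matrix H48

variable {F : Type*} [Field F] {d : ℕ}

local notation "V" => (Fin d ⊕ Fin d → F)
local notation "Sp" => Matrix.symplecticGroup (Fin d) F

/-- A field of even degree with a multiplier of order `r` and an invariant alternating form. -/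
theorem exists_field_form [Fintype F] {p : ℕ} [Fact p.Prime] [CharP F p] (h2 : (2 : F) ≠ 0)
    {k : ℕ} [NeZero k] {r : ℕ} [hr : Fact r.Prime] (hr2 : r ≠ 2)
    (hord : orderOf (Fintype.card F : ZMod r) = 2 * k) (hdvd : r ∣ Fintype.card F ^ k + 1) :
    ∃ (L : Type) (_ : Field L) (_ : Algebra F L) (_ : FiniteDimensional F L) (lam : L)
      (B : LinearMap.BilinForm F L),
      Module.finrank F L = 2 * k ∧ lam ^ r = 1 ∧ (∀ a, B a a = 0) ∧
      (∀ a b, B (lam * a) (lam * b) = B a b) ∧ (∀ a, a ≠ 0 → ∃ b, B a b ≠ 0) ∧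
      ∀ N : Submodule F L, (∀ a ∈ N, lam * a ∈ N) → N = ⊥ ∨ N = ⊤ := by
  classical
  haveI : NeZero (2 * k) := ⟨mul_ne_zero two_ne_zero (NeZero.ne k)⟩
  let L := FiniteField.Extension F p (2 * k)
  set q := Fintype.card F with hqdef
  have hL : Module.finrank F L = 2 * k := FiniteField.finrank_extension F p (2 * k)
  haveI : Fintype L := Fintype.ofFinite L
  have hcard : Fintype.card L = q ^ (2 * k) := by rw [Module.card_eq_pow_finrank (K := F), hL]
  have hq0 : 0 < q := Fintype.card_pos
  have hrdvd : r ∣ Fintype.card Lˣ := by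
    rw [Fintype.card_units, hcard, ← ZMod.natCast_eq_zero_iff, Nat.cast_sub (Nat.one_le_pow _ _ hq0),
      Nat.cast_one, Nat.cast_pow, ← hord, pow_orderOf_eq_one, sub_self]
  obtain ⟨lam, hlam⟩ := exists_prime_orderOf_dvd_card r hrdvd
  have hlr : (lam : L) ^ r = 1 := by
    rw [← Units.val_pow_eq_pow_val, ← hlam, pow_orderOf_eq_one, Units.val_one]
  let σ : L ≃ₐ[F] L := FiniteField.Extension.frob F p (2 * k) ^ k
  have hσ : ∀ x, σ x = x ^ q ^ k := fun x => by
    rw [show σ x = _ from FiniteField.Extension.frob_iterate_apply F p (2 * k) k, Nat.card_eq_fintype_card]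
  have hσσ : ∀ x, σ (σ x) = x := fun x => by
    rw [hσ, hσ, ← pow_mul, ← pow_add, ← two_mul, ← hcard, FiniteField.pow_card]
  have hirr : ∀ N : Submodule F L, (∀ a ∈ N, (lam : L) * a ∈ N) → N = ⊥ ∨ N = ⊤ := by
    intro N hN
    rcases eq_or_ne N ⊥ with h | h
    · exact Or.inl h
    right
    let A : Subalgebra F L :=
      { carrier := {a | ∀ x ∈ N, a * x ∈ N}
        mul_mem' := fun {a b} ha hb x hx => by rw [mul_assoc]; exact ha _ (hb x hx)
        one_mem' := fun x hx => by rwa [one_mul]
        add_mem' := fun {a b} ha hb x hx => by rw [add_mul]; exact N.add_mem (ha x hx) (hb x hx)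
        zero_mem' := fun x hx => by rw [zero_mul]; exact N.zero_mem
        algebraMap_mem' := fun c x hx => by rw [← Algebra.smul_def]; exact N.smul_mem c hx }
    haveI : Fintype A := Fintype.ofFinite _
    letI : Field A := Fintype.fieldOfDomain A
    have hlA : (lam : L) ∈ A := hN
    set m := Module.finrank F A
    have hAc : Fintype.card A = q ^ m := Module.card_eq_pow_finrank
    have hl1 : (⟨(lam : L), hlA⟩ : A) ^ (Fintype.card A - 1) = 1 :=
      FiniteField.pow_card_sub_one_eq_one _ fun e => lam.ne_zero (congrArg Subtype.val e)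
    have hlu : lam ^ (q ^ m - 1) = 1 := Units.ext (by
      rw [Units.val_pow_eq_pow_val, Units.val_one, ← hAc]
      exact congrArg Subtype.val hl1)
    have h1 : r ∣ q ^ m - 1 := hlam ▸ orderOf_dvd_of_pow_eq_one hlu
    have h2' : ((q : ZMod r)) ^ m = 1 := by
      have h5 := (ZMod.natCast_eq_zero_iff (q ^ m - 1) r).2 h1
      rw [Nat.cast_sub (Nat.one_le_pow _ _ hq0), Nat.cast_one, Nat.cast_pow, sub_eq_zero] at h5
      exact h5
    have h3 : 2 * k ≤ m := by
      refine Nat.le_of_dvd Module.finrank_pos ?_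
      rw [← hord]
      exact orderOf_dvd_of_pow_eq_one h2'
    have hAtop : A = ⊤ := by
      refine Algebra.toSubmodule_eq_top.1 (Submodule.eq_top_of_finrank_eq ?_)
      have h4 : Module.finrank F A ≤ Module.finrank F L := Submodule.finrank_le A.toSubmodule
      show Module.finrank F A = _
      omega
    obtain ⟨a, haN, ha0⟩ := N.exists_mem_ne_zero_of_ne_bot h
    refine eq_top_iff.2 fun y _ => ?_
    have hy : y * a⁻¹ ∈ A := hAtop ▸ Algebra.mem_top
    have := hy a haN
    rwa [inv_mul_cancel_right₀ ha0] at this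
  have hlσ : (lam : L) * σ lam = 1 := by
    rw [hσ, ← pow_succ', ← Units.val_pow_eq_pow_val, orderOf_dvd_iff_pow_eq_one.1 (hlam ▸ hdvd), Units.val_one]
  obtain ⟨θ, hθ0, hθ⟩ : ∃ θ : L, θ ≠ 0 ∧ σ θ = -θ := by
    by_contra hcon
    push Not at hcon
    have hfix : ∀ a, σ a = a := fun a => by
      by_contra hne
      exact hcon (a - σ a) (sub_ne_zero.2 (Ne.symm hne)) (by rw [map_sub, hσσ, neg_sub])
    have : lam * lam = 1 := Units.ext (by rw [Units.val_mul, Units.val_one, ← hlσ, hfix])
    have h4 : orderOf lam ∣ 2 := orderOf_dvd_of_pow_eq_one (by rw [pow_two, this])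
    rw [hlam, Nat.prime_dvd_prime_iff_eq hr.out Nat.prime_two] at h4
    exact hr2 h4
  let B : LinearMap.BilinForm F L := LinearMap.mk₂ F (fun a b => Algebra.trace F L (θ * a * σ b))
    (fun a b c => by simp [mul_add, add_mul])
    (fun c a b => by simp [mul_smul_comm, smul_mul_assoc])
    (fun a b c => by simp [mul_add])
    (fun c a b => by simp [mul_smul_comm])
  refine ⟨L, inferInstance, inferInstance, inferInstance, lam, B, hL, hlr, fun a => ?_, fun a b => ?_,
    fun a ha => ?_, hirr⟩
  · show Algebra.trace F L (θ * a * σ a) = 0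
    have h := Algebra.trace_eq_of_algEquiv σ (θ * a * σ a)
    rw [map_mul σ, map_mul σ, hθ, hσσ, show -θ * σ a * a = -(θ * a * σ a) by ring, map_neg] at h
    exact (mul_eq_zero.1 (show (2 : F) * Algebra.trace F L (θ * a * σ a) = 0 by linear_combination -h)).resolve_left h2
  · show Algebra.trace F L (θ * ((lam : L) * a) * σ ((lam : L) * b)) = Algebra.trace F L (θ * a * σ b)
    rw [map_mul σ, show θ * ((lam : L) * a) * (σ lam * σ b) = (lam : L) * σ lam * (θ * a * σ b) by ring, hlσ,
      one_mul]
  · obtain ⟨x, hx⟩ := Algebra.trace_surjective F L 1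
    refine ⟨σ ((θ * a)⁻¹ * x), ?_⟩
    show Algebra.trace F L (θ * a * σ (σ ((θ * a)⁻¹ * x))) ≠ 0
    rw [hσσ, mul_inv_cancel_left₀ (mul_ne_zero hθ0 ha), hx]
    exact one_ne_zero

/-- An element of order `r` without a fixed pair. -/
theorem exists_derangement [Fintype F] {p : ℕ} [Fact p.Prime] [CharP F p] (h2 : (2 : F) ≠ 0)
    {r : ℕ} [hr : Fact r.Prime] (hr2 : r ≠ 2) {i : ℕ} (hi : i < d)
    (hdvd : r ∣ Fintype.card F ^ (i + 1) + 1) :
    ∃ g : Matrix.symplecticGroup (Fin d) F, g ^ r = 1 ∧
      (∀ z : F, (g : Matrix (Fin d ⊕ Fin d) (Fin d ⊕ Fin d) F) ≠ z • 1) ∧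
      ∀ P : Submodule F (Fin d ⊕ Fin d → F) × Submodule F (Fin d ⊕ Fin d → F), IsPair P →
        ¬ ((P.1.map (act g) = P.1 ∧ P.2.map (act g) = P.2) ∨ (P.1.map (act g) = P.2 ∧ P.2.map (act g) = P.1)) := by
  classical
  set Q := (Fintype.card F : ZMod r) with hQdef
  have hneg : Q ^ (i + 1) = -1 := by
    have h := (ZMod.natCast_eq_zero_iff _ r).2 hdvd
    rw [Nat.cast_add, Nat.cast_pow, Nat.cast_one] at h
    exact eq_neg_of_add_eq_zero_left h
  have hne : (-1 : ZMod r) ≠ 1 := fun h => by
    have h3 : ((2 : ℕ) : ZMod r) = 0 := by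
      rw [Nat.cast_ofNat]; linear_combination -h
    rw [ZMod.natCast_eq_zero_iff, Nat.prime_dvd_prime_iff_eq hr.out Nat.prime_two] at h3
    exact hr2 h3
  have hsq : Q ^ (2 * (i + 1)) = 1 := by rw [mul_comm, pow_mul, hneg, neg_one_sq]
  obtain ⟨e, he⟩ : ∃ e, orderOf Q = e := ⟨_, rfl⟩
  have hediv : e ∣ 2 * (i + 1) := he ▸ orderOf_dvd_of_pow_eq_one hsq
  obtain ⟨k, hk⟩ : 2 ∣ e := by
    by_contra hodd
    have h1 : e ∣ i + 1 := (Nat.Coprime.symm (Nat.prime_two.coprime_iff_not_dvd.2 hodd)).dvd_of_dvd_mul_left hediv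
    refine hne (hneg.symm.trans ?_)
    rw [← he] at h1
    exact orderOf_dvd_iff_pow_eq_one.1 h1
  have hk0 : 0 < k := Nat.pos_of_ne_zero fun e0 => by
    subst e0
    rw [hk] at hediv
    simp at hediv
  have hkd : k ≤ d := by
    have := Nat.le_of_dvd (by omega) hediv
    omega
  have hkq : r ∣ Fintype.card F ^ k + 1 := by
    rw [← ZMod.natCast_eq_zero_iff, Nat.cast_add, Nat.cast_pow, Nat.cast_one, ← hQdef]
    have h1 : (Q ^ k) * (Q ^ k) = 1 := by
      rw [← pow_add, ← two_mul, ← hk, ← he, pow_orderOf_eq_one]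
    have h3 : Q ^ k ≠ 1 := fun h => by
      have := Nat.le_of_dvd hk0 (he ▸ orderOf_dvd_of_pow_eq_one h)
      omega
    rw [(mul_self_eq_one_iff.1 h1).resolve_left h3, neg_add_cancel]
  haveI : NeZero k := ⟨hk0.ne'⟩
  obtain ⟨L, fL, aL, fdL, lam, B, hL, hlr, hBA, hBlam, hBnd, hirr⟩ :=
    exists_field_form (p := p) h2 (k := k) hr2 (by rw [← hQdef, he, hk]) hkq
  obtain ⟨κ, hfin, v, w, π, had, hdim, hspan⟩ := H98.SympFrame.exists_adapted_top (f := B)
    (T := LinearMap.id) hBA (fun _ _ => rfl) (one_ne_zero (α := F)) (fun a => (one_smul F a).symm) hBnd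
  have hcardκ : Fintype.card κ ≤ Fintype.card (Fin d) := by rw [Fintype.card_fin]; omega
  obtain ⟨j⟩ := Function.Embedding.nonempty_of_card_le hcardκ
  let Qm : V →ₗ[F] L :=
    { toFun := fun x => ∑ a, (x (Sum.inl (j a)) • w a + x (Sum.inr (j a)) • v a)
      map_add' := fun x y => by
        rw [← Finset.sum_add_distrib]
        exact Finset.sum_congr rfl fun a _ => by simp only [Pi.add_apply, add_smul]; abel
      map_smul' := fun c x => by simp [Finset.smul_sum, smul_smul] }
  let P : L →ₗ[F] V :=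
    { toFun := fun b => ∑ a, (B (v a) b • (ev (j a) : V) + B b (w a) • (fv (j a) : V))
      map_add' := fun x y => by
        rw [← Finset.sum_add_distrib]
        exact Finset.sum_congr rfl fun a _ => by simp only [map_add, LinearMap.add_apply, add_smul]; abel
      map_smul' := fun c x => by simp [Finset.smul_sum, smul_smul] }
  have hswap := fun a b => H98.SympFrame.swap hBA a b
  have hrec : ∀ b : L, b = ∑ a, (B (v a) b • w a + B b (w a) • v a) := by
    intro b
    have hb : b ∈ Submodule.span F (Set.range (Sum.elim v w)) := by rw [hspan]; trivial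
    induction hb using Submodule.span_induction with
    | mem y hy =>
      obtain ⟨c | c, rfl⟩ := hy
      · rw [Sum.elim_inl, Finset.sum_eq_single c (fun a _ ha => by
          simp [had.fvv, had.fvw_ne c a (Ne.symm ha)]) (by simp)]
        simp [had.fvv, had.fvw]
      · rw [Sum.elim_inr, Finset.sum_eq_single c (fun a _ ha => by
          simp [had.fww, had.fvw_ne a c ha]) (by simp)]
        simp [had.fww, had.fvw]
    | zero => simp
    | add x y _ _ hx hy =>
      conv_lhs => rw [hx, hy]
      rw [← Finset.sum_add_distrib]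
      exact Finset.sum_congr rfl fun a _ => by simp only [map_add, LinearMap.add_apply, add_smul]; abel
    | smul c x _ hx =>
      conv_lhs => rw [hx]
      simp [Finset.smul_sum, smul_smul]
  have hP : ∀ b x, sf (P b) x = B b (Qm x) := by
    intro b x
    show sf (∑ a, (B (v a) b • (ev (j a) : V) + B b (w a) • (fv (j a) : V))) x =
      B b (∑ a, (x (Sum.inl (j a)) • w a + x (Sum.inr (j a)) • v a))
    rw [map_sum, map_sum, LinearMap.sum_apply]
    refine Finset.sum_congr rfl fun a _ => ?_
    simp only [map_add, map_smul, LinearMap.add_apply, LinearMap.smul_apply, sf_ev, sf_fv, smul_eq_mul,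
      hswap (v a) b]
    ring
  have hQP : ∀ b, Qm (P b) = b := by
    intro b
    conv_rhs => rw [hrec b]
    show Qm (∑ a, (B (v a) b • (ev (j a) : V) + B b (w a) • (fv (j a) : V))) = _
    rw [map_sum]
    refine Finset.sum_congr rfl fun a _ => ?_
    rw [map_add, map_smul, map_smul]
    congr 1
    · congr 1
      show ∑ c, ((ev (j a) : V) (Sum.inl (j c)) • w c + (ev (j a) : V) (Sum.inr (j c)) • v c) = w a
      rw [Finset.sum_eq_single a (fun c _ hc => by simp [ev, Pi.single_apply, j.injective.ne_iff.2 hc]) (by simp)]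
      simp [ev]
    · congr 1
      show ∑ c, ((fv (j a) : V) (Sum.inl (j c)) • w c + (fv (j a) : V) (Sum.inr (j c)) • v c) = v a
      rw [Finset.sum_eq_single a (fun c _ hc => by simp [fv, Pi.single_apply, j.injective.ne_iff.2 hc]) (by simp)]
      simp [fv]
  let T : V →ₗ[F] V := LinearMap.id + P.comp ((LinearMap.mulLeft F lam - LinearMap.id).comp Qm)
  have hTdef : ∀ x, T x = x + P (lam * Qm x - Qm x) := fun x => rfl
  have hTsf : ∀ x y, sf (T x) (T y) = sf x y := by
    intro x y
    have e1 : ∀ b, sf x (P b) = B (Qm x) b := fun b => by rw [sf_swap, hP, hswap (Qm x) b, neg_neg]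
    rw [hTdef, hTdef, map_add, map_add, LinearMap.add_apply, LinearMap.add_apply, hP, hP, e1, hQP]
    simp only [map_sub, LinearMap.sub_apply, hBlam]
    ring
  let g : Sp := ⟨LinearMap.toMatrix' T, mem_symplectic_iff.2 fun x y => by
    rw [LinearMap.toMatrix'_mulVec, LinearMap.toMatrix'_mulVec, hTsf]⟩
  have hg : ∀ x, g • x = T x := fun x => LinearMap.toMatrix'_mulVec T x
  have hgn : ∀ n : ℕ, ∀ x, (g ^ n) • x = x + P (lam ^ n * Qm x - Qm x) := by
    intro n
    induction n with
    | zero => intro x; simp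
    | succ n ih =>
      intro x
      rw [pow_succ', mul_smul, ih, hg, hTdef, map_add, hQP, add_assoc, ← map_add]
      congr 2
      rw [pow_succ']
      ring
  have hgr : g ^ r = 1 := sp_ext fun x => by rw [hgn, hlr, one_smul, one_mul, sub_self, map_zero, add_zero]
  have hlam1 : ∀ c : F, lam ≠ algebraMap F L c := by
    intro c hc
    have hfr : Module.finrank F (Submodule.span F ({1} : Set L)) ≤ 1 := by
      simpa using finrank_span_le_card ({1} : Set L)
    rcases hirr (Submodule.span F {1}) (fun a ha => by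
      rw [hc, ← Algebra.smul_def]; exact Submodule.smul_mem _ _ ha) with h | h
    · exact one_ne_zero (α := L) (by
        have h5 : (1 : L) ∈ Submodule.span F ({1} : Set L) := Submodule.subset_span rfl
        rwa [h, Submodule.mem_bot] at h5)
    · rw [h, finrank_top] at hfr
      omega
  have hns : ∀ z : F, (g : Matrix (Fin d ⊕ Fin d) (Fin d ⊕ Fin d) F) ≠ z • 1 := by
    intro z hz
    have h1 : g • P 1 = z • P 1 := by rw [spSmulDef, hz, Matrix.smul_mulVec, Matrix.one_mulVec]
    rw [hg, hTdef, hQP, mul_one] at h1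
    have h3 := congrArg Qm h1
    rw [map_add, hQP, hQP, map_smul, hQP, add_sub_cancel] at h3
    exact hlam1 z (by rw [h3, Algebra.algebraMap_eq_smul_one])
  refine ⟨g, hgr, hns, fun Pr hPr hfix => ?_⟩
  have hdpos : 0 < d := by omega
  have hTU : Pr.1.map (act g) = Pr.1 ∧ Pr.2.map (act g) = Pr.2 := by
    refine hfix.resolve_right fun hs => ?_
    have hmul : ∀ a b : Sp, ∀ X : Submodule F V, X.map (act (a * b)) = (X.map (act b)).map (act a) := by
      intro a b X
      rw [← Submodule.map_comp]
      exact congrArg (fun t => Submodule.map t X) (LinearMap.ext fun x => mul_smul a b x)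
    have hone : ∀ X : Submodule F V, X.map (act (1 : Sp)) = X := fun X => by
      rw [show act (1 : Sp) = LinearMap.id from LinearMap.ext fun x => one_smul _ x, Submodule.map_id]
    have key : ∀ n, Pr.1.map (act (g ^ (2 * n + 1))) = Pr.2 := by
      intro n
      induction n with
      | zero => simpa using hs.1
      | succ n ih =>
        rw [show 2 * (n + 1) + 1 = (2 * n + 1) + 1 + 1 by omega, pow_succ' g, hmul, pow_succ' g, hmul, ih, hs.2, hs.1]
    obtain ⟨n, hn⟩ := hr.out.odd_of_ne_two hr2
    have h12 : Pr.1 = Pr.2 := by rw [← key n, ← hn, hgr, hone]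
    have h4 := hPr.finrank_eq.1
    have h5 : Pr.1 = ⊥ := by
      have := hPr.1.inf_eq_bot
      rwa [← h12, inf_idem] at this
    rw [h5, finrank_bot] at h4
    omega
  -- a fixed totally isotropic subspace is centralized
  have hcent : ∀ X : Submodule F V, TI X → X.map (act g) = X → ∀ x ∈ X, g • x = x := by
    intro X hX hgX x hx
    have hstab : ∀ y ∈ X, g • y ∈ X := fun y hy => hgX.le ⟨y, hy, rfl⟩
    rcases hirr (X.comap P) (fun a ha => by
      show P (lam * a) ∈ X
      have h1 := hstab _ ha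
      rwa [hg, hTdef, hQP, ← map_add, add_sub_cancel] at h1) with h | h
    · have h1 : P (lam * Qm x - Qm x) ∈ X := by
        have := X.sub_mem (hstab x hx) hx
        rwa [hg, hTdef, add_sub_cancel_left] at this
      have h3 : lam * Qm x - Qm x ∈ X.comap P := h1
      rw [h, Submodule.mem_bot] at h3
      rw [hg, hTdef, h3, map_zero, add_zero]
    · exfalso
      obtain ⟨b, hb⟩ := hBnd 1 one_ne_zero
      apply hb
      have hm : ∀ a, P a ∈ X := fun a => by
        show a ∈ X.comap P
        rw [h]; trivial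
      have h1 := hX _ (hm 1) _ (hm b)
      rwa [hP, hQP] at h1
  apply hns 1
  rw [one_smul]
  have hall : g = 1 := sp_ext fun x => by
    have hx : x ∈ Pr.1 ⊔ Pr.2 := by rw [hPr.1.sup_eq_top]; trivial
    obtain ⟨a, ha, b, hb, rfl⟩ := Submodule.mem_sup.1 hx
    rw [one_smul, smul_add, hcent _ hPr.2.1 hTU.1 a ha, hcent _ hPr.2.2 hTU.2 b hb]
  rw [hall]
  rfl

end H98.PolarPairs
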