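import Cfsg.Agent.H98.Special
import Cfsg.Agent.H98.SL2Hom

/-! `⟨a, b(a)⟩` is an image of `SL₂(p)` when `a` has order `p` in a special rank one group. -/

set_option autoImplicit false

namespace H98

open Cfsg

variable {X : Type*} [Group X] {A B : Subgroup X}

theorem exists_sl2Hom_of_rel (hs : IsSpecialRankOnePair A B) (hab : HasAbelianUnipotents A B)
    {p : ℕ} [Fact p.Prime] {a b : X} (r : Rel A B a b) (hap : a ^ p = 1) :
    ∃ φ : Matrix.SpecialLinearGroup (Fin 2) (ZMod p) →* X,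
      φ (uu 1) = a ∧ φ (ll 1) = b ∧ φ.range = Subgroup.closure {a, b} ∧
        φ.ker ≤ Subgroup.center _ := by
  have hr := hs.1
  have hbp : b ^ p = 1 := (r.pow_eq_one_iff hs p).1 hap
  have hord : orderOf a = p := orderOf_eq_prime hap r.2.1
  have hordb : orderOf b = p := orderOf_eq_prime hbp r.2.2.2.1
  have hA : ∀ n m : ℕ, (n : ZMod p) = m → a ^ n = a ^ m := fun n m h => by
    rw [pow_eq_pow_iff_modEq, hord, ← ZMod.natCast_eq_natCast_iff]; exact h
  have hB : ∀ n m : ℕ, (n : ZMod p) = m → b ^ n = b ^ m := fun n m h => by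
    rw [pow_eq_pow_iff_modEq, hordb, ← ZMod.natCast_eq_natCast_iff]; exact h
  obtain ⟨x, hx⟩ : ∃ x : ZMod p → X, ∀ s, x s = a ^ s.val := ⟨_, fun _ => rfl⟩
  obtain ⟨y, hy⟩ : ∃ y : ZMod p → X, ∀ s, y s = b ^ s.val := ⟨_, fun _ => rfl⟩
  have xadd : ∀ s t, x (s + t) = x s * x t := fun s t => by
    rw [hx, hx, hx]
    rw [← pow_add]; exact hA _ _ (by simp)
  have yadd : ∀ s t, y (s + t) = y s * y t := fun s t => by
    rw [hy, hy, hy]
    rw [← pow_add]; exact hB _ _ (by simp)
  have xpow : ∀ (t s : ZMod p), x t ^ s.val = x (t * s) := fun t s => by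
    rw [hx, hx]
    rw [← pow_mul]; exact hA _ _ (by simp)
  have ypow : ∀ (t s : ZMod p), y t ^ s.val = y (t * s) := fun t s => by
    rw [hy, hy]
    rw [← pow_mul]; exact hB _ _ (by simp)
  have yneg : ∀ s, y (-s) = (y s)⁻¹ := fun s => eq_inv_of_mul_eq_one_left (by
    rw [← yadd, neg_add_cancel]
    rw [hy, ZMod.val_zero, pow_zero])
  have hrel : ∀ t : ZMod p, t ≠ 0 → Rel A B (x t) (y t⁻¹) := by
    intro t ht
    have hxt : x t ≠ 1 := by
      rw [hx]
      rw [Ne, ← orderOf_dvd_iff_pow_eq_one, hord, ← ZMod.natCast_eq_zero_iff]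
        <;> simp [ht]
    obtain ⟨c, rc⟩ := exists_rel hr (show x t ∈ A by rw [hx]; exact A.pow_mem r.1 _) hxt
    have hc := Rel.pow_partner hs hab r (by rw [← hx]; exact rc)
    have hcp : c ^ p = 1 := (rc.pow_eq_one_iff hs p).1 (by
      rw [hx, ← pow_mul, mul_comm, pow_mul, hap, one_pow])
    have hordc : orderOf c = p := orderOf_eq_prime hcp rc.2.2.2.1
    have : y t⁻¹ = c := by
      rw [hy, ← hc, ← pow_mul]
      conv_rhs => rw [← pow_one c]
      rw [pow_eq_pow_iff_modEq, hordc, ← ZMod.natCast_eq_natCast_iff]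
      simp [ht]
    rwa [this]
  have hmm : ∀ t, mm x y t = x t * (y t⁻¹)⁻¹ * x t := fun t => by rw [mm, yneg]
  have R : RootRel x y := by
    refine ⟨xadd, yadd, fun t ht => ?_, fun t ht s => ?_⟩
    · rw [hmm, (hrel t ht).braid hs, yneg]
    · have h := (hrel t ht).conj_pow hs (s / t).val
      rw [← hmm, xpow, ypow, show t * (s / t) = s by field_simp] at h
      rw [mul_inv_eq_iff_eq_mul] at h
      rw [h, ← yneg]
      congr 2
      field_simp
  have hx1 : x 1 = a := by
    rw [hx, ZMod.val_one, pow_one]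
  have hy1 : y 1 = b := by
    rw [hy, ZMod.val_one, pow_one]
  have hxmem : ∀ s, x s ∈ Subgroup.closure {a} := fun s =>
    Subgroup.mem_closure_singleton.2 ⟨(s.val : ℤ), by rw [hx, zpow_natCast]⟩
  have hymem : ∀ s, y s ∈ Subgroup.closure {b} := fun s =>
    Subgroup.mem_closure_singleton.2 ⟨(s.val : ℤ), by rw [hy, zpow_natCast]⟩
  have hmul : ∀ t l : ZMod p, t ≠ 0 → l ≠ 0 → hh x y (t * l) = hh x y t * hh x y l :=
    fun t l ht hl => R.hh_mul ht hl
  obtain ⟨φ, hφ⟩ : ∃ φ, φ = sl2Hom R hmul := ⟨_, rfl⟩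
  have hu : ∀ s, φ (uu s) = x s := fun s => by rw [hφ, sl2Hom_uu]
  have hl : ∀ s, φ (ll s) = y s := fun s => by rw [hφ, sl2Hom_ll]
  refine ⟨φ, by rw [hu, hx1], by rw [hl, hy1], ?_, ?_⟩
  · rw [hφ, sl2Hom_range]
    apply le_antisymm <;> rw [Subgroup.closure_le]
    · rintro _ (⟨s, rfl⟩ | ⟨s, rfl⟩)
      · exact Subgroup.closure_mono (by simp) (hxmem s)
      · exact Subgroup.closure_mono (by simp) (hymem s)
    · rintro _ (rfl | rfl)
      · exact Subgroup.subset_closure (Or.inl ⟨1, hx1⟩)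
      · exact Subgroup.subset_closure (Or.inr ⟨1, hy1⟩)
  · rcases normal_sup_eq_top_or_le_center (sl2_isRankOneGroup (k := ZMod p)) φ.ker with h | h
    · exfalso
      apply r.2.1
      refine eq_one_of_commute hr r.1 r.2.2.1 r.2.2.2.1 ?_
      have himg : ∀ g, φ g ∈ Subgroup.closure {b} := by
        intro g
        have hg : g ∈ φ.ker ⊔ lowerUnipotentSL2 (ZMod p) := by rw [h]; trivial
        rw [← SetLike.mem_coe, Subgroup.normal_mul] at hg
        obtain ⟨n, hn, l, hl', rfl⟩ := hg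
        obtain ⟨s, rfl⟩ := mem_lowerUnipotentSL2.1 hl'
        rw [map_mul, MonoidHom.mem_ker.1 hn, one_mul, hl]
        exact hymem s
      obtain ⟨n, hn⟩ := Subgroup.mem_closure_singleton.1 (himg (uu 1))
      rw [hu, hx1] at hn
      rw [← hn]
      exact (Commute.refl b).zpow_left n
    · exact h

theorem sl2_or_psl2_of_hom {H : Subgroup X} {p : ℕ} [Fact p.Prime]
    (φ : Matrix.SpecialLinearGroup (Fin 2) (ZMod p) →* X) (hr : φ.range = H)
    (hk : φ.ker ≤ Subgroup.center _) :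
    Nonempty (↥H ≃* Matrix.SpecialLinearGroup (Fin 2) (ZMod p)) ∨
      Nonempty (↥H ≃* Matrix.ProjectiveSpecialLinearGroup (Fin 2) (ZMod p)) := by
  subst hr
  by_cases hbot : φ.ker = ⊥
  · exact Or.inl ⟨(MonoidHom.ofInjective ((MonoidHom.ker_eq_bot_iff φ).1 hbot)).symm⟩
  · right
    obtain ⟨z, hz, hz1⟩ := exists_mem_ne_one hbot
    have heq : φ.ker = Subgroup.center _ := by
      refine le_antisymm hk fun c hc => ?_
      rw [Matrix.SpecialLinearGroup.mem_center_iff] at hc
      have hz' := hk hz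
      rw [Matrix.SpecialLinearGroup.mem_center_iff] at hz'
      obtain ⟨r, hr2, hr⟩ := hc
      obtain ⟨u, hu2, hu⟩ := hz'
      simp only [Fintype.card_fin, sq_eq_one_iff] at hr2 hu2
      rcases hr2 with rfl | rfl
      · have : c = 1 := by
          apply Subtype.ext; rw [← hr, map_one]; rfl
        rw [this]; exact Subgroup.one_mem _
      · have hu' : u = -1 := hu2.resolve_left fun e => hz1 (by
          apply Subtype.ext; rw [← hu, e, map_one]; rfl)
        have : c = z := Subtype.ext (by rw [← hr, ← hu, hu'])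
        rw [this]; exact hz
    exact ⟨(QuotientGroup.quotientKerEquivRange φ).symm.trans
      (QuotientGroup.quotientMulEquivOfEq heq)⟩

end H98
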