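import Mathlib.Tactic.NoncommRing

/-! The ring computation behind "quadratic action implies special" for rank one groups. -/

set_option autoImplicit false

namespace H98

variable {R : Type*} [Ring R]

theorem quad_ring_key {c d e : R} (hcc : c * c = 0) (hdd : d * d = 0) (hec : e * c = 0)
    (hce : c * e = 0) (h : (1 + e) * (1 + d) = (1 + d) * (1 - c) * (1 + d) * (1 + c)) :
    e = d - c * d * c - d * c * d := by
  set X := d - c * d + d * c - c * d * c - d * c * d - d * c * d * c with hX
  have hccx : ∀ x : R, c * (c * x) = 0 := fun x => by rw [← mul_assoc, hcc, zero_mul]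
  have hddx : ∀ x : R, d * (d * x) = 0 := fun x => by rw [← mul_assoc, hdd, zero_mul]
  have hE : e * (1 + d) = X := by
    have h1 : e * (1 + d) = (1 + e) * (1 + d) - (1 + d) := by noncomm_ring
    rw [h1, h, hX]
    simp only [add_mul, mul_add, sub_mul, mul_sub, one_mul, mul_one, mul_assoc, hccx, hddx, hcc,
      hdd, mul_zero, add_zero, zero_add, sub_zero, zero_sub]
    abel
  have hcd : c * (d * (c * d)) = c * d := by
    have h1 : c * X * (1 - c) = 0 := by rw [← hE, ← mul_assoc, hce, zero_mul, zero_mul]
    rw [hX] at h1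
    simp only [add_mul, mul_add, sub_mul, mul_sub, mul_one, mul_assoc, hccx, hddx, hcc,
      mul_zero, add_zero, sub_zero, sub_self] at h1
    rw [eq_comm, ← sub_eq_zero, ← h1]
    abel
  have he : e = X + c * d := by
    have h1 : e = e * (1 + d) * (1 - d) := by
      have : (1 + d) * (1 - d) = 1 := by
        simp only [add_mul, mul_sub, one_mul, mul_one, hdd, sub_zero]; abel
      rw [mul_assoc, this, mul_one]
    rw [h1, hE, hX]
    simp only [add_mul, sub_mul, mul_sub, mul_one, mul_assoc, hdd,
      mul_zero, sub_zero, add_zero, hcd]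
    abel
  have hdc : d * c = d * (c * (d * c)) := by
    have h1 : e * c = 0 := hec
    rw [he, hX] at h1
    simp only [add_mul, sub_mul, mul_assoc, hcc, mul_zero, sub_zero, add_zero] at h1
    rw [← sub_eq_zero, ← h1]
    abel
  rw [he, hX]
  simp only [mul_assoc]
  rw [← hdc]
  abel

theorem quad_ring_kill {c d e c' : R} (h : e = d - c * d * c - d * c * d) (h1 : c' * c = 0)
    (h2 : c * c' = 0) (h3 : c' * e = 0) (h4 : e * c' = 0) :
    c' * (d - d * c * d) = 0 ∧ (d - d * c * d) * c' = 0 := by
  have hd : d - d * c * d = e + c * d * c := by rw [h]; abel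
  rw [hd]
  constructor
  · rw [mul_add, h3, zero_add, mul_assoc c, ← mul_assoc c', h1, zero_mul]
  · rw [add_mul, h4, zero_add, mul_assoc, h2, mul_zero]

end H98
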