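import Cfsg.Agent.H65.Dihedral
import Cfsg.Prelude.Def_RootSubgroups

/-! Sets of root involutions: elementary facts and the line lemma. -/

set_option autoImplicit false

namespace H98

open Cfsg

variable {G : Type*} [Group G] {D : Set G}

theorem odd_symm {a b : G} (ha : orderOf a = 2) (hb : orderOf b = 2) (h : Odd (orderOf (a * b))) :
    Odd (orderOf (b * a)) := by
  rwa [show b * a = (a * b)⁻¹ by rw [mul_inv_rev, H65.inv_of_two ha, H65.inv_of_two hb],
    orderOf_inv]

theorem eq_of_odd_commute {a b : G} (ha : orderOf a = 2) (hb : orderOf b = 2)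
    (h : Odd (orderOf (a * b))) (hc : a * b = b * a) : a = b := by
  have h2 : (a * b) ^ 2 = 1 := by
    rw [sq]
    calc a * b * (a * b) = a * b * (b * a) := by rw [hc]
      _ = a * (b * b) * a := by group
      _ = 1 := by rw [H65.mul_self_of_two hb, mul_one, H65.mul_self_of_two ha]
  have h1 : orderOf (a * b) = 1 := by
    rcases (Nat.dvd_prime Nat.prime_two).1 (orderOf_dvd_of_pow_eq_one h2) with e | e
    · exact e
    · rw [e] at h; exact absurd h (by decide)
  rw [orderOf_eq_one_iff, mul_eq_one_iff_eq_inv, H65.inv_of_two hb] at h1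
  exact h1

/-- An involution centralising `a, b` with `a b` and `a b z` of odd order is trivial. -/
theorem odd_central_eq_one {a b z : G} (hza : Commute z a) (hzb : Commute z b) (hz : z * z = 1)
    (h1 : Odd (orderOf (a * b))) (h2 : Odd (orderOf (a * (b * z)))) : z = 1 := by
  set m := orderOf (a * b)
  set n := orderOf (a * (b * z))
  have hc : Commute (a * b) z := (hza.mul_right hzb).symm
  have e : (a * b * z) ^ (m * n) = 1 := by
    rw [mul_comm, pow_mul, mul_assoc a b z, pow_orderOf_eq_one, one_pow]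
  rw [hc.mul_pow, pow_mul (a * b), pow_orderOf_eq_one, one_pow, one_mul] at e
  obtain ⟨k, hk⟩ := h1.mul h2
  rw [hk, pow_succ, pow_mul, sq, hz, one_pow, one_mul] at e
  exact e

theorem mem_oddPartners {a b : G} :
    b ∈ oddPartners D a ↔ b ∈ D ∧ b ≠ a ∧ Odd (orderOf (a * b)) := Iff.rfl

theorem not_self_oddPartners {a : G} : a ∉ oddPartners D a := fun h => h.2.1 rfl

variable (hD : IsRootInvolutionSet D)

include hD

theorem conj2_mem {d t : G} (hd : d ∈ D) (ht : t ∈ D) : t * d * t ∈ D := by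
  have := hD.conj_mem d hd t
  rwa [H65.inv_of_two (hD.orderOf_eq t ht)] at this

theorem oddPartners_symm {a b : G} (ha : a ∈ D) (h : b ∈ oddPartners D a) :
    a ∈ oddPartners D b :=
  ⟨ha, Ne.symm h.2.1, odd_symm (hD.orderOf_eq a ha) (hD.orderOf_eq b h.1) h.2.2⟩

theorem not_commute_of_oddPartners {a b : G} (ha : a ∈ D) (h : b ∈ oddPartners D a) :
    ¬ Commute a b := fun hc =>
  h.2.1 (eq_of_odd_commute (hD.orderOf_eq a ha) (hD.orderOf_eq b h.1) h.2.2 hc).symm

theorem oddPartners_conj {a b : G} (g : G) (h : b ∈ oddPartners D a) :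
    g * b * g⁻¹ ∈ oddPartners D (g * a * g⁻¹) := by
  refine ⟨hD.conj_mem b h.1 g, fun e => h.2.1 ?_, ?_⟩
  · exact mul_left_cancel (mul_right_cancel e)
  · rw [show g * a * g⁻¹ * (g * b * g⁻¹) = MulAut.conj g (a * b) by
      rw [MulAut.conj_apply]; group, MulEquiv.orderOf_eq]
    exact h.2.2

/-- If `b` is not an odd partner of `a` then `a b a` commutes with `b`. -/
theorem conj_commute_of_not_odd {a b : G} (ha : a ∈ D) (hb : b ∈ D) (h : b ∉ oddPartners D a) :
    Commute (a * b * a) b := by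
  have ia := H65.mul_self_of_two (hD.orderOf_eq a ha)
  have ib := H65.mul_self_of_two (hD.orderOf_eq b hb)
  by_cases hab : b = a
  · subst hab; rw [ia, one_mul]
  rcases hD.pair a ha b hb with hc | ho | ⟨ho, -⟩
  · rw [hc, mul_assoc, ia, mul_one]
  · exact absurd ⟨hb, hab, ho⟩ h
  · show a * b * a * b = b * (a * b * a)
    have h4 : (a * b) ^ 4 = 1 := ho ▸ pow_orderOf_eq_one _
    have e : a * b * a * b = (a * b * a * b)⁻¹ := by
      rw [eq_inv_iff_mul_eq_one, ← h4]; simp only [pow_succ, pow_zero, one_mul, mul_assoc]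
    rw [e, mul_inv_rev, mul_inv_rev, mul_inv_rev, H65.inv_of_two (hD.orderOf_eq a ha),
      H65.inv_of_two (hD.orderOf_eq b hb)]
    simp only [mul_assoc]

/-- The order four case: properties of `f = (a b)^2`. -/
theorem four_facts {a b : G} (ha : a ∈ D) (hb : b ∈ D) (hn : b ∉ oddPartners D a)
    (hc : ¬ Commute a b) :
    (a * b) ^ 2 ∈ D ∧ Commute ((a * b) ^ 2) a ∧ Commute ((a * b) ^ 2) b ∧
      a * (a * b) ^ 2 = b * a * b ∧ (a * b) ^ 2 * b = a * b * a := by
  have ia := H65.mul_self_of_two (hD.orderOf_eq a ha)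
  have ib := H65.mul_self_of_two (hD.orderOf_eq b hb)
  have hne : b ≠ a := fun e => hc (by rw [e])
  rcases hD.pair a ha b hb with h | h | ⟨ho, hf⟩
  · exact absurd h hc
  · exact absurd ⟨hb, hne, h⟩ hn
  have h4 : (a * b) ^ 4 = 1 := ho ▸ pow_orderOf_eq_one _
  have e1 : a * (a * b) ^ 2 = b * a * b := by
    rw [sq]; simp only [mul_assoc]; rw [← mul_assoc a a, ia, one_mul]
  have e2 : (a * b) ^ 2 * b = a * b * a := by
    rw [sq]; simp only [mul_assoc]; rw [ib, mul_one]
  have hinv : ((a * b) ^ 2)⁻¹ = (a * b) ^ 2 := by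
    rw [inv_eq_iff_mul_eq_one, ← pow_add]; exact h4
  have ca : Commute ((a * b) ^ 2) a := by
    show (a * b) ^ 2 * a = a * (a * b) ^ 2
    rw [e1, ← hinv, sq, mul_inv_rev, mul_inv_rev, H65.inv_of_two (hD.orderOf_eq a ha),
      H65.inv_of_two (hD.orderOf_eq b hb)]
    simp only [mul_assoc]; rw [ia, mul_one]
  refine ⟨hf, ca, ?_, e1, e2⟩
  have hab : Commute ((a * b) ^ 2) (a * (a * b)) := ca.mul_right ((Commute.refl _).pow_left 2)
  rwa [← mul_assoc, ia, one_mul] at hab

/-- The line lemma. -/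
theorem root_line_lemma {a b d : G} (ha : a ∈ D) (hd : d ∈ oddPartners D a) (hb : b * b = 1)
    (hab : Commute b a) (h1 : Commute (b * d * b) d) (h2 : Commute (a * b * d * (b * a)) d) :
    False := by
  have ia := H65.mul_self_of_two (hD.orderOf_eq a ha)
  have id := H65.mul_self_of_two (hD.orderOf_eq d hd.1)
  obtain ⟨y, hy⟩ : ∃ y, y = a * b * d * (b * a) := ⟨_, rfl⟩
  rw [← hy] at h2
  have hy2 : Commute y (a * d * a) := by
    have hinv : a⁻¹ = a := H65.inv_of_two (hD.orderOf_eq a ha)
    have := (Commute.conj_iff a).2 h1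
    rw [hinv] at this
    rwa [show a * (b * d * b) * a = y by rw [hy]; simp only [mul_assoc]] at this
  have hsq : Commute y ((a * d) ^ 2) := by
    rw [sq, show a * d * (a * d) = a * d * a * d by group]
    exact hy2.mul_right h2
  have had : Commute y (a * d) := by
    obtain ⟨k, hk⟩ := hd.2.2
    have e : ((a * d) ^ 2) ^ (k + 1) = a * d := by
      rw [← pow_mul, show 2 * (k + 1) = orderOf (a * d) + 1 by omega, pow_succ, pow_orderOf_eq_one,
        one_mul]
    rw [← e]; exact hsq.pow_right _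
  have hya : Commute y a := by
    have := had.mul_right h2
    rwa [mul_assoc, id, mul_one] at this
  have hx : b * d * b = y := by
    calc b * d * b = (a * a) * (b * d * b) * (a * a) := by rw [ia, one_mul, mul_one]
      _ = a * y * a := by rw [hy]; simp only [mul_assoc]
      _ = y := by rw [← hya.eq, mul_assoc, ia, mul_one]
  rw [← hx] at hya
  have hbinv : b⁻¹ = b := inv_eq_of_mul_eq_one_right hb
  have h4 := (Commute.conj_iff b).2 hya
  rw [hbinv, show b * (b * d * b) * b = (b * b) * d * (b * b) by group, hb, one_mul, mul_one,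
    hab.eq, mul_assoc, hb, mul_one] at h4
  exact not_commute_of_oddPartners hD ha hd h4.symm

theorem line_or {a b d : G} (ha : a ∈ D) (hb : b ∈ D) (hc : Commute a b) (hab : a * b ∈ D)
    (hd : d ∈ oddPartners D a) : d ∈ oddPartners D b ∨ d ∈ oddPartners D (a * b) := by
  by_contra h
  push Not at h
  refine root_line_lemma hD ha hd (H65.mul_self_of_two (hD.orderOf_eq b hb)) hc.symm
    (conj_commute_of_not_odd hD hb hd.1 h.1) ?_
  have := conj_commute_of_not_odd hD hab hd.1 h.2
  nth_rewrite 2 [hc.eq] at this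
  exact this

/-- No member of `X_f` commutes with an odd partner of `f`. -/
theorem not_commute_line {f x y : G} (hf : f ∈ D) (hy : y ∈ oddPartners D f) (hx : x ∈ D)
    (hxf : Commute x f) (hmem : f * x ∈ D) : ¬ Commute x y := by
  intro hc
  have o := hD.orderOf_eq
  rcases line_or hD hf hx hxf.symm hmem hy with h | h
  · exact not_commute_of_oddPartners hD hx h hc
  · have hx1 : x = 1 :=
      odd_central_eq_one hc hxf (H65.mul_self_of_two (o x hx))
        (odd_symm (o f hf) (o y hy.1) hy.2.2) (odd_symm (o _ hmem) (o y hy.1) h.2.2)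
    exact H65.ne_one_of_two (o x hx) hx1

theorem line_four {a b : G} (ha : a ∈ D) (hb : b ∈ D) (hn : b ∉ oddPartners D a)
    (hc : ¬ Commute a b) : (a * b) ^ 2 * a ∈ D ∧ (a * b) ^ 2 ≠ a ∧ (a * b) ^ 2 ≠ b := by
  obtain ⟨hf, ca, cb, e1, e2⟩ := four_facts hD ha hb hn hc
  have ia := H65.mul_self_of_two (hD.orderOf_eq a ha)
  have ib := H65.mul_self_of_two (hD.orderOf_eq b hb)
  refine ⟨?_, fun e => ?_, fun e => ?_⟩
  · rw [ca.eq, e1]; exact conj2_mem hD ha hb
  · rw [e] at cb; exact hc cb
  · rw [e] at ca; exact hc ca.symm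

end H98
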