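import Cfsg.Agent.H98.RootInv
import Cfsg.Agent.H65.BaerSuzuki

/-! Root involutions with connected odd-product graph: members with the same odd partners
commute and have the same commuting members. -/

set_option autoImplicit false

namespace H98

open Cfsg

variable {G : Type*} [Group G] {D : Set G}

/-- Same odd partners. -/
def SameOdd (D : Set G) (a b : G) : Prop :=
  a ∈ D ∧ b ∈ D ∧ oddPartners D a = oddPartners D b

theorem SameOdd.symm {a b : G} (h : SameOdd D a b) : SameOdd D b a := ⟨h.2.1, h.1, h.2.2.symm⟩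

theorem SameOdd.trans {a b c : G} (h : SameOdd D a b) (h' : SameOdd D b c) : SameOdd D a c :=
  ⟨h.1, h'.2.1, h.2.2.trans h'.2.2⟩

theorem SameOdd.not_odd {a b : G} (h : SameOdd D a b) : b ∉ oddPartners D a := by
  rw [h.2.2]; exact not_self_oddPartners

variable (hD : IsRootInvolutionSet D)

include hD

theorem oddPartners_conj_eq (g a : G) :
    oddPartners D (g * a * g⁻¹) = (fun x => g * x * g⁻¹) '' oddPartners D a := by
  ext y
  constructor
  · intro hy
    refine ⟨g⁻¹ * y * g, ?_, by group⟩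
    have := oddPartners_conj hD g⁻¹ hy
    simpa [mul_assoc] using this
  · rintro ⟨x, hx, rfl⟩
    exact oddPartners_conj hD g hx

theorem SameOdd.conj {a b : G} (h : SameOdd D a b) (g : G) :
    SameOdd D (g * a * g⁻¹) (g * b * g⁻¹) :=
  ⟨hD.conj_mem a h.1 g, hD.conj_mem b h.2.1 g,
    by rw [oddPartners_conj_eq hD, oddPartners_conj_eq hD, h.2.2]⟩

theorem SameOdd.conj2 {a b t : G} (h : SameOdd D a b) (ht : t ∈ D) :
    SameOdd D (t * a * t) (t * b * t) := by
  have := h.conj hD t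
  rwa [H65.inv_of_two (hD.orderOf_eq t ht)] at this

theorem conj_of_oddPartners {a b : G} (ha : a ∈ D) (h : b ∈ oddPartners D a) :
    ∃ g : G, g * a * g⁻¹ = b :=
  isConj_iff.1 (H65.isConj_of_odd (hD.orderOf_eq a ha) (hD.orderOf_eq b h.1) h.2.2)

theorem isConj_of_connected (hc : IsConnectedSet (OddAdj D) D) {a b : G} (ha : a ∈ D)
    (hb : b ∈ D) : IsConj a b := by
  have h := hc a ha b hb
  clear hb
  induction h with
  | refl => exact IsConj.refl a
  | tail _ hxy ih =>
    exact ih.trans (H65.isConj_of_odd (hD.orderOf_eq _ hxy.1) (hD.orderOf_eq _ hxy.2.1) hxy.2.2.2)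

theorem oddPartners_eq_of_subset [Finite G] (hc : IsConnectedSet (OddAdj D) D) {a b : G}
    (ha : a ∈ D) (hb : b ∈ D) (h : oddPartners D a ⊆ oddPartners D b) :
    oddPartners D a = oddPartners D b := by
  obtain ⟨g, hg⟩ := isConj_iff.1 (isConj_of_connected hD hc ha hb)
  refine Set.eq_of_subset_of_ncard_le h ?_ (Set.toFinite _)
  rw [← hg, oddPartners_conj_eq hD, Set.ncard_image_of_injective]
  exact fun u v huv => mul_left_cancel (mul_right_cancel huv)

/-- If `t` maps the class of `a` to itself then `(a t)^2` is in the class of `a`. -/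
theorem sameOdd_sq [Finite G] (hc : IsConnectedSet (OddAdj D) D) {a t : G} (ha : a ∈ D)
    (ht : t ∈ D) (hn : t ∉ oddPartners D a) (hnc : ¬ Commute a t)
    (h : SameOdd D a (t * a * t)) : SameOdd D a ((a * t) ^ 2) := by
  obtain ⟨hf, ca, -, e1, -⟩ := four_facts hD ha ht hn hnc
  have hmem : (a * t) ^ 2 * a ∈ D := (line_four hD ha ht hn hnc).1
  refine ⟨ha, hf, ((oddPartners_eq_of_subset hD hc hf ha) fun y hy => ?_).symm⟩
  rcases line_or hD hf ha ca hmem hy with h1 | h1
  · exact h1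
  · rw [ca.eq, e1] at h1
    rwa [h.2.2]

theorem SameOdd.commute [Finite G] (hc : IsConnectedSet (OddAdj D) D) {a b : G}
    (hab : SameOdd D a b) : Commute a b := by
  by_cases hy0 : oddPartners D a = ∅
  · have hab' : a = b := by
      by_contra hne
      rcases (hc a hab.1 b hab.2.1).cases_head with e | ⟨d, hd, -⟩
      · exact hne e
      · have : d ∈ oddPartners D a := ⟨hd.2.1, hd.2.2.1.symm, hd.2.2.2⟩
        rw [hy0] at this
        exact this
    rw [hab']
  obtain ⟨y, hy⟩ := Set.nonempty_iff_ne_empty.2 hy0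
  let B : Set G := {e | SameOdd D a e}
  have hBB : ∀ u ∈ B, ∀ v ∈ B, SameOdd D u v := fun u hu v hv => (SameOdd.symm hu).trans hv
  have hBconj : ∀ u ∈ B, ∀ v ∈ B, u * v * u ∈ B := fun u hu v hv => by
    have h1 := (hBB u hu v hv).conj2 hD hu.2.1
    have h2 : u * u * u = u := by
      rw [H65.mul_self_of_two (hD.orderOf_eq u hu.2.1), one_mul]
    rw [h2] at h1
    exact SameOdd.trans hu h1
  let P : Subgroup G := Subgroup.closure B
  have hP : IsPGroup 2 ↥P := by
    let C : Set ↥P := {x | (x : G) ∈ B}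
    have hsub : C ⊆ Cfsg.pCore 2 ↥P := by
      refine H65.baer_suzuki_set (C := C) (fun g => ?_) ?_
      · obtain ⟨g, hg⟩ := g
        induction hg using Subgroup.closure_induction'' with
        | mem u hu =>
          intro v hv
          show u * (v : G) * u⁻¹ ∈ B
          rw [H65.inv_of_two (hD.orderOf_eq u hu.2.1)]
          exact hBconj u hu v hv
        | inv_mem u hu =>
          intro v hv
          show u⁻¹ * (v : G) * u⁻¹⁻¹ ∈ B
          rw [inv_inv, H65.inv_of_two (hD.orderOf_eq u hu.2.1)]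
          exact hBconj u hu v hv
        | one =>
          intro v hv
          show (1 : G) * v * (1 : G)⁻¹ ∈ B
          rwa [one_mul, inv_one, mul_one]
        | mul u v _ _ iu iv =>
          intro w hw
          have := iu _ (iv w hw)
          show u * v * (w : G) * (u * v)⁻¹ ∈ B
          have e : u * v * (w : G) * (u * v)⁻¹ = u * (v * (w : G) * v⁻¹) * u⁻¹ := by group
          rw [e]
          exact this
      · intro u hu v hv
        have o := fun (x : ↥P) (hx : x ∈ C) =>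
          show orderOf x = 2 by rw [← Subgroup.orderOf_coe]; exact hD.orderOf_eq _ hx.2.1
        have hdvd : orderOf (u * v) ∣ 2 ^ 2 := by
          rw [← Subgroup.orderOf_coe, Subgroup.coe_mul]
          rcases hD.pair _ hu.2.1 _ hv.2.1 with h | h | ⟨h, -⟩
          · refine (orderOf_dvd_of_pow_eq_one (n := 2) ?_).trans ⟨2, by norm_num⟩
            rw [(show Commute (u : G) v from h).mul_pow, sq, sq,
              H65.mul_self_of_two (hD.orderOf_eq _ hu.2.1),
              H65.mul_self_of_two (hD.orderOf_eq _ hv.2.1), one_mul]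
          · by_cases he : (v : G) = u
            · rw [he, H65.mul_self_of_two (hD.orderOf_eq _ hu.2.1), orderOf_one]
              exact one_dvd _
            · exact absurd ⟨hv.2.1, he, h⟩ (hBB _ hu _ hv).not_odd
          · rw [h]; decide
        exact H65.isPGroup_closure_pair (o u hu) (o v hv) hdvd
    have htop : Cfsg.pCore 2 ↥P = ⊤ := by
      rw [eq_top_iff]
      rintro ⟨x, hx⟩ -
      induction hx using Subgroup.closure_induction with
      | mem u hu => exact hsub (show (⟨u, _⟩ : ↥P) ∈ C from hu)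
      | one => exact Subgroup.one_mem _
      | mul u v _ _ iu iv => exact Subgroup.mul_mem _ iu iv
      | inv u _ iu => exact Subgroup.inv_mem _ iu
    have h1 := H1.isPGroup_pCore 2 ↥P
    rw [htop] at h1
    exact h1.of_equiv Subgroup.topEquiv
  haveI : Fact (Nat.Prime 2) := ⟨Nat.prime_two⟩
  haveI : Group.IsNilpotent ↥P := hP.isNilpotent
  obtain ⟨z, hz, hzc⟩ : ∃ z ∈ B, ∀ u ∈ B, Commute z u := by
    have hex : ∃ n, ∃ z : G, ∃ hz : z ∈ B,
        (⟨z, Subgroup.subset_closure hz⟩ : ↥P) ∈ Subgroup.upperCentralSeries ↥P n := by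
      obtain ⟨n, hn⟩ := Group.IsNilpotent.nilpotent ↥P
      exact ⟨n, a, ⟨hab.1, hab.1, rfl⟩, by rw [hn]; trivial⟩
    classical
    obtain ⟨z, hz, hzn⟩ := Nat.find_spec hex
    refine ⟨z, hz, fun u hu => ?_⟩
    by_contra hne
    have hn := (hBB z hz u hu).not_odd
    have hf : SameOdd D z ((z * u) ^ 2) :=
      sameOdd_sq hD hc hz.2.1 hu.2.1 hn hne (hBB z hz _ (hBconj u hu z hz))
    obtain ⟨m, hm⟩ : ∃ m, Nat.find hex = m + 1 := by
      rcases Nat.eq_zero_or_pos (Nat.find hex) with h0 | h0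
      · exfalso
        rw [h0, Subgroup.upperCentralSeries_zero, Subgroup.mem_bot] at hzn
        exact H65.ne_one_of_two (hD.orderOf_eq z hz.2.1) (congrArg Subtype.val hzn)
      · exact ⟨_, (Nat.succ_pred_eq_of_pos h0).symm⟩
    rw [hm, Subgroup.mem_upperCentralSeries_succ_iff] at hzn
    refine Nat.find_min hex (m := m) (by omega) ⟨(z * u) ^ 2, SameOdd.trans hz hf, ?_⟩
    have := hzn ⟨u, Subgroup.subset_closure hu⟩
    convert this using 1
    apply Subtype.ext
    show (z * u) ^ 2 = z * u * z⁻¹ * u⁻¹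
    rw [H65.inv_of_two (hD.orderOf_eq z hz.2.1), H65.inv_of_two (hD.orderOf_eq u hu.2.1), sq]
    group
  have haz : SameOdd D a z := hz
  have htrans : ∃ k : G, k * z * k⁻¹ = a := by
    obtain ⟨g, hg⟩ := conj_of_oddPartners hD hab.1 hy
    obtain ⟨g', hg'⟩ := conj_of_oddPartners hD hz.2.1 (by rwa [← haz.2.2] : y ∈ oddPartners D z)
    refine ⟨g⁻¹ * g', ?_⟩
    calc g⁻¹ * g' * z * (g⁻¹ * g')⁻¹ = g⁻¹ * (g' * z * g'⁻¹) * g := by group
      _ = a := by rw [hg', ← hg]; group
  obtain ⟨k, hk⟩ := htrans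
  have hb : k⁻¹ * b * k ∈ B := by
    have h1 := hab.conj hD k⁻¹
    rw [inv_inv, show k⁻¹ * a * k = z by rw [← hk]; group] at h1
    exact haz.trans h1
  have := (Commute.conj_iff k).2 (hzc _ hb)
  rwa [hk, show k * (k⁻¹ * b * k) * k⁻¹ = b by group] at this

/-- `x` is a line partner of `f` outside the odd partners of `y`. -/
def LineSet (D : Set G) (f y : G) : Set G :=
  {x | x ∈ D ∧ Commute x f ∧ x ≠ f ∧ f * x ∈ D ∧ x ∉ oddPartners D y}

theorem lineSet_step {f y x : G} (hf : f ∈ D) (hy : y ∈ oddPartners D f)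
    (hx : x ∈ LineSet D f y) : (x * y) ^ 2 ∈ LineSet D y f := by
  obtain ⟨hxD, hxf, hne, hmem, hxy⟩ := hx
  have hxy' : y ∉ oddPartners D x := fun h => hxy (oddPartners_symm hD hxD h)
  have hnc := not_commute_line hD hf hy hxD hxf hmem
  obtain ⟨hh, cx, cy, e1, e2⟩ := four_facts hD hxD hy.1 hxy' hnc
  obtain ⟨-, hhx, hhy⟩ := line_four hD hxD hy.1 hxy' hnc
  have hhmem : y * (x * y) ^ 2 ∈ D := by rw [← cy.eq, e2]; exact conj2_mem hD hy.1 hxD
  refine ⟨hh, cy, hhy, hhmem, fun h => ?_⟩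
  exact not_commute_line hD hf h hxD hxf hmem cx.symm

theorem lineSet_injOn {f y : G} (hf : f ∈ D) (hy : y ∈ oddPartners D f) :
    Set.InjOn (fun x => (x * y) ^ 2) (LineSet D f y) := by
  intro x₁ h₁ x₂ h₂ he
  have o := hD.orderOf_eq
  have iy := H65.mul_self_of_two (o y hy.1)
  have ix₁ := H65.mul_self_of_two (o x₁ h₁.1)
  have ix₂ := H65.mul_self_of_two (o x₂ h₂.1)
  simp only [sq] at he
  rw [← mul_assoc, ← mul_assoc] at he
  have hc0 : x₁ * y * x₁ = x₂ * y * x₂ := mul_right_cancel he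
  have huy : Commute (x₂ * x₁) y := by
    show x₂ * x₁ * y = y * (x₂ * x₁)
    calc x₂ * x₁ * y = x₂ * (x₁ * y * x₁) * x₁ := by
          simp only [mul_assoc]; rw [ix₁, mul_one]
      _ = x₂ * (x₂ * y * x₂) * x₁ := by rw [hc0]
      _ = y * (x₂ * x₁) := by
          simp only [mul_assoc]; rw [← mul_assoc x₂ x₂, ix₂, one_mul]
  have huf : Commute (x₂ * x₁) f := h₂.2.1.mul_left h₁.2.1
  have ho₁ : f * x₁ ∈ oddPartners D y := by
    refine oddPartners_symm hD h₁.2.2.2.1 ?_
    exact (line_or hD hf h₁.1 h₁.2.1.symm h₁.2.2.2.1 hy).resolve_left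
      fun h => h₁.2.2.2.2 (oddPartners_symm hD h₁.1 h)
  have ho₂ : f * x₂ ∈ oddPartners D y := by
    refine oddPartners_symm hD h₂.2.2.2.1 ?_
    exact (line_or hD hf h₂.1 h₂.2.1.symm h₂.2.2.2.1 hy).resolve_left
      fun h => h₂.2.2.2.2 (oddPartners_symm hD h₂.1 h)
  have hx₁inv : x₁ * (x₂ * x₁) * x₁ = (x₂ * x₁)⁻¹ := by
    rw [mul_inv_rev, H65.inv_of_two (o x₁ h₁.1), H65.inv_of_two (o x₂ h₂.1), mul_assoc,
      mul_assoc, ix₁, mul_one]
  obtain ⟨g, hg⟩ : ∃ g, g = y * (f * x₁) := ⟨_, rfl⟩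
  have hgu : g * (x₂ * x₁) * g⁻¹ = (x₂ * x₁)⁻¹ := by
    have e : g⁻¹ = x₁ * f * y := by
      rw [hg, mul_inv_rev, mul_inv_rev, H65.inv_of_two (o y hy.1), H65.inv_of_two (o f hf),
        H65.inv_of_two (o x₁ h₁.1)]
    rw [e, hg]
    calc y * (f * x₁) * (x₂ * x₁) * (x₁ * f * y)
        = y * (f * (x₁ * (x₂ * x₁) * x₁) * f) * y := by simp only [mul_assoc]
      _ = (x₂ * x₁)⁻¹ := by
          rw [hx₁inv, ← (huf.inv_left).eq]
          simp only [mul_assoc]
          rw [← mul_assoc f f, H65.mul_self_of_two (o f hf), one_mul, ← mul_assoc y,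
            ← (huy.inv_left).eq, mul_assoc, iy, mul_one]
  have hu2 : (x₂ * x₁) * (x₂ * x₁) = 1 := by
    have hodd : Odd (orderOf g) := by rw [hg]; exact ho₁.2.2
    obtain ⟨k, hk⟩ := hodd
    have hsq : Commute (g ^ 2) (x₂ * x₁) := by
      have h2 : g ^ 2 * (x₂ * x₁) * (g ^ 2)⁻¹ = x₂ * x₁ := by
        calc g ^ 2 * (x₂ * x₁) * (g ^ 2)⁻¹ = g * (g * (x₂ * x₁) * g⁻¹) * g⁻¹ := by
              rw [sq]; group
          _ = g * (x₂ * x₁)⁻¹ * g⁻¹ := by rw [hgu]
          _ = (g * (x₂ * x₁) * g⁻¹)⁻¹ := by group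
          _ = x₂ * x₁ := by rw [hgu, inv_inv]
      exact mul_inv_eq_iff_eq_mul.1 h2
    have hgc : Commute g (x₂ * x₁) := by
      have e : (g ^ 2) ^ (k + 1) = g := by
        rw [← pow_mul, show 2 * (k + 1) = orderOf g + 1 by omega, pow_succ, pow_orderOf_eq_one,
          one_mul]
      rw [← e]; exact hsq.pow_left _
    rw [hgc.eq, mul_inv_cancel_right] at hgu
    exact eq_inv_iff_mul_eq_one.1 hgu
  have hcomm : Commute x₁ x₂ := by
    show x₁ * x₂ = x₂ * x₁
    have := inv_eq_of_mul_eq_one_right hu2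
    rwa [mul_inv_rev, H65.inv_of_two (o x₁ h₁.1), H65.inv_of_two (o x₂ h₂.1)] at this
  have hz1 : x₂ * x₁ = 1 := by
    refine odd_central_eq_one (a := y) (b := f * x₁) huy
      (huf.mul_right (hcomm.symm.mul_left (Commute.refl x₁))) hu2 ho₁.2.2 ?_
    have e : f * x₁ * (x₂ * x₁) = f * x₂ := by
      rw [← hcomm.eq, mul_assoc, ← mul_assoc x₁ x₁, ix₁, one_mul]
    rw [e]; exact ho₂.2.2
  rw [mul_eq_one_iff_eq_inv, H65.inv_of_two (o x₁ h₁.1)] at hz1
  exact hz1.symm

theorem exists_lineSet_preimage [Finite G] {f y x : G} (hf : f ∈ D) (hy : y ∈ oddPartners D f)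
    (hx : x ∈ LineSet D f y) : ∃ h ∈ LineSet D y f, (h * f) ^ 2 = x := by
  have hf' := oddPartners_symm hD hf hy
  have i1 := Set.ncard_le_ncard_of_injOn _ (fun x hx => lineSet_step hD hf hy hx)
    (lineSet_injOn hD hf hy) (Set.toFinite _)
  have hinj := lineSet_injOn hD hy.1 hf'
  have himg : (fun h => (h * f) ^ 2) '' LineSet D y f = LineSet D f y := by
    refine Set.eq_of_subset_of_ncard_le ?_ ?_ (Set.toFinite _)
    · rintro _ ⟨h, hh, rfl⟩; exact lineSet_step hD hy.1 hf' hh
    · rw [Set.ncard_image_of_injOn hinj]; exact i1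
  rw [← himg] at hx
  obtain ⟨h, hh, e⟩ := hx
  exact ⟨h, hh, e⟩

theorem commute_of_normalizes [Finite G] (hc : IsConnectedSet (OddAdj D) D) {e f f' : G}
    (hef : SameOdd D e f) (hf' : f' ∈ D) (hff' : Commute f' f)
    (hn : SameOdd D f' (e * f' * e)) : Commute e f' := by
  by_contra hnc
  have hodd : f' ∉ oddPartners D e := by
    intro h
    rw [hef.2.2] at h
    exact not_commute_of_oddPartners hD hef.2.1 h hff'.symm
  have hodd' : e ∉ oddPartners D f' := fun h => hodd (oddPartners_symm hD hf' h)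
  have h1 := sameOdd_sq hD hc hf' hef.1 hodd' (fun h => hnc h.symm) hn
  have hnorm : SameOdd D e (f' * e * f') := by
    have h := hef.conj2 hD hf'
    rw [hff'.eq, mul_assoc f f', H65.mul_self_of_two (hD.orderOf_eq f' hf'), mul_one] at h
    exact hef.trans h.symm
  have h2 := sameOdd_sq hD hc hef.1 hf' hodd hnc hnorm
  have he : (e * f') ^ 2 = (f' * e) ^ 2 := by
    have h4 := (four_facts hD hef.1 hf' hodd hnc).1
    have h5 : ((e * f') ^ 2)⁻¹ = (e * f') ^ 2 := H65.inv_of_two (hD.orderOf_eq _ h4)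
    rw [← h5, ← inv_pow, mul_inv_rev, H65.inv_of_two (hD.orderOf_eq e hef.1),
      H65.inv_of_two (hD.orderOf_eq f' hf')]
  rw [he] at h2
  exact hnc (SameOdd.commute hD hc (h2.trans h1.symm))

theorem commutingMembers_eq_of_sameOdd [Finite G] (hc : IsConnectedSet (OddAdj D) D) {d e : G}
    (h : SameOdd D d e) : commutingMembers D d ⊆ commutingMembers D e := by
  rintro x ⟨hx, hxd⟩
  refine ⟨hx, ?_⟩
  by_contra hxe
  have hde := SameOdd.commute hD hc h
  have hxA : x ∉ oddPartners D e := by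
    rw [← h.2.2]
    intro h'
    exact not_commute_of_oddPartners hD h.1 h' (Commute.symm hxd)
  have hnc : ¬ Commute e x := fun h' => hxe h'.symm.eq
  have hnorm : SameOdd D e (x * e * x) := by
    have h1 := h.conj2 hD hx
    rw [hxd, mul_assoc d x, H65.mul_self_of_two (hD.orderOf_eq x hx), mul_one] at h1
    exact h.symm.trans h1
  have hf := sameOdd_sq hD hc h.2.1 hx hxA hnc hnorm
  obtain ⟨hfD, cfe, cfx, e1, e2⟩ := four_facts hD h.2.1 hx hxA hnc
  obtain ⟨-, hfe, hfx⟩ := line_four hD h.2.1 hx hxA hnc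
  obtain ⟨f, hfdef⟩ : ∃ f, f = (e * x) ^ 2 := ⟨_, rfl⟩
  rw [← hfdef] at hf hfD cfe cfx e1 e2 hfe hfx
  have hfxD : f * x ∈ D := by rw [e2]; exact conj2_mem hD hx h.2.1
  obtain ⟨y, hy, hyx⟩ : ∃ y ∈ oddPartners D f, y ∉ oddPartners D x := by
    by_contra hne
    push Not at hne
    have heq : oddPartners D f = oddPartners D x := oddPartners_eq_of_subset hD hc hfD hx hne
    exact hnc (SameOdd.commute hD hc (hf.trans ⟨hfD, hx, heq⟩))
  have hxL : x ∈ LineSet D f y :=
    ⟨hx, cfx.symm, hfx.symm, hfxD, fun h' => hyx (oddPartners_symm hD hy.1 h')⟩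
  obtain ⟨k, hk, hkx⟩ := exists_lineSet_preimage hD hfD hy hxL
  have hkf : f ∉ oddPartners D k := fun h' => hk.2.2.2.2 (oddPartners_symm hD hk.1 h')
  have hkA : e ∉ oddPartners D k := by
    intro h'
    have h'' := oddPartners_symm hD hk.1 h'
    rw [hf.2.2] at h''
    exact hk.2.2.2.2 h''
  have hf' : k * f * k ∈ D := conj2_mem hD hfD hk.1
  have hfk : k * f * k = x * f := by
    rw [← hkx, sq]
    simp only [mul_assoc]
    rw [H65.mul_self_of_two (hD.orderOf_eq f hfD), mul_one]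
  refine hnc ?_
  have hcom : Commute e (k * f * k) := by
    refine commute_of_normalizes hD hc hf hf' ?_ ?_
    · rw [hfk]; exact cfx.symm.mul_left (Commute.refl f)
    · have hw : Commute (k * e * k) e := conj_commute_of_not_odd hD hk.1 hf.1 hkA
      have h1 : SameOdd D ((k * e * k) * e * (k * e * k)) ((k * e * k) * f * (k * e * k)) :=
        hf.conj2 hD (conj2_mem hD hf.1 hk.1)
      rw [hw.eq, mul_assoc e (k * e * k), H65.mul_self_of_two
        (hD.orderOf_eq _ (conj2_mem hD hf.1 hk.1)), mul_one] at h1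
      have h2 := (hf.symm.trans h1).conj2 hD hk.1
      have ik := H65.mul_self_of_two (hD.orderOf_eq k hk.1)
      rwa [show k * (k * e * k * f * (k * e * k)) * k = (k * k) * e * (k * f * k) * e * (k * k) by
        simp only [mul_assoc], ik, one_mul, mul_one] at h2
  rw [hfk] at hcom
  have := hcom.mul_right cfe.symm
  rwa [mul_assoc, H65.mul_self_of_two (hD.orderOf_eq f hfD), mul_one] at this

theorem oddPartners_subset_of_commuting_eq {d e : G} (hd : d ∈ D) (he : e ∈ D)
    (h : commutingMembers D d = commutingMembers D e) :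
    oddPartners D d ⊆ oddPartners D e := by
  intro x hx
  have hde : Commute d e := by
    have : d ∈ commutingMembers D e := h ▸ (⟨hd, rfl⟩ : d ∈ commutingMembers D d)
    exact this.2
  by_contra hxe
  have hnc : ¬ Commute e x := by
    intro hc
    have : x ∈ commutingMembers D d := h.symm ▸ (⟨hx.1, hc.symm.eq⟩ : x ∈ commutingMembers D e)
    exact not_commute_of_oddPartners hD hd hx (Commute.symm this.2)
  obtain ⟨hf, cfe, cfx, e1, e2⟩ := four_facts hD he hx.1 hxe hnc
  have hfd : Commute ((e * x) ^ 2) d := by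
    have : (e * x) ^ 2 ∈ commutingMembers D d := h.symm ▸ (⟨hf, cfe.eq⟩ : _ ∈ commutingMembers D e)
    exact this.2
  have hodd : Odd (orderOf (d * (x * (e * x) ^ 2))) := by
    have e3 : d * (x * (e * x) ^ 2) = MulAut.conj e (d * x) := by
      rw [MulAut.conj_apply, ← cfx.eq, e2, H65.inv_of_two (hD.orderOf_eq e he)]
      simp only [← mul_assoc]
      rw [hde.eq]
    rw [e3, MulEquiv.orderOf_eq]
    exact hx.2.2
  exact H65.ne_one_of_two (hD.orderOf_eq _ hf)
    (odd_central_eq_one hfd cfx (H65.mul_self_of_two (hD.orderOf_eq _ hf)) hx.2.2 hodd)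

end H98
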