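import Cfsg.Agent.H98.RootInvClass

/-! Lines of root involutions: movers and partners with product of order three. -/

set_option autoImplicit false

namespace H98

open Cfsg

variable {G : Type*} [Group G] {D : Set G}

variable (hD : IsRootInvolutionSet D)

include hD

theorem order_four_of_not_commute {a b : G} (ha : a ∈ D) (hb : b ∈ D) (hn : b ∉ oddPartners D a)
    (hc : ¬ Commute a b) : orderOf (a * b) = 4 := by
  have hne : b ≠ a := fun e => hc (by rw [e])
  rcases hD.pair a ha b hb with h | h | ⟨h, -⟩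
  · exact absurd h hc
  · exact absurd ⟨hb, hne, h⟩ hn
  · exact h

variable [Finite G] (hc : IsConnectedSet (OddAdj D) D)

include hc

theorem sameCommutingClass_iff {a b : G} (ha : a ∈ D) :
    b ∈ sameCommutingClass D a ↔ SameOdd D a b := by
  constructor
  · rintro ⟨hb, h⟩
    exact ⟨ha, hb, Set.Subset.antisymm (oddPartners_subset_of_commuting_eq hD ha hb h)
      (oddPartners_subset_of_commuting_eq hD hb ha h.symm)⟩
  · intro h
    exact ⟨h.2.1, Set.Subset.antisymm (commutingMembers_eq_of_sameOdd hD hc h)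
      (commutingMembers_eq_of_sameOdd hD hc h.symm)⟩

/-- A line `{a, b, a b}` outside the class of `a` has a mover fixing `b`. -/
theorem exists_line_mover {a b : G} (ha : a ∈ D) (hb : b ∈ productPartners D a)
    (hbE : b ∉ sameCommutingClass D a) :
    ∃ h ∈ D, h ∉ oddPartners D a ∧ ¬ Commute a h ∧ (a * h) ^ 2 = b := by
  obtain ⟨⟨hbD, hba, hne⟩, hmem⟩ := hb
  have hsub : ¬ oddPartners D a ⊆ oddPartners D b := fun h =>
    hbE ((sameCommutingClass_iff hD hc ha).2
      ⟨ha, hbD, oddPartners_eq_of_subset hD hc ha hbD h⟩)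
  obtain ⟨y, hy, hyb⟩ := Set.not_subset.1 hsub
  have hbL : b ∈ LineSet D a y :=
    ⟨hbD, hba, hne, by rw [← hba]; exact hmem, fun h => hyb (oddPartners_symm hD hy.1 h)⟩
  obtain ⟨h, hh, e⟩ := exists_lineSet_preimage hD ha hy hbL
  have hnc : ¬ Commute a h := fun hc' =>
    not_commute_line hD hy.1 (oddPartners_symm hD ha hy) hh.1 hh.2.1 hh.2.2.2.1 hc'.symm
  refine ⟨h, hh.1, hh.2.2.2.2, hnc, ?_⟩
  rw [← H65.inv_of_two (hD.orderOf_eq b hbD), ← e, ← inv_pow, mul_inv_rev,
    H65.inv_of_two (hD.orderOf_eq a ha), H65.inv_of_two (hD.orderOf_eq h hh.1)]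

/-- The two movers of a line generate a symmetric group of degree three on it. -/
theorem exists_line_movers {a b : G} (ha : a ∈ D) (hb : b ∈ productPartners D a)
    (hbE : b ∉ sameCommutingClass D a) :
    ∃ h ∈ fourPartners D a, ∃ w ∈ fourPartners D b,
      (a * h) ^ 2 = b ∧ (b * w) ^ 2 = h ∧ orderOf (a * w) = 3 := by
  have o := hD.orderOf_eq
  have hbD : b ∈ D := hb.1.1
  have hba : Commute b a := hb.1.2.1
  obtain ⟨h, hh, hhn, hhc, hbh⟩ := exists_line_mover hD hc ha hb hbE
  obtain ⟨-, -, chb, e1, e2⟩ := four_facts hD ha hh hhn hhc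
  rw [hbh] at chb e1 e2
  have hne : h ≠ b := fun e => hhc (e ▸ hba.symm)
  have hhX : h ∈ productPartners D b :=
    ⟨⟨hh, chb.symm.eq, hne⟩, by rw [← chb.eq, e2]; exact conj2_mem hD hh ha⟩
  have hhE : h ∉ sameCommutingClass D b := fun hE => by
    have : a ∈ commutingMembers D h := hE.2 ▸ (⟨ha, hba.symm.eq⟩ : a ∈ commutingMembers D b)
    exact hhc this.2
  obtain ⟨w, hw, hwn, hwc, hhw⟩ := exists_line_mover hD hc hbD hhX hhE
  obtain ⟨-, -, chw, f1, f2⟩ := four_facts hD hbD hw hwn hwc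
  rw [hhw] at chw f1 f2
  have hawc : ¬ Commute a w := fun hc' => hhc (by
    rw [← hhw]; exact (hba.symm.mul_right hc').pow_right 2)
  refine ⟨h, ⟨hh, order_four_of_not_commute hD ha hh hhn hhc⟩, w,
    ⟨hw, order_four_of_not_commute hD hbD hw hwn hwc⟩, hbh, hhw, ?_⟩
  have ia := H65.mul_self_of_two (o a ha)
  have iw := H65.mul_self_of_two (o w hw)
  obtain ⟨g, hg⟩ : ∃ g, g = a * w := ⟨_, rfl⟩
  have gb : g * b * g⁻¹ = h := by
    rw [hg, mul_inv_rev, H65.inv_of_two (o a ha), H65.inv_of_two (o w hw),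
      show a * w * b * (w * a) = a * (w * b * w) * a by group, ← f1,
      show a * (b * h) * a = (a * b * a) * (a * h * a) by
        simp only [mul_assoc]; rw [← mul_assoc a a, ia, one_mul],
      ← e2, ← hba.eq, mul_assoc b a a, ia, mul_one, ← mul_assoc,
      H65.mul_self_of_two (o b hbD), one_mul]
  have gh : g * h * g⁻¹ = b * h := by
    rw [hg, mul_inv_rev, H65.inv_of_two (o a ha), H65.inv_of_two (o w hw),
      show a * w * h * (w * a) = a * (w * h * w) * a by group, ← chw.eq, mul_assoc h w, iw,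
      mul_one, e2]
  have gbh : g * (b * h) * g⁻¹ = b := by
    rw [show g * (b * h) * g⁻¹ = (g * b * g⁻¹) * (g * h * g⁻¹) by group, gb, gh, ← mul_assoc,
      ← chb.eq, mul_assoc, H65.mul_self_of_two (o h hh), mul_one]
  have g3 : g ^ 3 * b * (g ^ 3)⁻¹ = b := by
    rw [show g ^ 3 * b * (g ^ 3)⁻¹ = g * (g * (g * b * g⁻¹) * g⁻¹) * g⁻¹ by
      simp only [pow_succ, pow_zero, one_mul, mul_inv_rev, mul_assoc], gb, gh, gbh]
  have hodd : w ∈ oddPartners D a := by
    by_contra hn
    have h4 : g ^ 4 = 1 := by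
      rw [hg, ← order_four_of_not_commute hD ha hw hn hawc, pow_orderOf_eq_one]
    apply hne
    rw [← gb]
    have e : g⁻¹ = g ^ 3 := inv_eq_of_mul_eq_one_right (by rw [← pow_succ']; exact h4)
    have e' : (g ^ 3)⁻¹ = g := by rw [← e, inv_inv]
    rw [e'] at g3
    calc g * b * g⁻¹ = g * (g ^ 3 * b * g) * g⁻¹ := by rw [g3]
      _ = g ^ 4 * b := by group
      _ = b := by rw [h4, one_mul]
  -- the conjugate of `a` under `g ^ 3` is `a`
  have haa : g ^ 3 * a * (g ^ 3)⁻¹ = a := by
    by_contra hne'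
    have hca : Commute b (g ^ 3 * a * (g ^ 3)⁻¹) := by
      have := (Commute.conj_iff (g ^ 3)).2 hba
      rwa [g3] at this
    have hflip : a * g ^ 3 * a = (g ^ 3)⁻¹ := by
      have e := H65.conj_prod (o a ha) (o w hw)
      rw [← hg, H65.inv_of_two (o a ha)] at e
      calc a * g ^ 3 * a = a * g * (a * a) * g * (a * a) * g * a := by
            simp only [ia, mul_one, pow_succ, pow_zero, one_mul, mul_assoc]
        _ = (a * g * a) * (a * g * a) * (a * g * a) := by group
        _ = (g ^ 3)⁻¹ := by rw [e]; group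
    have hord : Odd (orderOf (a * (g ^ 3 * a * (g ^ 3)⁻¹))) := by
      rw [← mul_assoc, ← mul_assoc, hflip, ← mul_inv_rev, ← pow_add, orderOf_inv, hg]
      exact hodd.2.2.of_dvd_nat (orderOf_pow_dvd _)
    refine not_commute_line hD ha ⟨hD.conj_mem a ha _, hne', hord⟩ hbD hba ?_ hca
    rw [← hba.eq]; exact hb.2
  have h6 : g ^ 6 = 1 := by
    have hcga : Commute (g ^ 3) a := mul_inv_eq_iff_eq_mul.1 haa
    have e := H65.conj_prod (o a ha) (o w hw)
    rw [← hg] at e
    have e3 : a * g ^ 3 * a⁻¹ = (g ^ 3)⁻¹ := by rw [← conj_pow, e, inv_pow]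
    rw [← hcga.eq, mul_inv_cancel_right, eq_inv_iff_mul_eq_one, ← pow_add] at e3
    exact e3
  rw [← hg]
  have hdvd : orderOf g ∣ 6 := orderOf_dvd_of_pow_eq_one h6
  have ho : Odd (orderOf g) := hg ▸ hodd.2.2
  have h1 : orderOf g ≠ 1 := fun e => hodd.2.1 (by
    rw [orderOf_eq_one_iff, hg, mul_eq_one_iff_eq_inv, H65.inv_of_two (o w hw)] at e
    exact e.symm)
  have hle := Nat.le_of_dvd (by norm_num) hdvd
  interval_cases h7 : orderOf g
  all_goals first | rfl | (exfalso; revert hdvd ho h1; decide)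

end H98
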