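import Cfsg.Agent.H98.DegSpecial

/-! Two commuting members with a common partner have the same relations once one inclusion holds. -/

set_option autoImplicit false

namespace H98

open Cfsg

variable {G : Type*} [Group G] {S : Set (Subgroup G)}

theorem commutator_self_bot' (hS : IsRootSubgroupSet S) {A : Subgroup G} (hA : A ∈ S) :
    ⁅A, A⁆ = ⊥ := by
  rw [Subgroup.commutator_eq_bot_iff_le_centralizer]
  intro x hx
  rw [Subgroup.mem_centralizer_iff]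
  exact fun y hy => (commute_of_mem hS hA hy hx).eq

theorem subset_of_common_partner (hS : IsRootSubgroupSet S) {A C Y : Subgroup G} (hA : A ∈ S)
    (hY : Y ∈ S) (hC : C ∈ S) (hr : IsRankOnePair A Y) (hr' : IsRankOnePair C Y)
    (hAC : ⁅A, C⁆ = ⊥) (hs : IsSpecialRankOnePair A Y) (hs' : IsSpecialRankOnePair C Y)
    (R : Subgroup G → Set (Subgroup G))
    (hR : ∀ g X Z, Z ∈ R X → conjBy Z g ∈ R (conjBy X g)) (hsub : R A ⊆ R C) :
    R C ⊆ R A := by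
  obtain ⟨a, ha, ha1⟩ := exists_mem_ne_one (hS.ne_bot A hA)
  obtain ⟨η, r⟩ := exists_rel hr ha ha1
  obtain ⟨c, r₂⟩ := exists_rel' hr' r.2.2.1 r.2.2.2.1
  have i₁ := (r.inv hs).2.2.2.2
  have i₂ := (r₂.inv hs').2.2.2.2
  rw [inv_inv, inv_inv] at i₁ i₂
  have cAC : ∀ x ∈ A, ∀ y ∈ C, Commute x y := fun x hx y hy =>
    commute_of_commutator_eq_bot hAC hx hy
  have trick : ∀ {a₁ c₁ η₁ : G}, a₁ ∈ A → c₁ ∈ C → conjBy Y a₁⁻¹ = conjBy A η₁⁻¹ →
      conjBy Y c₁⁻¹ = conjBy C η₁⁻¹ →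
      ⁅Y, conjBy Y (a₁ * c₁⁻¹)⁆ = ⊥ ∧ ⁅Y, conjBy Y (a₁⁻¹ * c₁)⁆ = ⊥ := by
    intro a₁ c₁ η₁ ha₁ hc₁ h1 h2
    have h3 := commutator_conj_eq_bot η₁⁻¹ hAC
    rw [← h1, ← h2] at h3
    constructor
    · have := commutator_conj_eq_bot a₁ h3
      rwa [conjBy_conjBy, mul_inv_cancel, conjBy_one, conjBy_conjBy] at this
    · have := commutator_conj_eq_bot c₁ h3
      rw [conjBy_conjBy, conjBy_conjBy, mul_inv_cancel, conjBy_one, Subgroup.commutator_comm] at this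
      rwa [← (cAC _ (A.inv_mem ha₁) c₁ hc₁).eq] at this
  obtain ⟨hw₁, hw₂⟩ := trick r.1 r₂.1 r.2.2.2.2.symm r₂.2.2.2.2.symm
  obtain ⟨q, hq⟩ : ∃ q, q = η * ((a * c⁻¹) * η⁻¹ * (a * c⁻¹)⁻¹) := ⟨_, rfl⟩
  have hwA : ∀ x ∈ A, Commute (a * c⁻¹) x := fun x hx =>
    (commute_of_mem hS hA ha hx).mul_left (cAC x hx c r₂.1).symm.inv_left
  have hqY : ∀ y ∈ Y, Commute q y := fun y hy =>
    hq ▸ (commute_of_mem hS hY r.2.2.1 hy).mul_left
      (commute_of_commutator_eq_bot hw₁ hy (conj_mem_conjBy _ (Y.inv_mem r.2.2.1))).symm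
  have hqA : conjBy A q = C := by
    rw [hq, show η * ((a * c⁻¹) * η⁻¹ * (a * c⁻¹)⁻¹) = η * (a * c⁻¹) * η⁻¹ * (a * c⁻¹)⁻¹ by group,
      ← conjBy_conjBy (g := η * (a * c⁻¹) * η⁻¹),
      conjBy_eq_of_commute fun x hx => (hwA x hx).inv_left,
      ← conjBy_conjBy (g := η * (a * c⁻¹)), r.2.2.2.2, conjBy_conjBy,
      show η * (a * c⁻¹) * a⁻¹ = η * c⁻¹ by
        rw [(cAC a ha c⁻¹ (C.inv_mem r₂.1)).eq]; group,
      ← conjBy_conjBy, ← r₂.2.2.2.2, conjBy_conjBy, mul_inv_cancel, conjBy_one]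
  have qconj : ∀ x η₁ : G, η₁ ∈ Y → conjBy Y x⁻¹ = conjBy A η₁⁻¹ →
      conjBy Y (q * x * q⁻¹)⁻¹ = conjBy C η₁⁻¹ := by
    intro x η₁ hη₁ h
    have h1 : conjBy (conjBy Y x⁻¹) q = conjBy (conjBy A η₁⁻¹) q := by rw [h]
    rw [conjBy_conjBy, conjBy_conjBy, (hqY _ (Y.inv_mem hη₁)).eq, ← conjBy_conjBy (g := η₁⁻¹),
      hqA] at h1
    rw [← h1, show (q * x * q⁻¹)⁻¹ = q * x⁻¹ * q⁻¹ by group, ← conjBy_conjBy,
      conjBy_eq_of_commute fun y hy => (hqY y hy).inv_left]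
  have hqa : q * a * q⁻¹ = c := by
    have h1 := qconj a η r.2.2.1 r.2.2.2.2.symm
    rw [r₂.2.2.2.2] at h1
    exact inv_injective (eq_of_conjBy_right_eq hr'
      (C.inv_mem (hqA ▸ conj_mem_conjBy q ha)) (C.inv_mem r₂.1) h1)
  have hsq : ⁅Y, conjBy Y (a⁻¹ * a⁻¹ * (c * c))⁆ = ⊥ := by
    by_cases h2 : a * a = 1
    · rw [← mul_inv_rev, h2, show c * c = q * (a * a) * q⁻¹ by rw [← hqa]; group, h2,
        show (1 : G)⁻¹ * (q * 1 * q⁻¹) = 1 by group, conjBy_one, commutator_self_bot' hS hY]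
    · obtain ⟨η₂, rr⟩ := exists_rel hr (A.mul_mem ha ha) h2
      have h4 := qconj _ η₂ rr.2.2.1 rr.2.2.2.2.symm
      rw [show q * (a * a) * q⁻¹ = c * c by rw [← hqa]; group] at h4
      have h5 := (trick rr.1 (C.mul_mem r₂.1 r₂.1) rr.2.2.2.2.symm h4).2
      rwa [mul_inv_rev] at h5
  obtain ⟨Z, hZ⟩ : ∃ Z, Z = conjBy Y (η * a⁻¹ * a⁻¹ * c) := ⟨_, rfl⟩
  have backA : conjBy Y (η * a⁻¹) = A := by
    rw [← conjBy_conjBy, ← r.2.2.2.2, conjBy_conjBy, mul_inv_cancel, conjBy_one]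
  have backC : conjBy Y (η * c⁻¹) = C := by
    rw [← conjBy_conjBy, ← r₂.2.2.2.2, conjBy_conjBy, mul_inv_cancel, conjBy_one]
  have hZA : ⁅A, Z⁆ = ⊥ := by
    have h := commutator_conj_eq_bot (η * a⁻¹) hw₂
    rwa [backA, conjBy_conjBy, ← mul_assoc, ← hZ] at h
  have hZC : ⁅C, Z⁆ = ⊥ := by
    have h := commutator_conj_eq_bot (η * c⁻¹) hsq
    rw [backC, conjBy_conjBy] at h
    have e : η * c⁻¹ * (a⁻¹ * a⁻¹ * (c * c)) = η * a⁻¹ * a⁻¹ * c := by
      have h1 : Commute c⁻¹ (a⁻¹ * a⁻¹) :=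
        ((cAC _ (A.inv_mem ha) _ (C.inv_mem r₂.1)).symm).mul_right
          (cAC _ (A.inv_mem ha) _ (C.inv_mem r₂.1)).symm
      calc η * c⁻¹ * (a⁻¹ * a⁻¹ * (c * c)) = η * (c⁻¹ * (a⁻¹ * a⁻¹)) * (c * c) := by group
        _ = _ := by rw [h1.eq]; group
    rwa [e, ← hZ] at h
  have fixZA : ∀ x ∈ A, conjBy Z x = Z := fun x hx =>
    conjBy_eq_of_commute fun z hz => commute_of_commutator_eq_bot hZA hx hz
  have fixZC : ∀ x ∈ C, conjBy Z x = Z := fun x hx =>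
    conjBy_eq_of_commute fun z hz => commute_of_commutator_eq_bot hZC hx hz
  obtain ⟨m, hm⟩ : ∃ m, m = a⁻¹ * η * a⁻¹ := ⟨_, rfl⟩
  have hmA : conjBy A m = Y := by
    rw [hm, ← conjBy_conjBy (g := a⁻¹ * η), conjBy_self (A.inv_mem ha),
      ← conjBy_conjBy (g := a⁻¹), i₁, conjBy_conjBy, inv_mul_cancel, conjBy_one]
  have hmY : conjBy Y m = A := by
    rw [hm, mul_assoc, ← conjBy_conjBy (g := a⁻¹), backA, conjBy_self (A.inv_mem ha)]
  have hgA : conjBy A (m * m) = A := by rw [← conjBy_conjBy, hmA, hmY]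
  have hgC : conjBy C (m * m) = Z := by
    have h1 : conjBy C m = conjBy Y (a⁻¹ * c) := by
      rw [hm, ← conjBy_conjBy (g := a⁻¹ * η),
        conjBy_eq_of_commute fun x hx => cAC _ (A.inv_mem ha) x hx, ← conjBy_conjBy (g := a⁻¹),
        i₂, conjBy_conjBy]
    rw [← conjBy_conjBy, h1, conjBy_conjBy, hm,
      show a⁻¹ * η * a⁻¹ * (a⁻¹ * c) = a⁻¹ * (η * a⁻¹ * a⁻¹ * c) by group,
      ← conjBy_conjBy (g := a⁻¹), ← hZ, fixZA _ (A.inv_mem ha)]
  have hqZ : conjBy (conjBy Y a⁻¹) (η * (c * a⁻¹)) = Z := by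
    rw [conjBy_conjBy,
      show η * (c * a⁻¹) * a⁻¹ = η * a⁻¹ * a⁻¹ * c by
        rw [← (cAC _ (A.inv_mem ha) c r₂.1).eq, mul_assoc η (a⁻¹ * c), mul_assoc a⁻¹ c,
          ← (cAC _ (A.inv_mem ha) c r₂.1).eq]
        group,
      ← hZ]
  have hqinv : conjBy A q⁻¹ = Z := by
    rw [hq, show (η * ((a * c⁻¹) * η⁻¹ * (a * c⁻¹)⁻¹))⁻¹ =
      a * (c⁻¹ * (η * (c * a⁻¹) * η⁻¹)) by group, ← conjBy_conjBy (g := a),
      ← conjBy_conjBy (g := c⁻¹), ← conjBy_conjBy (g := η * (c * a⁻¹)), r.2.2.2.2, hqZ,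
      fixZC _ (C.inv_mem r₂.1), fixZA a ha]
  intro X hX
  have h1 : conjBy X q⁻¹ ∈ R A := by
    have := hR q⁻¹ C X hX
    rwa [← hqA, conjBy_conjBy, inv_mul_cancel, conjBy_one] at this
  have h2 : conjBy (conjBy X q⁻¹) (m * m)⁻¹ ∈ R A := by
    have := hR (m * m)⁻¹ A _ h1
    rwa [show conjBy A (m * m)⁻¹ = A from (conjBy_eq_iff.1 hgA).symm] at this
  have h3 : conjBy X q⁻¹ ∈ R Z := by
    have := hR (m * m) C _ (hsub h2)
    rwa [hgC, conjBy_conjBy (g := m * m), mul_inv_cancel, conjBy_one] at this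
  have h4 := hR q Z _ h3
  rwa [← hqinv, conjBy_conjBy, conjBy_conjBy, mul_inv_cancel, conjBy_one, conjBy_one] at h4

theorem rankOnePartners_conj (hS : IsRootSubgroupSet S) (g : G) (X Z : Subgroup G)
    (h : Z ∈ rankOnePartners S X) : conjBy Z g ∈ rankOnePartners S (conjBy X g) :=
  ⟨hS.conj_mem Z h.1 g, isRankOnePair_conj h.2 g⟩

theorem centralizingMembers_conj (hS : IsRootSubgroupSet S) (g : G) (X Z : Subgroup G)
    (h : Z ∈ centralizingMembers S X) : conjBy Z g ∈ centralizingMembers S (conjBy X g) :=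
  ⟨hS.conj_mem Z h.1 g, Subgroup.commutator_eq_bot_iff_le_centralizer.1
    (commutator_conj_eq_bot g (Subgroup.commutator_eq_bot_iff_le_centralizer.2 h.2))⟩

section Nondeg

variable (hS : IsRootSubgroupSet S) (hF : ∀ A ∈ S, ¬ IsIsolatedIn (FAdj S) S A)

include hS hF

/-- A member commuting with `A` and all its line partners shares a rank one partner with `A`. -/
theorem exists_common_partner (hline : ∀ A ∈ S, ∃ C, C ∈ linePartners S A)
    (hconj : IsConjClassOfSubgroups S) {A C : Subgroup G} (hA : A ∈ S) (hC : C ∈ S)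
    (hAC : ⁅A, C⁆ = ⊥) (hΛ : ∀ E ∈ linePartners S A, ⁅E, C⁆ = ⊥) :
    ∃ Y ∈ S, IsRankOnePair A Y ∧ IsRankOnePair C Y := by
  obtain ⟨Y, hY, hr⟩ := exists_partner_of_not_isolated hA (hF A hA)
  refine ⟨Y, hY, hr, ?_⟩
  rcases hS.pair C hC Y hY with h | h | h
  · exfalso
    obtain ⟨T, hT, hrT⟩ := exists_partner_of_not_isolated hC (hF C hC)
    refine commutator_ne_bot_of_rankOne hS hC hT hrT (eq_bot_iff.2 ?_)
    refine (Subgroup.commutator_mono le_rfl le_top).trans (le_of_eq ?_)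
    rw [← linePartners_generate hS hF hline hconj hA hY hr, Subgroup.commutator_comm,
      Subgroup.commutator_eq_bot_iff_le_centralizer]
    exact sup_le (iSup₂_le fun E hE => Subgroup.commutator_eq_bot_iff_le_centralizer.1 (hΛ E hE))
      (Subgroup.commutator_eq_bot_iff_le_centralizer.1 (by rw [Subgroup.commutator_comm]; exact h))
  · exact h
  exfalso
  obtain ⟨L, hL⟩ : ∃ L, L = ⁅C, Y⁆ := ⟨_, rfl⟩
  have hLS : L ∈ S := hL ▸ h.1
  have cLY : ∀ l ∈ L, ∀ y ∈ Y, Commute l y := fun l hl y hy =>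
    h.2.1 l (hL ▸ hl) y (Subgroup.mem_sup_right hy)
  have cLC : ∀ l ∈ L, ∀ y ∈ C, Commute l y := fun l hl y hy =>
    h.2.1 l (hL ▸ hl) y (Subgroup.mem_sup_left hy)
  obtain ⟨c, hc, hc1⟩ := exists_mem_ne_one (hS.ne_bot C hC)
  obtain ⟨y, hy, hy1⟩ := exists_mem_ne_one (hS.ne_bot Y hY)
  obtain ⟨l, hl, hl1⟩ := exists_mem_ne_one (hS.ne_bot L hLS)
  rcases hS.pair A hA L hLS with hAL | hAL | hAL
  · obtain ⟨x, hx, hxe⟩ := exists_conj_eq_mul (rootCommutatorCase_symm h) hy hy1 (z := l)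
      (by rw [Subgroup.commutator_comm, ← hL]; exact hl)
    refine not_rootElement_mul hS hA (RankOnePair_symm hr)
      (mem_centralizer_sup (cLY l hl) fun a ha => (commute_of_commutator_eq_bot hAL ha hl).symm)
      hl1 hy hy1 ⟨?_, conjBy Y x, hS.conj_mem Y hY x, ?_⟩
    · rw [(cLY l hl y hy).eq, ← hxe]; exact fun e => hy1 (conj_eq_one_iff.1 e)
    · rw [(cLY l hl y hy).eq, ← hxe]; exact conj_mem_conjBy x hy
  · obtain ⟨x, hx, hxe⟩ := exists_conj_eq_mul h hc hc1 (z := l) (hL ▸ hl)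
    refine not_rootElement_mul hS hA (RankOnePair_symm hAL)
      (mem_centralizer_sup (fun z hz => (cLC z hz c hc).symm)
        fun a ha => (commute_of_commutator_eq_bot hAC ha hc).symm)
      hc1 hl hl1 ⟨?_, conjBy C x, hS.conj_mem C hC x, ?_⟩
    · rw [← hxe]; exact fun e => hc1 (conj_eq_one_iff.1 e)
    · rw [← hxe]; exact conj_mem_conjBy x hc
  obtain ⟨-, -, hsplit⟩ := nonPartner_aux hS hF hA hY hC hr hAC h (hL ▸ hAL)
  obtain ⟨N, hN⟩ : ∃ N, N = ⁅A, L⁆ := ⟨_, rfl⟩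
  rw [← hL, ← hN] at hsplit
  have hNL : N ∈ linePartners S A := hN ▸ (linePartner_of_commutatorCase hS hF hA hLS hAL).2
  obtain ⟨u, n, hn, hcn, huA, huY⟩ := hsplit c hc
  have hn1 : n ≠ 1 := by
    rintro rfl
    rw [one_mul] at hcn
    exact hc1 (eq_one_of_centralizes hS h hc (hcn ▸ huY))
  have hAN := linePartners_symm hA hNL
  obtain ⟨W, hW, hNW, hNWA⟩ := exists_commutatorCase_line hS hF hNL.1.1 hAN
  have hWL : W ∈ linePartners S A := by
    have := (linePartner_of_commutatorCase hS hF hW hNL.1.1 (rootCommutatorCase_symm hNW)).1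
    rwa [Subgroup.commutator_comm, hNWA] at this
  obtain ⟨W₀, hW₀, -, hline₀, hW₀Y, hAC₀, hW₀eq, -⟩ := exists_nonPartner hS hF hA hWL hY hr
  have hW₀L : W₀ ∈ linePartners S A :=
    hW₀eq ▸ (linePartner_of_commutatorCase hS hF hA hW₀Y.1 hAC₀).2
  have cA : ∀ E ∈ linePartners S A, ∀ e ∈ E, ∀ a ∈ A, Commute e a := fun E hE e he a ha =>
    (commute_of_commutator_eq_bot hE.1.2.2 ha he).symm
  -- some element of `W₀` moves `n`
  obtain ⟨w₀, hw₀, hmove⟩ : ∃ w₀ ∈ W₀, w₀ * n * w₀⁻¹ * n⁻¹ ≠ 1 := by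
    by_contra hcon
    push Not at hcon
    refine hn1 (eq_one_of_centralizes hS hNW hn fun w hw => ?_)
    have hle : A ⊔ W₀ ≤ Subgroup.centralizer {n} :=
      sup_le (fun a ha => Subgroup.mem_centralizer_singleton_iff.2 (cA N hNL n hn a ha).symm.eq)
        fun w hw => Subgroup.mem_centralizer_singleton_iff.2
          (mul_inv_eq_iff_eq_mul.1 (mul_inv_eq_one.1 (hcon w hw)))
    rw [hline₀] at hle
    exact (Subgroup.mem_centralizer_singleton_iff.1 (hle (Subgroup.mem_sup_right hw))).symm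
  obtain ⟨a', ha'def⟩ : ∃ x, x = w₀ * n * w₀⁻¹ * n⁻¹ := ⟨_, rfl⟩
  rw [← ha'def] at hmove
  have ha' : a' ∈ A := by
    obtain ⟨a₂, ha₂, w₂, hw₂, hw⟩ := mem_sup_of_commute
      (fun a ha w hw => (cA W hWL w hw a ha).symm)
      (show w₀ ∈ A ⊔ W by rw [← hline₀]; exact Subgroup.mem_sup_right hw₀)
    rw [ha'def, hw, show a₂ * w₂ * n * (a₂ * w₂)⁻¹ * n⁻¹ =
      a₂ * (w₂ * n * w₂⁻¹ * n⁻¹) * (n * a₂⁻¹ * n⁻¹) by group,
      show n * a₂⁻¹ * n⁻¹ = a₂⁻¹ by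
        rw [(cA N hNL n hn a₂⁻¹ (A.inv_mem ha₂)).eq, mul_inv_cancel_right]]
    refine A.mul_mem (A.mul_mem ha₂ ?_) (A.inv_mem ha₂)
    rw [← hNWA, Subgroup.commutator_comm]
    exact Subgroup.commutator_mem_commutator hw₂ hn
  have hcfix : w₀ * c * w₀⁻¹ = c := by
    rw [(commute_of_commutator_eq_bot (hΛ W₀ hW₀L) hw₀ hc).eq, mul_inv_cancel_right]
  have hu' : u * w₀ * u⁻¹ = a' * w₀ := by
    have h1 : a' * n * (w₀ * u * w₀⁻¹) = n * u := by
      calc a' * n * (w₀ * u * w₀⁻¹) = w₀ * (n * u) * w₀⁻¹ := by rw [ha'def]; group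
        _ = n * u := by rw [← hcn, hcfix]
    have h2 : a' * (w₀ * u * w₀⁻¹) = u := by
      apply mul_left_cancel (a := n)
      rw [← h1, ← mul_assoc, (cA N hNL n hn a' ha').eq]
    calc u * w₀ * u⁻¹ = (a' * (w₀ * u * w₀⁻¹)) * w₀ * u⁻¹ := by rw [h2]
      _ = a' * w₀ := by group
  obtain ⟨cw, hcw⟩ : ∃ cw, cw = w₀ * y * w₀⁻¹ * y⁻¹ := ⟨_, rfl⟩
  have hcwC : cw ∈ ⁅W₀, Y⁆ := hcw ▸ Subgroup.commutator_mem_commutator hw₀ hy
  have hcwY : ∀ z ∈ Y, Commute cw z := fun z hz =>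
    hW₀Y.2.1 cw hcwC z (Subgroup.mem_sup_right hz)
  obtain ⟨w', hw'def⟩ : ∃ x, x = cw⁻¹ * a' * cw * a'⁻¹ := ⟨_, rfl⟩
  obtain ⟨x, hxdef⟩ : ∃ x, x = a' * y * a'⁻¹ * y⁻¹ := ⟨_, rfl⟩
  have hw' : w' ∈ W₀ := by
    rw [hw'def, ← hW₀eq, Subgroup.commutator_comm]
    simpa [commutatorElement_def] using
      Subgroup.commutator_mem_commutator (H₁ := ⁅W₀, Y⁆) (H₂ := A) (Subgroup.inv_mem _ hcwC) ha'
  have hkey : ∀ z ∈ Y, Commute (w' * x) z := by
    intro z hz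
    have e : u * cw * u⁻¹ = cw * (w' * x) := by
      calc u * cw * u⁻¹ = (u * w₀ * u⁻¹) * (u * y * u⁻¹) * (u * w₀ * u⁻¹)⁻¹ * (u * y * u⁻¹)⁻¹ := by
            rw [hcw]; group
        _ = (a' * w₀) * y * (a' * w₀)⁻¹ * y⁻¹ := by
            rw [hu', show u * y * u⁻¹ = y by rw [(huY y hy).eq, mul_inv_cancel_right]]
        _ = cw * (w' * x) := by rw [hw'def, hxdef, hcw]; group
    have h1 : Commute (u * cw * u⁻¹) z :=
      (((huY z hz).mul_left (hcwY z hz)).mul_left (huY z hz).inv_left)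
    rw [e] at h1
    have h2 := (hcwY z hz).inv_left.mul_left h1
    rwa [inv_mul_cancel_left] at h2
  have hxX : x ∈ A ⊔ Y := hxdef ▸ Subgroup.mul_mem _ (Subgroup.mul_mem _ (Subgroup.mul_mem _
    (Subgroup.mem_sup_left ha') (Subgroup.mem_sup_right hy))
    (Subgroup.mem_sup_left (A.inv_mem ha'))) (Subgroup.mem_sup_right (Y.inv_mem hy))
  have hxY : conjBy Y x = Y := by
    have h1 : conjBy Y x = conjBy Y w'⁻¹ := by
      conv_rhs => rw [← conjBy_eq_of_commute hkey, conjBy_conjBy, inv_mul_cancel_left]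
    have h2 := conjBy_left_le (rootCommutatorCase_symm hW₀Y) (b := w'⁻¹) (W₀.inv_mem hw')
    rw [← h1] at h2
    by_contra hne
    refine not_commute_of_unipotent hr (right_mem_unipotent hr)
      (conjBy_mem_unipotent hr (right_mem_unipotent hr) hxX) (Ne.symm hne) hy hy1
      (conj_mem_conjBy x hy) (fun e => hy1 (conj_eq_one_iff.1 e)) ?_
    have hle : Y ⊔ ⁅Y, W₀⁆ ≤ Subgroup.centralizer {y} := by
      refine sup_le (fun z hz => Subgroup.mem_centralizer_singleton_iff.2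
        (commute_of_mem hS hY hz hy).eq) fun z hz => Subgroup.mem_centralizer_singleton_iff.2 ?_
      rw [Subgroup.commutator_comm] at hz
      exact (hW₀Y.2.1 z hz y (Subgroup.mem_sup_right hy))
    exact (Subgroup.mem_centralizer_singleton_iff.1 (hle (h2 (conj_mem_conjBy x hy)))).symm
  -- so `y` fixes a point other than `Y`
  have hP : conjBy (conjBy Y a'⁻¹) y = conjBy Y a'⁻¹ := by
    have h1 : conjBy Y (a' * y * a'⁻¹) = Y := by
      rw [show a' * y * a'⁻¹ = x * y by rw [hxdef]; group, ← conjBy_conjBy, conjBy_self hy, hxY]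
    rw [conjBy_conjBy]
    conv_rhs => rw [← h1, conjBy_conjBy]
    congr 1; group
  have hr' := RankOnePair_symm hr
  have hPm : conjBy Y a'⁻¹ ∈ unipotentSubgroups Y A := conjBy_mem_unipotent hr'
    (left_mem_unipotent hr') (Subgroup.mem_sup_right (A.inv_mem ha'))
  have hPne : conjBy Y a'⁻¹ ≠ Y := fun e =>
    hmove (inv_eq_one.1 (eq_one_of_conjBy_right_eq hr (A.inv_mem ha') e))
  obtain ⟨v, -, hv⟩ := existsUnique_regular hr' hPm hPm hPne hPne
  exact hy1 ((hv y ⟨hy, hP⟩).trans (hv 1 ⟨Y.one_mem, conjBy_one _⟩).symm)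

/-- Members in the commutator case do not have nested rank one partner sets. -/
theorem not_subset_of_commutatorCase {A C : Subgroup G} (hA : A ∈ S) (hC : C ∈ S)
    (h : RootCommutatorCase S A C) : ¬ rankOnePartners S A ⊆ rankOnePartners S C := by
  intro hsub
  obtain ⟨K, hK⟩ : ∃ K, K = ⁅A, C⁆ := ⟨_, rfl⟩
  have hKS : K ∈ S := hK ▸ h.1
  have h' := rootCommutatorCase_symm h
  have hKC : K ∈ linePartners S C := by
    have := (linePartner_of_commutatorCase hS hF hC hA h').2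
    rwa [Subgroup.commutator_comm, ← hK] at this
  have hKA : K ∈ linePartners S A := hK ▸ (linePartner_of_commutatorCase hS hF hA hC h).2
  have noKD : ∀ D ∈ S, IsRankOnePair A D → ¬ IsRankOnePair K D := by
    intro D hD hr hKD
    obtain ⟨E, hE, -, hl, h1, -, -, -⟩ := exists_nonPartner hS hF hC hKC hD (hsub ⟨hD, hr⟩).2
    have hle : E ≤ C ⊔ ⁅C, A⁆ := by
      rw [Subgroup.commutator_comm, ← hK, ← hl]; exact le_sup_right
    have hED : ¬ IsRankOnePair E D := ne_rankOne_of_rootCommutatorCase hS hE hD h1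
    rcases line_members hS hF hC hA h' hE hle with e | ⟨a, ha, e⟩
    · rw [Subgroup.commutator_comm, ← hK] at e
      exact hED (e ▸ hKD)
    · apply hED
      have h2 : IsRankOnePair A (conjBy D a⁻¹) := by
        have := isRankOnePair_conj hr a⁻¹
        rwa [conjBy_self (A.inv_mem ha)] at this
      have h3 := isRankOnePair_conj (hsub ⟨hS.conj_mem D hD _, h2⟩).2 a
      rwa [conjBy_conjBy, mul_inv_cancel, conjBy_one, ← e] at h3
  obtain ⟨W, hW, hKW, hKWA⟩ := exists_commutatorCase_line hS hF hKS (linePartners_symm hA hKA)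
  obtain ⟨D, hD, hr⟩ := exists_partner_of_not_isolated hA (hF A hA)
  obtain ⟨w, hw, hw1⟩ := exists_mem_ne_one (hS.ne_bot W hW)
  have hAW : ∀ z ∈ W, conjBy A z = A := fun z hz =>
    hKWA ▸ conjBy_commutator hKW (Subgroup.mem_sup_right hz)
  have hn1 : ¬ IsRankOnePair (conjBy K w) D := by
    intro h1
    have h2 := isRankOnePair_conj hr w⁻¹
    rw [hAW _ (W.inv_mem hw)] at h2
    have h3 := isRankOnePair_conj h1 w⁻¹
    rw [conjBy_conjBy, inv_mul_cancel, conjBy_one] at h3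
    exact noKD _ (hS.conj_mem D hD _) h2 h3
  obtain ⟨E, hE, -, hl, h1, h2, h3, huniq⟩ := exists_nonPartner hS hF hA hKA hD hr
  have hEK : E = K := huniq (noKD D hD hr)
  have hle : conjBy K w ≤ A ⊔ ⁅A, ⁅E, D⁆⁆ := by
    rw [h3, hl, sup_comm, ← hKWA]
    exact conjBy_left_le hKW hw
  rcases line_members hS hF hA h1.1 h2 (hS.conj_mem K hKS w) hle with e | ⟨c, hc, e⟩
  · rw [h3, hEK] at e
    refine hw1 (eq_one_of_centralizes hS (rootCommutatorCase_symm hKW) hw fun k hk => ?_)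
    have h5 : w * k * w⁻¹ * k⁻¹ ∈ K := K.mul_mem (by
      have := conj_mem_conjBy w hk; rwa [e] at this) (K.inv_mem hk)
    have h6 : w * k * w⁻¹ * k⁻¹ ∈ A := by
      rw [← hKWA, Subgroup.commutator_comm]; exact Subgroup.commutator_mem_commutator hw hk
    exact mul_inv_eq_iff_eq_mul.1 (mul_inv_eq_one.1 (by_contra fun hne =>
      hKA.1.2.1 (eq_of_mem_inter hS hF hKS hA h5 h6 hne)))
  · apply hn1
    have h4 := isRankOnePair_conj hr c
    rwa [conjBy_eq_of_commute fun z hz => h1.2.1 c hc z (Subgroup.mem_sup_right hz), ← e] at h4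

end Nondeg

end H98
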