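import Cfsg.Agent.H98.SubFamily
import Cfsg.Prelude.Def_Classical

/-! Siegel transvection groups of singular lines as abstract root subgroups. -/

set_option autoImplicit false

namespace H98

open Cfsg Matrix

variable (F : Type*) [Field F] (N : ℕ)

/-- The isometry group of the hyperbolic form. -/
abbrev OPlus : Subgroup (Matrix.GeneralLinearGroup (Fin N ⊕ Fin N) F) :=
  Cfsg.isometryGroup F (Cfsg.quadFormPlus N F)

/-- Vectors of the hyperbolic space. -/
abbrev HV : Type _ := Fin N ⊕ Fin N → F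

/-- The polar form as a vector. -/
def bvec (p : HV F N) : HV F N := fun i => p i.swap

variable {F N}

/-- The matrix of a group element. -/
def omat (g : OPlus F N) : Matrix (Fin N ⊕ Fin N) (Fin N ⊕ Fin N) F :=
  ((g : Matrix.GeneralLinearGroup (Fin N ⊕ Fin N) F) : Matrix (Fin N ⊕ Fin N) (Fin N ⊕ Fin N) F)

theorem omat_mul (g g' : OPlus F N) (v : HV F N) :
    omat (g * g') *ᵥ v = omat g *ᵥ (omat g' *ᵥ v) := by
  rw [Matrix.mulVec_mulVec]; rfl

theorem omat_one (v : HV F N) : omat (1 : OPlus F N) *ᵥ v = v := Matrix.one_mulVec v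

theorem oext {g g' : OPlus F N} (h : ∀ v, omat g *ᵥ v = omat g' *ᵥ v) : g = g' :=
  Subtype.ext (Units.ext (Matrix.ext_iff_mulVec.2 h))

/-- The polar form. -/
def pb (u v : HV F N) : F :=
  ∑ i : Fin N, (u (.inl i) * v (.inr i) + u (.inr i) * v (.inl i))

theorem pb_comm (u v : HV F N) : pb u v = pb v u :=
  Finset.sum_congr rfl fun i _ => by ring

theorem pb_add_left (u u' v : HV F N) : pb (u + u') v = pb u v + pb u' v := by
  rw [pb, pb, pb, ← Finset.sum_add_distrib]
  exact Finset.sum_congr rfl fun i _ => by simp; ring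

theorem pb_smul_left (c : F) (u v : HV F N) : pb (c • u) v = c * pb u v := by
  rw [pb, pb, Finset.mul_sum]
  exact Finset.sum_congr rfl fun i _ => by simp; ring

theorem pb_neg_left (u v : HV F N) : pb (-u) v = -pb u v := by
  rw [← neg_one_smul F u, pb_smul_left, neg_one_mul]

theorem pb_sub_left (u u' v : HV F N) : pb (u - u') v = pb u v - pb u' v := by
  rw [sub_eq_add_neg, pb_add_left, pb_neg_left, sub_eq_add_neg]

theorem pb_zero_left (v : HV F N) : pb 0 v = 0 := by
  rw [← zero_smul F v, pb_smul_left, zero_mul]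

theorem pb_add_right (u v v' : HV F N) : pb u (v + v') = pb u v + pb u v' := by
  rw [pb_comm, pb_add_left, pb_comm v, pb_comm v']

theorem pb_smul_right (c : F) (u v : HV F N) : pb u (c • v) = c * pb u v := by
  rw [pb_comm, pb_smul_left, pb_comm]

theorem pb_neg_right (u v : HV F N) : pb u (-v) = -pb u v := by
  rw [pb_comm, pb_neg_left, pb_comm]

theorem pb_sub_right (u v v' : HV F N) : pb u (v - v') = pb u v - pb u v' := by
  rw [pb_comm, pb_sub_left, pb_comm v, pb_comm v']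

theorem pb_zero_right (v : HV F N) : pb v 0 = 0 := by rw [pb_comm, pb_zero_left]

theorem Q_add (u v : HV F N) :
    quadFormPlus N F (u + v) = quadFormPlus N F u + quadFormPlus N F v + pb u v := by
  rw [quadFormPlus, quadFormPlus, quadFormPlus, pb, ← Finset.sum_add_distrib,
    ← Finset.sum_add_distrib]
  exact Finset.sum_congr rfl fun i _ => by simp; ring

theorem Q_smul (c : F) (u : HV F N) : quadFormPlus N F (c • u) = c * c * quadFormPlus N F u := by
  rw [quadFormPlus, quadFormPlus, Finset.mul_sum]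
  exact Finset.sum_congr rfl fun i _ => by simp; ring

theorem Q_neg (u : HV F N) : quadFormPlus N F (-u) = quadFormPlus N F u := by
  rw [← neg_one_smul F u, Q_smul]; ring

theorem Q_sub (u v : HV F N) :
    quadFormPlus N F (u - v) = quadFormPlus N F u + quadFormPlus N F v - pb u v := by
  rw [sub_eq_add_neg, Q_add, Q_neg, pb_neg_right]; ring

theorem pb_self (u : HV F N) : pb u u = 2 * quadFormPlus N F u := by
  rw [pb, quadFormPlus, Finset.mul_sum]
  exact Finset.sum_congr rfl fun i _ => by ring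

theorem bvec_dot (p v : HV F N) : bvec F N p ⬝ᵥ v = pb v p := by
  simp only [bvec, dotProduct, pb, Fintype.sum_sum_type, Sum.swap_inl, Sum.swap_inr,
    ← Finset.sum_add_distrib]
  exact Finset.sum_congr rfl fun i _ => by ring

theorem eq_zero_of_pb {z : HV F N} (h : ∀ v, pb v z = 0) : z = 0 := by
  classical
  funext i
  have := h (Pi.single i.swap 1)
  rw [← bvec_dot, dotProduct_single_one] at this
  simpa [bvec] using this

theorem pb_map (g : OPlus F N) (u v : HV F N) : pb (omat g *ᵥ u) (omat g *ᵥ v) = pb u v := by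
  have hQ : ∀ w, quadFormPlus N F (omat g *ᵥ w) = quadFormPlus N F w := fun w => g.2 w w
  have h := hQ (u + v)
  rw [Matrix.mulVec_add, Q_add, Q_add, hQ, hQ] at h
  exact add_left_cancel h

theorem Q_map (g : OPlus F N) (w : HV F N) :
    quadFormPlus N F (omat g *ᵥ w) = quadFormPlus N F w := g.2 w w

/-- Vectors with prescribed polar values on an independent family. -/
theorem exists_pb_eq {κ : Type*} [Fintype κ] {b : κ → HV F N} (hb : LinearIndependent F b)
    (c : κ → F) : ∃ w, ∀ i, pb w (b i) = c i := by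
  classical
  obtain ⟨g, hg⟩ := LinearMap.exists_leftInverse_of_injective (Finsupp.linearCombination F b)
    (LinearMap.ker_eq_bot.2 hb)
  obtain ⟨φ, hφ⟩ : ∃ φ, φ = (Finsupp.linearCombination F c).comp g := ⟨_, rfl⟩
  refine ⟨fun i => φ (Pi.single i.swap 1), fun j => ?_⟩
  have hφj : φ (b j) = c j := by
    have h := LinearMap.congr_fun hg (Finsupp.single j 1)
    simp only [LinearMap.comp_apply, Finsupp.linearCombination_single, one_smul,
      LinearMap.id_apply] at h
    rw [hφ, LinearMap.comp_apply, h, Finsupp.linearCombination_single, one_smul]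
  rw [← hφj, pb_comm, ← bvec_dot]
  conv_rhs => rw [pi_eq_sum_univ' (b j), map_sum]
  simp only [map_smul, smul_eq_mul, bvec, dotProduct, Sum.swap_swap]
  exact Finset.sum_congr rfl fun i _ => mul_comm _ _

/-! ### Siegel transvections -/

/-- Totally singular pair. -/
def Sing (p r : HV F N) : Prop :=
  quadFormPlus N F p = 0 ∧ quadFormPlus N F r = 0 ∧ pb p r = 0

theorem Sing.pb_left {p r : HV F N} (h : Sing p r) : pb p p = 0 := by
  rw [pb_self, h.1, mul_zero]

theorem Sing.pb_right {p r : HV F N} (h : Sing p r) : pb r r = 0 := by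
  rw [pb_self, h.2.1, mul_zero]

theorem Sing.symm {p r : HV F N} (h : Sing p r) : Sing r p := ⟨h.2.1, h.1, by rw [pb_comm, h.2.2]⟩

/-- The matrix of a Siegel transvection. -/
def stM (p r : HV F N) (c : F) : Matrix (Fin N ⊕ Fin N) (Fin N ⊕ Fin N) F :=
  1 + c • (Matrix.vecMulVec r (bvec F N p) - Matrix.vecMulVec p (bvec F N r))

theorem stM_mulVec (p r : HV F N) (c : F) (v : HV F N) :
    stM p r c *ᵥ v = v + c • (pb v p • r - pb v r • p) := by
  rw [stM, Matrix.add_mulVec, Matrix.one_mulVec, Matrix.smul_mulVec, Matrix.sub_mulVec,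
    Matrix.vecMulVec_mulVec, Matrix.vecMulVec_mulVec, op_smul_eq_smul, op_smul_eq_smul,
    bvec_dot, bvec_dot]

theorem stM_mul {p r : HV F N} (h : Sing p r) (c d : F) :
    stM p r c * stM p r d = stM p r (c + d) := by
  refine Matrix.ext_iff_mulVec.2 fun v => ?_
  rw [← Matrix.mulVec_mulVec, stM_mulVec, stM_mulVec, stM_mulVec]
  simp only [pb_add_left, pb_smul_left, pb_sub_left, h.pb_left, h.pb_right, h.2.2,
    pb_comm r p, mul_zero, sub_zero, add_zero]
  rw [add_smul]; abel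

theorem stM_zero (p r : HV F N) : stM p r 0 = 1 := by simp [stM]

theorem stM_isometry {p r : HV F N} (h : Sing p r) (c : F) (v : HV F N) :
    quadFormPlus N F (stM p r c *ᵥ v) = quadFormPlus N F v := by
  rw [stM_mulVec, Q_add, Q_smul, Q_sub, Q_smul, Q_smul, h.1, h.2.1]
  simp only [pb_smul_left, pb_smul_right, pb_sub_right, pb_comm r p, h.2.2]
  ring

open scoped Classical in
/-- The Siegel transvection. -/
noncomputable def st (p r : HV F N) (c : F) : OPlus F N :=
  if h : Sing p r then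
    ⟨⟨stM p r c, stM p r (-c), by rw [stM_mul h, add_neg_cancel, stM_zero],
      by rw [stM_mul h, neg_add_cancel, stM_zero]⟩, fun v _ => stM_isometry h c v⟩
  else 1

theorem omat_st {p r : HV F N} (h : Sing p r) (c : F) : omat (st p r c) = stM p r c := by
  rw [st, dif_pos h]; rfl

theorem st_apply {p r : HV F N} (h : Sing p r) (c : F) (v : HV F N) :
    omat (st p r c) *ᵥ v = v + c • (pb v p • r - pb v r • p) := by
  rw [omat_st h, stM_mulVec]

theorem st_mul {p r : HV F N} (h : Sing p r) (c d : F) :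
    st p r c * st p r d = st p r (c + d) :=
  oext fun v => by
    rw [omat_mul, omat_st h, omat_st h, omat_st h, Matrix.mulVec_mulVec, stM_mul h]

theorem st_zero {p r : HV F N} (h : Sing p r) : st p r 0 = 1 :=
  oext fun v => by rw [omat_st h, stM_zero, omat_one, Matrix.one_mulVec]

theorem st_inv {p r : HV F N} (h : Sing p r) (c : F) : (st p r c)⁻¹ = st p r (-c) :=
  inv_eq_of_mul_eq_one_right (by rw [st_mul h, add_neg_cancel, st_zero h])

theorem Sing.map {p r : HV F N} (h : Sing p r) (g : OPlus F N) :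
    Sing (omat g *ᵥ p) (omat g *ᵥ r) :=
  ⟨by rw [Q_map, h.1], by rw [Q_map, h.2.1], by rw [pb_map, h.2.2]⟩

theorem st_conj {p r : HV F N} (h : Sing p r) (g : OPlus F N) (c : F) :
    g * st p r c * g⁻¹ = st (omat g *ᵥ p) (omat g *ᵥ r) c :=
  oext fun v => by
    rw [omat_mul, omat_mul, st_apply h, st_apply (h.map g), Matrix.mulVec_add,
      Matrix.mulVec_smul, Matrix.mulVec_sub, Matrix.mulVec_smul, Matrix.mulVec_smul,
      ← omat_mul, mul_inv_cancel, omat_one, ← pb_map g (omat g⁻¹ *ᵥ v) p,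
      ← pb_map g (omat g⁻¹ *ᵥ v) r, ← omat_mul, mul_inv_cancel, omat_one]

/-- The group of Siegel transvections of a pair. -/
noncomputable def SG (p r : HV F N) : Subgroup (OPlus F N) :=
  Subgroup.closure (Set.range (st p r))

theorem mem_SG {p r : HV F N} (h : Sing p r) {g : OPlus F N} :
    g ∈ SG p r ↔ ∃ c, g = st p r c := by
  refine ⟨fun hg => ?_, fun ⟨c, hc⟩ => hc ▸ Subgroup.subset_closure ⟨c, rfl⟩⟩
  induction hg using Subgroup.closure_induction with
  | mem x hx => obtain ⟨c, rfl⟩ := hx; exact ⟨c, rfl⟩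
  | one => exact ⟨0, (st_zero h).symm⟩
  | mul a b _ _ ha hb =>
    obtain ⟨c, rfl⟩ := ha; obtain ⟨d, rfl⟩ := hb
    exact ⟨c + d, st_mul h c d⟩
  | inv a _ ha => obtain ⟨c, rfl⟩ := ha; exact ⟨-c, st_inv h c⟩

theorem Sing.comb {p r : HV F N} (h : Sing p r) (a b c d : F) :
    Sing (a • p + b • r) (c • p + d • r) := by
  refine ⟨?_, ?_, ?_⟩
  · rw [Q_add, Q_smul, Q_smul, pb_smul_left, pb_smul_right, h.1, h.2.1, h.2.2]; ring
  · rw [Q_add, Q_smul, Q_smul, pb_smul_left, pb_smul_right, h.1, h.2.1, h.2.2]; ring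
  · simp only [pb_add_left, pb_add_right, pb_smul_left, pb_smul_right, h.pb_left, h.pb_right,
      h.2.2, pb_comm r p, mul_zero, add_zero]

theorem st_comb {p r : HV F N} (h : Sing p r) (a b c d s : F) :
    st (a • p + b • r) (c • p + d • r) s = st p r ((a * d - b * c) * s) :=
  oext fun v => by
    rw [st_apply (h.comb a b c d), st_apply h]
    simp only [pb_add_right, pb_smul_right]
    module

theorem SG_comb {p r : HV F N} (h : Sing p r) {a b c d : F} (hne : a * d - b * c ≠ 0) :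
    SG (a • p + b • r) (c • p + d • r) = SG p r := by
  ext g
  rw [mem_SG (h.comb a b c d), mem_SG h]
  constructor
  · rintro ⟨s, rfl⟩; exact ⟨_, st_comb h a b c d s⟩
  · rintro ⟨s, rfl⟩
    exact ⟨(a * d - b * c)⁻¹ * s, by
      rw [st_comb h, ← mul_assoc, mul_inv_cancel₀ hne, one_mul]⟩

theorem SG_symm {p r : HV F N} (h : Sing p r) : SG r p = SG p r := by
  have := SG_comb h (a := 0) (b := 1) (c := 1) (d := 0) (by simp)
  simpa using this

theorem SG_conj {p r : HV F N} (h : Sing p r) (g : OPlus F N) :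
    conjBy (SG p r) g = SG (omat g *ᵥ p) (omat g *ᵥ r) := by
  rw [conjBy, SG, SG, MonoidHom.map_closure]
  congr 1
  ext x
  constructor
  · rintro ⟨_, ⟨c, rfl⟩, rfl⟩; exact ⟨c, by simp [st_conj h]⟩
  · rintro ⟨c, rfl⟩; exact ⟨_, ⟨c, rfl⟩, by simp [st_conj h]⟩

variable (F N) in
/-- The family of the statement. -/
def SiegelFam : Set (Subgroup (OPlus F N)) :=
  {A | ∃ p r : HV F N, LinearIndependent F ![p, r] ∧
    Cfsg.quadFormPlus N F p = 0 ∧ Cfsg.quadFormPlus N F r = 0 ∧
    Cfsg.quadFormPlus N F (p + r) = 0 ∧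
    A = Subgroup.closure {σ : OPlus F N | ∀ v : HV F N,
      Cfsg.quadFormPlus N F (v + p) - Cfsg.quadFormPlus N F v - Cfsg.quadFormPlus N F p = 0 →
      Cfsg.quadFormPlus N F (v + r) - Cfsg.quadFormPlus N F v - Cfsg.quadFormPlus N F r = 0 →
        ((σ : Matrix.GeneralLinearGroup (Fin N ⊕ Fin N) F) :
          Matrix (Fin N ⊕ Fin N) (Fin N ⊕ Fin N) F) *ᵥ v = v}}

theorem exists_dual {p r : HV F N} (hli : LinearIndependent F ![p, r]) :
    ∃ u₁ u₂, pb u₁ p = 1 ∧ pb u₁ r = 0 ∧ pb u₂ p = 0 ∧ pb u₂ r = 1 := by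
  obtain ⟨u₁, hu₁⟩ := exists_pb_eq hli ![1, 0]
  obtain ⟨u₂, hu₂⟩ := exists_pb_eq hli ![0, 1]
  exact ⟨u₁, u₂, hu₁ 0, hu₁ 1, hu₂ 0, hu₂ 1⟩

theorem fix_iff_st {p r : HV F N} (hli : LinearIndependent F ![p, r]) (h : Sing p r)
    (σ : OPlus F N) :
    (∀ v, pb v p = 0 → pb v r = 0 → omat σ *ᵥ v = v) ↔ ∃ c, σ = st p r c := by
  constructor
  swap
  · rintro ⟨c, rfl⟩ v h1 h2
    rw [st_apply h, h1, h2]; simp
  intro hfix
  obtain ⟨u₁, u₂, a₁, b₁, a₂, b₂⟩ := exists_dual hli
  obtain ⟨x, hx⟩ : ∃ x, x = omat σ *ᵥ u₁ - u₁ := ⟨_, rfl⟩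
  obtain ⟨y, hy⟩ : ∃ y, y = omat σ *ᵥ u₂ - u₂ := ⟨_, rfl⟩
  have hform : ∀ v, omat σ *ᵥ v = v + pb v p • x + pb v r • y := by
    intro v
    obtain ⟨w, hw⟩ : ∃ w, w = v - pb v p • u₁ - pb v r • u₂ := ⟨_, rfl⟩
    have h1 : omat σ *ᵥ w = w := by
      apply hfix <;> rw [hw] <;> simp [pb_sub_left, pb_smul_left, a₁, b₁, a₂, b₂]
    rw [hw, Matrix.mulVec_sub, Matrix.mulVec_sub, Matrix.mulVec_smul, Matrix.mulVec_smul,
      sub_sub, sub_sub, sub_eq_iff_eq_add] at h1
    rw [hx, hy, h1]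
    module
  have hperp : ∀ z, (z = x ∨ z = y) → ∀ w, pb w p = 0 → pb w r = 0 → pb w z = 0 := by
    intro z hz w h1 h2
    rcases hz with rfl | rfl
    · rw [hx, pb_sub_right]
      nth_rewrite 1 [← hfix w h1 h2]
      rw [pb_map, sub_self]
    · rw [hy, pb_sub_right]
      nth_rewrite 1 [← hfix w h1 h2]
      rw [pb_map, sub_self]
  have hspan : ∀ z, (z = x ∨ z = y) → z = pb u₁ z • p + pb u₂ z • r := by
    intro z hz
    rw [← sub_eq_zero]
    refine eq_zero_of_pb fun v => ?_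
    have hw := hperp z hz (v - pb v p • u₁ - pb v r • u₂)
      (by simp [pb_sub_left, pb_smul_left, a₁, a₂]) (by simp [pb_sub_left, pb_smul_left, b₁, b₂])
    simp only [pb_sub_left, pb_smul_left] at hw
    simp only [pb_sub_right, pb_add_right, pb_smul_right]
    linear_combination hw
  obtain ⟨α, β, hxy⟩ : ∃ α β, x = α • p + β • r := ⟨_, _, hspan x (Or.inl rfl)⟩
  obtain ⟨γ, δ, hyy⟩ : ∃ γ δ, y = γ • p + δ • r := ⟨_, _, hspan y (Or.inr rfl)⟩
  have hQ : ∀ v, pb v p * (α * pb v p + β * pb v r) +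
      pb v r * (γ * pb v p + δ * pb v r) = 0 := by
    intro v
    have e := Q_map σ v
    rw [hform, hxy, hyy, show v + pb v p • (α • p + β • r) + pb v r • (γ • p + δ • r) =
      v + ((pb v p * α + pb v r * γ) • p + (pb v p * β + pb v r * δ) • r) by module, Q_add,
      (h.comb _ _ 0 0).1, pb_add_right, pb_smul_right, pb_smul_right, add_zero] at e
    linear_combination e
  have e1 := hQ u₁
  have e2 := hQ u₂
  have e3 := hQ (u₁ + u₂)
  simp only [pb_add_left, a₁, b₁, a₂, b₂, mul_one, mul_zero, zero_mul, one_mul, add_zero,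
    zero_add] at e1 e2 e3
  refine ⟨β, oext fun v => ?_⟩
  rw [hform, st_apply h, hxy, hyy, e1, e2, show γ = -β by linear_combination e3 - e1 - e2]
  module

theorem mem_SiegelFam {A : Subgroup (OPlus F N)} :
    A ∈ SiegelFam F N ↔ ∃ p r, LinearIndependent F ![p, r] ∧ Sing p r ∧ A = SG p r := by
  have hpol : ∀ v p : HV F N, quadFormPlus N F (v + p) - quadFormPlus N F v - quadFormPlus N F p
      = pb v p := fun v p => by rw [Q_add]; ring
  have key : ∀ p r : HV F N, LinearIndependent F ![p, r] → Sing p r →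
      Subgroup.closure {σ : OPlus F N | ∀ v : HV F N,
        quadFormPlus N F (v + p) - quadFormPlus N F v - quadFormPlus N F p = 0 →
        quadFormPlus N F (v + r) - quadFormPlus N F v - quadFormPlus N F r = 0 →
          omat σ *ᵥ v = v} = SG p r := by
    intro p r hli h
    unfold SG
    congr 1
    ext σ
    simp only [Set.mem_setOf_eq, hpol, Set.mem_range]
    rw [fix_iff_st hli h]
    exact ⟨fun ⟨c, hc⟩ => ⟨c, hc.symm⟩, fun ⟨c, hc⟩ => ⟨c, hc.symm⟩⟩
  constructor
  · rintro ⟨p, r, hli, hp, hr, hpr, rfl⟩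
    rw [Q_add, hp, hr, zero_add, zero_add] at hpr
    exact ⟨p, r, hli, ⟨hp, hr, hpr⟩, key p r hli ⟨hp, hr, hpr⟩⟩
  · rintro ⟨p, r, hli, h, rfl⟩
    exact ⟨p, r, hli, h.1, h.2.1, by rw [Q_add, h.1, h.2.1, h.2.2, add_zero, add_zero],
      (key p r hli h).symm⟩

theorem li_pair {p r : HV F N}
    (h : ∀ a b : F, a • p + b • r = 0 → a = 0 ∧ b = 0) : LinearIndependent F ![p, r] :=
  LinearIndependent.pair_iff.2 h

theorem li_comb {p r : HV F N} (hli : LinearIndependent F ![p, r]) {a b c d : F}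
    (hne : a * d - b * c ≠ 0) :
    LinearIndependent F ![a • p + b • r, c • p + d • r] := by
  refine li_pair fun s t hst => ?_
  obtain ⟨e1, e2⟩ := LinearIndependent.pair_iff.1 hli (s * a + t * c) (s * b + t * d)
    (by rw [← hst]; module)
  constructor
  · have : s * (a * d - b * c) = 0 := by linear_combination d * e1 - c * e2
    exact (mul_eq_zero.1 this).resolve_right hne
  · have : t * (a * d - b * c) = 0 := by linear_combination a * e2 - b * e1
    exact (mul_eq_zero.1 this).resolve_right hne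

theorem SG_commute {p r p' r' : HV F N} (h : Sing p r) (h' : Sing p' r') (h1 : pb p p' = 0)
    (h2 : pb p r' = 0) (h3 : pb r p' = 0) (h4 : pb r r' = 0) {x y : OPlus F N}
    (hx : x ∈ SG p r) (hy : y ∈ SG p' r') : Commute x y := by
  obtain ⟨c, rfl⟩ := (mem_SG h).1 hx
  obtain ⟨d, rfl⟩ := (mem_SG h').1 hy
  refine oext fun v => ?_
  rw [omat_mul, omat_mul, st_apply h, st_apply h', st_apply h', st_apply h]
  simp only [pb_add_left, pb_sub_left, pb_smul_left, h1, h2, h3, h4, pb_comm p' p, pb_comm r' p,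
    pb_comm p' r, pb_comm r' r, mul_zero, sub_zero, add_zero]
  abel

theorem SG_commutator_bot {p r p' r' : HV F N} (h : Sing p r) (h' : Sing p' r') (h1 : pb p p' = 0)
    (h2 : pb p r' = 0) (h3 : pb r p' = 0) (h4 : pb r r' = 0) : ⁅SG p r, SG p' r'⁆ = ⊥ := by
  rw [Subgroup.commutator_eq_bot_iff_le_centralizer]
  intro x hx
  rw [Subgroup.mem_centralizer_iff]
  exact fun y hy => (SG_commute h h' h1 h2 h3 h4 hx hy).eq.symm

theorem SG_ne_bot {p r : HV F N} (hli : LinearIndependent F ![p, r]) (h : Sing p r) :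
    SG p r ≠ ⊥ := by
  intro e
  have h1 : st p r 1 ∈ SG p r := (mem_SG h).2 ⟨1, rfl⟩
  rw [e, Subgroup.mem_bot] at h1
  obtain ⟨u, -, a, b, -, -⟩ := exists_dual hli
  have h2 := congrArg (fun g => omat g *ᵥ u) h1
  simp only [st_apply h, a, b, omat_one, one_smul, zero_smul, sub_zero] at h2
  have hr : r = 0 := by simpa using h2
  exact (LinearIndependent.ne_zero 1 hli) hr

/-- The commutator of two Siegel transvections. -/
theorem st_commutator {p r p' r' : HV F N} (h : Sing p r) (h' : Sing p' r') (h1 : pb p p' = 0)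
    (h2 : pb p r' = 0) (h3 : pb r p' = 0) (h4 : pb r r' = 1) (c d : F) :
    st p r c * st p' r' d * (st p r c)⁻¹ * (st p' r' d)⁻¹ = st p p' (c * d) := by
  have hC : Sing p p' := ⟨h.1, h'.1, h1⟩
  rw [mul_inv_eq_iff_eq_mul, st_conj h']
  refine oext fun v => ?_
  have e1 : omat (st p r c) *ᵥ p' = p' := by
    rw [st_apply h, pb_comm p' p, pb_comm p' r, h1, h3]; simp
  have e2 : omat (st p r c) *ᵥ r' = r' - c • p := by
    rw [st_apply h, pb_comm r' p, pb_comm r' r, h2, h4]; module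
  rw [omat_mul, st_apply (h'.map _), e1, e2, st_apply hC, st_apply h']
  simp only [pb_add_left, pb_sub_left, pb_smul_left, pb_sub_right, pb_smul_right, pb_comm r' p,
    pb_comm p' p, h1, h2, h'.pb_left, h'.2.2, pb_comm r' p', mul_zero, sub_zero, add_zero]
  module

theorem bvec_neg (r : HV F N) : bvec F N (-r) = -bvec F N r := rfl

/-- Opposite lines give a copy of `SL₂`. -/
theorem SG_hom {p r p' r' : HV F N} (h : Sing p r) (h' : Sing p' r') (h1 : pb p p' = 1)
    (h2 : pb p r' = 0) (h3 : pb r p' = 0) (h4 : pb r r' = 1) :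
    ∃ φ : Matrix.SpecialLinearGroup (Fin 2) F →* OPlus F N, Function.Injective φ ∧
      (upperUnipotentSL2 F).map φ = SG p r ∧ (lowerUnipotentSL2 F).map φ = SG p' r' := by
  obtain ⟨P₁, hP₁⟩ : ∃ P₁, P₁ = colPair p (-r') := ⟨_, rfl⟩
  obtain ⟨Q₁, hQ₁⟩ : ∃ Q₁, Q₁ = rowPair (bvec F N p') (-bvec F N r) := ⟨_, rfl⟩
  obtain ⟨P₂, hP₂⟩ : ∃ P₂, P₂ = colPair r p' := ⟨_, rfl⟩
  obtain ⟨Q₂, hQ₂⟩ : ∃ Q₂, Q₂ = rowPair (bvec F N r') (bvec F N p) := ⟨_, rfl⟩
  have hQP₁ : Q₁ * P₁ = 1 := by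
    rw [hP₁, hQ₁]
    refine rowPair_mul_colPair ?_ ?_ ?_ ?_ <;>
      simp [bvec_dot, h1, h'.symm.2.2, h.2.2, h.symm.2.2, pb_comm r' r, h4]
  have hQP₂ : Q₂ * P₂ = 1 := by
    rw [hP₂, hQ₂]
    refine rowPair_mul_colPair ?_ ?_ ?_ ?_ <;>
      simp [bvec_dot, h4, h'.2.2, h.2.2, h.symm.2.2, h'.symm.2.2, pb_comm p' p, pb_comm r' r, h1,
        h.pb_left]
  have zero_of : ∀ (r₀ r₁ a b : HV F N), r₀ ⬝ᵥ a = 0 → r₀ ⬝ᵥ b = 0 → r₁ ⬝ᵥ a = 0 →
      r₁ ⬝ᵥ b = 0 → rowPair r₀ r₁ * colPair a b = 0 := by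
    intro r₀ r₁ a b e1 e2 e3 e4
    ext i j
    rw [Matrix.mul_apply]
    fin_cases i <;> fin_cases j
    · exact e1
    · exact e2
    · exact e3
    · exact e4
  have hX₁ : Q₁ * P₂ = 0 := by
    rw [hQ₁, hP₂]
    refine zero_of _ _ _ _ ?_ ?_ ?_ ?_ <;>
      simp [bvec_dot, h3, h.pb_right, h'.pb_left, pb_comm p' r]
  have hX₂ : Q₂ * P₁ = 0 := by
    rw [hQ₂, hP₁]
    refine zero_of _ _ _ _ ?_ ?_ ?_ ?_ <;>
      simp [bvec_dot, h2, h'.pb_right, h.pb_left, pb_comm r' p]
  have cross : ∀ g g' : Matrix (Fin 2) (Fin 2) F,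
      embMat P₂ Q₂ g * embMat P₁ Q₁ g' = embMat P₁ Q₁ g' * embMat P₂ Q₂ g := by
    intro g g'
    have e1 : P₂ * (g - 1) * Q₂ * (P₁ * (g' - 1) * Q₁) = 0 := by
      simp only [Matrix.mul_assoc]
      rw [← Matrix.mul_assoc Q₂ P₁, hX₂]; simp
    have e2 : P₁ * (g' - 1) * Q₁ * (P₂ * (g - 1) * Q₂) = 0 := by
      simp only [Matrix.mul_assoc]
      rw [← Matrix.mul_assoc Q₁ P₂, hX₁]; simp
    simp only [embMat, add_mul, mul_add, one_mul, mul_one, e1, e2]
    abel
  let f : Matrix.SpecialLinearGroup (Fin 2) F →* Matrix (Fin N ⊕ Fin N) (Fin N ⊕ Fin N) F :=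
    { toFun := fun g => embMat P₁ Q₁ g.1 * embMat P₂ Q₂ g.1
      map_one' := by
        rw [Matrix.SpecialLinearGroup.coe_one, embMat_one, embMat_one, one_mul]
      map_mul' := fun g g' => by
        rw [Matrix.SpecialLinearGroup.coe_mul, ← embMat_mul hQP₁, ← embMat_mul hQP₂,
          mul_assoc, ← mul_assoc (embMat P₁ Q₁ g'.1), ← cross, ← mul_assoc, ← mul_assoc,
          ← mul_assoc] }
  have fu : ∀ s, f (uu s) = stM p r s := by
    intro s
    refine Matrix.ext_iff_mulVec.2 fun v => ?_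
    show (embMat P₁ Q₁ (uu s).1 * embMat P₂ Q₂ (uu s).1) *ᵥ v = _
    rw [hP₁, hQ₁, hP₂, hQ₂, embMat_uu, embMat_uu, ← Matrix.mulVec_mulVec, stM_mulVec,
      Matrix.add_mulVec, Matrix.add_mulVec, Matrix.one_mulVec, Matrix.one_mulVec,
      Matrix.smul_mulVec, Matrix.smul_mulVec, Matrix.vecMulVec_mulVec, Matrix.vecMulVec_mulVec,
      op_smul_eq_smul, op_smul_eq_smul, neg_dotProduct, bvec_dot, bvec_dot, pb_add_left,
      pb_smul_left, pb_smul_left, h.pb_right]
    module
  have fl : ∀ s, f (ll s) = stM p' r' (-s) := by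
    intro s
    refine Matrix.ext_iff_mulVec.2 fun v => ?_
    show (embMat P₁ Q₁ (ll s).1 * embMat P₂ Q₂ (ll s).1) *ᵥ v = _
    rw [hP₁, hQ₁, hP₂, hQ₂, embMat_ll, embMat_ll, ← Matrix.mulVec_mulVec, stM_mulVec,
      Matrix.add_mulVec, Matrix.add_mulVec, Matrix.one_mulVec, Matrix.one_mulVec,
      Matrix.smul_mulVec, Matrix.smul_mulVec, Matrix.vecMulVec_mulVec, Matrix.vecMulVec_mulVec,
      op_smul_eq_smul, op_smul_eq_smul, bvec_dot, bvec_dot, pb_add_left,
      pb_smul_left, pb_smul_left, h'.pb_left]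
    module
  have hiso : ∀ g v, quadFormPlus N F (f g *ᵥ v) = quadFormPlus N F v := by
    intro g
    have hg : g ∈ Subgroup.closure (upperUnipotentSL2 F ∪ lowerUnipotentSL2 F :
        Set (Matrix.SpecialLinearGroup (Fin 2) F)) := by
      rw [← Subgroup.sup_eq_closure, upper_sup_lower]; trivial
    induction hg using Subgroup.closure_induction'' with
    | mem x hx =>
      rcases hx with hx | hx
      · obtain ⟨s, rfl⟩ := mem_upperUnipotentSL2.1 hx
        intro v; rw [fu]; exact stM_isometry h s v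
      · obtain ⟨s, rfl⟩ := mem_lowerUnipotentSL2.1 hx
        intro v; rw [fl]; exact stM_isometry h' _ v
    | inv_mem x hx =>
      intro v
      have hx' : ∀ v, quadFormPlus N F (f x *ᵥ v) = quadFormPlus N F v := by
        rcases hx with hx | hx
        · obtain ⟨s, rfl⟩ := mem_upperUnipotentSL2.1 hx
          intro v; rw [fu]; exact stM_isometry h s v
        · obtain ⟨s, rfl⟩ := mem_lowerUnipotentSL2.1 hx
          intro v; rw [fl]; exact stM_isometry h' _ v
      rw [← hx', Matrix.mulVec_mulVec, ← map_mul, mul_inv_cancel, map_one, Matrix.one_mulVec]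
    | one => intro v; rw [map_one, Matrix.one_mulVec]
    | mul a b _ _ ha hb => intro v; rw [map_mul, ← Matrix.mulVec_mulVec, ha, hb]
  refine ⟨f.toHomUnits.codRestrict (OPlus F N) (fun g v _ => hiso g v), ?_, ?_, ?_⟩
  · intro x y e
    have e1 : f x = f y := congrArg Units.val (congrArg Subtype.val e)
    have key : ∀ g : Matrix.SpecialLinearGroup (Fin 2) F, Q₁ * (f g - 1) * P₁ = g.1 - 1 := by
      intro g
      show Q₁ * (embMat P₁ Q₁ g.1 * embMat P₂ Q₂ g.1 - 1) * P₁ = _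
      have e2 : P₁ * (g.1 - 1) * Q₁ * (P₂ * (g.1 - 1) * Q₂) = 0 := by
        simp only [Matrix.mul_assoc]
        rw [← Matrix.mul_assoc Q₁ P₂, hX₁]; simp
      rw [show embMat P₁ Q₁ g.1 * embMat P₂ Q₂ g.1 - 1 =
          P₁ * (g.1 - 1) * Q₁ + P₂ * (g.1 - 1) * Q₂ by
        simp only [embMat, add_mul, mul_add, one_mul, mul_one, e2, add_zero]; abel]
      rw [Matrix.mul_add, Matrix.add_mul]
      simp only [← Matrix.mul_assoc]
      rw [hQP₁, hX₁]
      simp [Matrix.mul_assoc, hQP₁]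
    have e3 := key x
    rw [e1, key y] at e3
    exact Subtype.ext (sub_left_injective e3).symm
  · ext g
    rw [mem_SG h]
    constructor
    · rintro ⟨y, hy, rfl⟩
      obtain ⟨s, rfl⟩ := mem_upperUnipotentSL2.1 hy
      exact ⟨s, Subtype.ext (Units.ext ((fu s).trans (omat_st h s).symm))⟩
    · rintro ⟨s, rfl⟩
      exact ⟨uu s, mem_upperUnipotentSL2.2 ⟨s, rfl⟩,
        Subtype.ext (Units.ext ((fu s).trans (omat_st h s).symm))⟩
  · ext g
    rw [mem_SG h']
    constructor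
    · rintro ⟨y, hy, rfl⟩
      obtain ⟨s, rfl⟩ := mem_lowerUnipotentSL2.1 hy
      exact ⟨-s, Subtype.ext (Units.ext ((fl s).trans (omat_st h' _).symm))⟩
    · rintro ⟨s, rfl⟩
      refine ⟨ll (-s), mem_lowerUnipotentSL2.2 ⟨_, rfl⟩,
        Subtype.ext (Units.ext ((fl (-s)).trans ?_))⟩
      rw [neg_neg]; exact (omat_st h' s).symm

end H98
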