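import Cfsg.Agent.H98.Siegel

/-! The root set formed by Siegel transvection groups and its connectedness. -/

set_option autoImplicit false

namespace H98

open Cfsg Matrix

variable {F : Type*} [Field F] {N : ℕ}

theorem SG_dependent {p r : HV F N} (h : Sing p r) (hdep : ¬ LinearIndependent F ![p, r]) :
    SG p r = ⊥ := by
  rw [eq_bot_iff]
  intro g hg
  obtain ⟨c, rfl⟩ := (mem_SG h).1 hg
  rw [LinearIndependent.pair_iff] at hdep
  push Not at hdep
  obtain ⟨a, b, hab, hne⟩ := hdep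
  rw [Subgroup.mem_bot]
  refine oext fun v => ?_
  rw [st_apply h, omat_one]
  have hv : a * pb v p + b * pb v r = 0 := by
    rw [← pb_smul_right, ← pb_smul_right, ← pb_add_right, hab, pb_zero_right]
  by_cases ha : a = 0
  · have hr : r = 0 := by
      subst ha
      simp only [zero_smul, zero_add, smul_eq_zero] at hab
      exact hab.resolve_left (hne rfl)
    subst hr; simp [pb_zero_right]
  · have hp : p = (-(b / a)) • r := by
      have h' : a • p = -(b • r) := eq_neg_of_add_eq_zero_left hab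
      rw [← inv_smul_smul₀ ha p, h', smul_neg, smul_smul, neg_smul, div_eq_inv_mul]
    rw [hp, pb_smul_right, smul_smul, mul_comm (pb v r)]
    simp

/-- Commutator case: one point of each line is orthogonal to the other line. -/
theorem SG_rank_one_case {p r p' r' : HV F N} (hli : LinearIndependent F ![p, r])
    (hli' : LinearIndependent F ![p', r']) (h : Sing p r) (h' : Sing p' r')
    (h1 : pb p p' = 0) (h2 : pb p r' = 0) (h3 : pb r p' = 0) (h4 : pb r r' = 1) :
    ⁅SG p r, SG p' r'⁆ = ⊥ ∨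
      RootCommutatorCase (famIn (SiegelFam F N)) ((SG p r).subgroupOf (famSup (SiegelFam F N)))
        ((SG p' r').subgroupOf (famSup (SiegelFam F N))) := by
  have hC : Sing p p' := ⟨h.1, h'.1, h1⟩
  have hcom := st_commutator h h' h1 h2 h3 h4
  have hle : ⁅SG p r, SG p' r'⁆ = SG p p' := by
    apply le_antisymm
    · rw [Subgroup.commutator_le]
      intro x hx y hy
      obtain ⟨c, rfl⟩ := (mem_SG h).1 hx
      obtain ⟨d, rfl⟩ := (mem_SG h').1 hy
      rw [commutatorElement_def, hcom]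
      exact (mem_SG hC).2 ⟨_, rfl⟩
    · intro g hg
      obtain ⟨e, rfl⟩ := (mem_SG hC).1 hg
      have := Subgroup.commutator_mem_commutator ((mem_SG h).2 ⟨1, rfl⟩)
        ((mem_SG h').2 ⟨e, rfl⟩) (H₁ := SG p r) (H₂ := SG p' r')
      rwa [commutatorElement_def, hcom, one_mul] at this
  by_cases hind : LinearIndependent F ![p, p']
  swap
  · exact Or.inl (hle.trans (SG_dependent hC hind))
  right
  refine famIn_commutatorCase (mem_SiegelFam.2 ⟨p, r, hli, h, rfl⟩)
    (mem_SiegelFam.2 ⟨p', r', hli', h', rfl⟩) (mem_SiegelFam.2 ⟨p, p', hind, hC, rfl⟩) hle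
    (fun c hc x hx => SG_commute hC h h.pb_left h.2.2 (by rw [pb_comm, h1]) (by rw [pb_comm, h3])
      hc hx)
    (fun c hc x hx => SG_commute hC h' h1 h2 h'.pb_left h'.2.2 hc hx) ?_ ?_
  · intro a ha ha1
    obtain ⟨c, rfl⟩ := (mem_SG h).1 ha
    have hc : c ≠ 0 := fun e => ha1 (by rw [e, st_zero h])
    apply le_antisymm
    · rw [Subgroup.closure_le]
      rintro _ ⟨y, hy, rfl⟩
      obtain ⟨d, rfl⟩ := (mem_SG h').1 hy
      exact (mem_SG hC).2 ⟨_, hcom c d⟩
    · intro g hg
      obtain ⟨e, rfl⟩ := (mem_SG hC).1 hg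
      exact Subgroup.subset_closure ⟨st p' r' (c⁻¹ * e), (mem_SG h').2 ⟨_, rfl⟩,
        (hcom c _).trans (by rw [← mul_assoc, mul_inv_cancel₀ hc, one_mul])⟩
  · intro b hb hb1
    obtain ⟨d, rfl⟩ := (mem_SG h').1 hb
    have hd : d ≠ 0 := fun e => hb1 (by rw [e, st_zero h'])
    apply le_antisymm
    · rw [Subgroup.closure_le]
      rintro _ ⟨x, hx, rfl⟩
      obtain ⟨c, rfl⟩ := (mem_SG h).1 hx
      exact (mem_SG hC).2 ⟨_, hcom c d⟩
    · intro g hg
      obtain ⟨e, rfl⟩ := (mem_SG hC).1 hg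
      exact Subgroup.subset_closure ⟨st p r (e * d⁻¹), (mem_SG h).2 ⟨_, rfl⟩,
        (hcom _ d).trans (by rw [mul_assoc, inv_mul_cancel₀ hd, mul_one])⟩

theorem SG_first_pair {p r p' r' : HV F N} (hli : LinearIndependent F ![p, r])
    (hli' : LinearIndependent F ![p', r']) (h : Sing p r) (h' : Sing p' r')
    (hδ : pb p p' * pb r r' - pb p r' * pb r p' = 0) (hne : pb r r' ≠ 0) :
    ∃ p₁ r₁ p₂ r₂, LinearIndependent F ![p₁, r₁] ∧ LinearIndependent F ![p₂, r₂] ∧
      Sing p₁ r₁ ∧ Sing p₂ r₂ ∧ SG p₁ r₁ = SG p r ∧ SG p₂ r₂ = SG p' r' ∧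
      pb p₁ p₂ = 0 ∧ pb p₁ r₂ = 0 ∧ pb r₁ p₂ = 0 ∧ pb r₁ r₂ = 1 := by
  obtain ⟨β, hβ⟩ : ∃ β, β = pb r r' := ⟨_, rfl⟩
  rw [← hβ] at hne
  refine ⟨(1 : F) • p + (-(pb p r' / β)) • r, (0 : F) • p + (1 : F) • r,
    (1 : F) • p' + (-(pb r p' / β)) • r', (0 : F) • p' + β⁻¹ • r',
    li_comb hli (by simp), li_comb hli' (by simp [hne]), h.comb _ _ _ _, h'.comb _ _ _ _,
    SG_comb h (by simp), SG_comb h' (by simp [hne]), ?_, ?_, ?_, ?_⟩ <;>
  simp only [pb_add_left, pb_add_right, pb_smul_left, pb_smul_right, ← hβ] <;>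
  field_simp
  · rw [← hβ] at hδ; linear_combination hδ
  all_goals ring

theorem SG_cases {A B : Subgroup (OPlus F N)} (hA : A ∈ SiegelFam F N) (hB : B ∈ SiegelFam F N) :
    ⁅A, B⁆ = ⊥ ∨
      ((IsRankOnePair A B ∧
        IsRankOnePair (A.subgroupOf (famSup (SiegelFam F N)))
          (B.subgroupOf (famSup (SiegelFam F N)))) ∧
        IsPSL2PairOver F (A.subgroupOf (famSup (SiegelFam F N)))
          (B.subgroupOf (famSup (SiegelFam F N)))) ∨
      RootCommutatorCase (famIn (SiegelFam F N)) (A.subgroupOf (famSup (SiegelFam F N)))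
        (B.subgroupOf (famSup (SiegelFam F N))) := by
  obtain ⟨p, r, hli, h, rfl⟩ := mem_SiegelFam.1 hA
  obtain ⟨p', r', hli', h', rfl⟩ := mem_SiegelFam.1 hB
  obtain ⟨δ, hδ⟩ : ∃ δ, δ = pb p p' * pb r r' - pb p r' * pb r p' := ⟨_, rfl⟩
  by_cases hδ0 : δ = 0
  · have fin : ∀ {p₁ r₁ p₂ r₂ : HV F N}, LinearIndependent F ![p₁, r₁] →
        LinearIndependent F ![p₂, r₂] → Sing p₁ r₁ → Sing p₂ r₂ → SG p₁ r₁ = SG p r →
        SG p₂ r₂ = SG p' r' → pb p₁ p₂ * pb r₁ r₂ - pb p₁ r₂ * pb r₁ p₂ = 0 → pb r₁ r₂ ≠ 0 →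
        ⁅SG p r, SG p' r'⁆ = ⊥ ∨
          RootCommutatorCase (famIn (SiegelFam F N))
            ((SG p r).subgroupOf (famSup (SiegelFam F N)))
            ((SG p' r').subgroupOf (famSup (SiegelFam F N))) := by
      intro p₁ r₁ p₂ r₂ l1 l2 s1 s2 e1 e2 hd hn
      obtain ⟨a, b, c, d, la, lc, sa, sc, ea, ec, x1, x2, x3, x4⟩ :=
        SG_first_pair l1 l2 s1 s2 hd hn
      rw [← e1, ← e2, ← ea, ← ec]
      exact SG_rank_one_case la lc sa sc x1 x2 x3 x4
    have swap : ∀ {p r : HV F N}, LinearIndependent F ![p, r] → Sing p r →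
        LinearIndependent F ![r, p] ∧ Sing r p ∧ SG r p = SG p r := fun {p r} hl hs => by
      refine ⟨?_, hs.symm, SG_symm hs⟩
      have := li_comb hl (a := 0) (b := 1) (c := 1) (d := 0) (by simp)
      simpa using this
    obtain ⟨l1, s1, e1⟩ := swap hli h
    obtain ⟨l2, s2, e2⟩ := swap hli' h'
    rw [hδ] at hδ0
    by_cases h4 : pb r r' = 0
    swap
    · exact (fin hli hli' h h' rfl rfl hδ0 h4).imp id Or.inr
    by_cases h3 : pb r p' = 0
    swap
    · exact (fin hli l2 h s2 rfl e2 (by linear_combination -hδ0) h3).imp id Or.inr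
    by_cases h2 : pb p r' = 0
    swap
    · exact (fin l1 hli' s1 h' e1 rfl (by linear_combination -hδ0) h2).imp id Or.inr
    by_cases h1 : pb p p' = 0
    swap
    · exact (fin l1 l2 s1 s2 e1 e2 (by linear_combination hδ0) h1).imp id Or.inr
    exact Or.inl (SG_commutator_bot h h' h1 h2 h3 h4)
  · right; left
    have hdet : pb r r' / δ * (pb p p' / δ) - -(pb r p' / δ) * -(pb p r' / δ) = δ⁻¹ := by
      field_simp
      rw [hδ]; ring
    have hne : pb r r' / δ * (pb p p' / δ) - -(pb r p' / δ) * -(pb p r' / δ) ≠ 0 := by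
      rw [hdet]; exact inv_ne_zero hδ0
    have e2 := SG_comb h' hne
    obtain ⟨φ, hinj, hu, hl⟩ := SG_hom h (h'.comb (pb r r' / δ) (-(pb r p' / δ))
      (-(pb p r' / δ)) (pb p p' / δ))
      (by simp only [pb_add_right, pb_smul_right]; field_simp; rw [hδ]; ring)
      (by simp only [pb_add_right, pb_smul_right]; field_simp; ring)
      (by simp only [pb_add_right, pb_smul_right]; field_simp; ring)
      (by simp only [pb_add_right, pb_smul_right]; field_simp; rw [hδ]; ring)
    rw [e2] at hl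
    have hk : φ.ker ≤ Subgroup.center _ := by
      rw [(MonoidHom.ker_eq_bot_iff φ).2 hinj]; exact bot_le
    have h2 := famIn_rankOne hA hB φ hinj hu hl
    refine ⟨⟨?_, h2.1⟩, h2.2⟩
    rw [← hu, ← hl]
    exact isRankOnePair_image hk

theorem SiegelFam_isKRoot : IsKRootSubgroupSet F (famIn (SiegelFam F N)) := by
  have hpair : ∀ A ∈ famIn (SiegelFam F N), ∀ B ∈ famIn (SiegelFam F N), ⁅A, B⁆ = ⊥ ∨
      (IsRankOnePair A B ∧ IsPSL2PairOver F A B) ∨
      RootCommutatorCase (famIn (SiegelFam F N)) A B := by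
    rintro _ ⟨A, hA, rfl⟩ _ ⟨B, hB, rfl⟩
    exact (SG_cases hA hB).imp (famIn_commutator_eq_bot hA hB)
      (Or.imp (fun h => ⟨h.1.2, h.2⟩) id)
  have hS : IsRootSubgroupSet (famIn (SiegelFam F N)) :=
    { commutative := by
        rintro _ ⟨A, hA, rfl⟩
        refine famIn_commutative ?_
        obtain ⟨p, r, hli, h, rfl⟩ := mem_SiegelFam.1 hA
        exact ⟨⟨fun x y => Subtype.ext
          (SG_commute h h h.pb_left h.2.2 (by rw [pb_comm, h.2.2]) h.pb_right x.2 y.2).eq⟩⟩
      ne_bot := by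
        rintro _ ⟨A, hA, rfl⟩
        refine famIn_ne_bot hA ?_
        obtain ⟨p, r, hli, h, rfl⟩ := mem_SiegelFam.1 hA
        exact SG_ne_bot hli h
      generates := famIn_generates
      conj_mem := famIn_conj fun A hA g => by
        obtain ⟨p, r, hli, h, rfl⟩ := mem_SiegelFam.1 hA
        refine mem_SiegelFam.2 ⟨_, _, li_pair fun a b hab => ?_, h.map g, SG_conj h g⟩
        refine LinearIndependent.pair_iff.1 hli a b ?_
        have := congrArg (fun w => omat g⁻¹ *ᵥ w) hab
        simp only [Matrix.mulVec_add, Matrix.mulVec_smul, ← omat_mul, inv_mul_cancel, omat_one,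
          Matrix.mulVec_zero] at this
        exact this
      pair := fun A hA B hB => (hpair A hA B hB).imp id (Or.imp And.left id) }
  refine ⟨hS, fun A hA B hB hr => ?_⟩
  rcases hpair A hA B hB with h | h | h
  · exact absurd h (commutator_ne_bot_of_rankOne hS hA hB hr)
  · exact h.2
  · exact absurd hr (ne_rankOne_of_rootCommutatorCase hS hA hB h)

/-! ### Connectedness -/

variable (F N) in
/-- Two singular lines joined by a chain of opposite lines. -/
def LineConn (p r p' r' : HV F N) : Prop :=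
  Relation.ReflTransGen (FAdj (SiegelFam F N)) (SG p r) (SG p' r')

theorem opp_adj {p r u w : HV F N} (hli : LinearIndependent F ![p, r]) (h : Sing p r)
    (h' : Sing u w) (h1 : pb p u = 1) (h2 : pb p w = 0) (h3 : pb r u = 0) (h4 : pb r w = 1) :
    FAdj (SiegelFam F N) (SG p r) (SG u w) ∧ FAdj (SiegelFam F N) (SG u w) (SG p r) := by
  have hli' : LinearIndependent F ![u, w] := li_pair fun a b hab => by
    have e1 := congrArg (pb p) hab
    have e2 := congrArg (pb r) hab
    simp only [pb_add_right, pb_smul_right, pb_zero_right, h1, h2, h3, h4] at e1 e2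
    exact ⟨by linear_combination e1, by linear_combination e2⟩
  obtain ⟨φ, hinj, hu, hl⟩ := SG_hom h h' h1 h2 h3 h4
  have hk : φ.ker ≤ Subgroup.center _ := by
    rw [(MonoidHom.ker_eq_bot_iff φ).2 hinj]; exact bot_le
  have hr : IsRankOnePair (SG p r) (SG u w) := by rw [← hu, ← hl]; exact isRankOnePair_image hk
  have m1 := mem_SiegelFam.2 ⟨p, r, hli, h, rfl⟩
  have m2 := mem_SiegelFam.2 ⟨u, w, hli', h', rfl⟩
  exact ⟨⟨m1, m2, hr⟩, ⟨m2, m1, RankOnePair_symm hr⟩⟩

/-- Two lines of a singular plane have a common opposite. -/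
theorem conn_coplanar {p r r₂ : HV F N} (h : Sing p r) (h' : Sing p r₂) (hrr : pb r r₂ = 0)
    (hli : LinearIndependent F ![p, r, r₂]) : LineConn F N p r p r₂ := by
  have hi : ∀ a b c : F, a • p + b • r + c • r₂ = 0 → a = 0 ∧ b = 0 ∧ c = 0 := by
    intro a b c e
    have := Fintype.linearIndependent_iff.1 hli ![a, b, c] (by
      simp [Fin.sum_univ_three, e])
    exact ⟨this 0, this 1, this 2⟩
  obtain ⟨u₀, hu₀⟩ := exists_pb_eq hli ![1, 0, 0]
  obtain ⟨u, hudef⟩ : ∃ u, u = u₀ - quadFormPlus N F u₀ • p := ⟨_, rfl⟩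
  have hp0 : pb u₀ p = 1 := hu₀ 0
  have hr0 : pb u₀ r = 0 := hu₀ 1
  have hr20 : pb u₀ r₂ = 0 := hu₀ 2
  have hup : pb u p = 1 := by
    rw [hudef, pb_sub_left, pb_smul_left, hp0, h.pb_left]; ring
  have hur : pb u r = 0 := by rw [hudef, pb_sub_left, pb_smul_left, hr0, h.2.2]; ring
  have hur2 : pb u r₂ = 0 := by rw [hudef, pb_sub_left, pb_smul_left, hr20, h'.2.2]; ring
  have hQu : quadFormPlus N F u = 0 := by
    rw [hudef, Q_sub, Q_smul, pb_smul_right, h.1, hp0]; ring
  have hli4 : LinearIndependent F ![p, r, r₂, u] := by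
    rw [Fintype.linearIndependent_iff]
    intro g hg
    simp [Fin.sum_univ_four] at hg
    have e1 := congrArg (fun x => pb x p) hg
    simp only [pb_add_left, pb_smul_left, pb_zero_left, h.pb_left, pb_comm r p, h.2.2,
      pb_comm r₂ p, h'.2.2, hup, mul_zero, add_zero, zero_add, mul_one] at e1
    rw [e1, zero_smul, add_zero] at hg
    obtain ⟨a, b, c⟩ := hi _ _ _ hg
    intro i
    fin_cases i
    · exact a
    · exact b
    · exact c
    · exact e1
  obtain ⟨w₀, hw₀⟩ := exists_pb_eq hli4 ![0, 1, 1, 0]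
  obtain ⟨w, hwdef⟩ : ∃ w, w = w₀ - quadFormPlus N F w₀ • r := ⟨_, rfl⟩
  have w1 : pb w₀ p = 0 := hw₀ 0
  have w2 : pb w₀ r = 1 := hw₀ 1
  have w3 : pb w₀ r₂ = 1 := hw₀ 2
  have w4 : pb w₀ u = 0 := hw₀ 3
  have hwp : pb w p = 0 := by
    rw [hwdef, pb_sub_left, pb_smul_left, w1, pb_comm r p, h.2.2]; ring
  have hwr : pb w r = 1 := by rw [hwdef, pb_sub_left, pb_smul_left, w2, h.pb_right]; ring
  have hwr2 : pb w r₂ = 1 := by rw [hwdef, pb_sub_left, pb_smul_left, w3, hrr]; ring
  have hwu : pb w u = 0 := by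
    rw [hwdef, pb_sub_left, pb_smul_left, w4, pb_comm r u, hur]; ring
  have hQw : quadFormPlus N F w = 0 := by
    rw [hwdef, Q_sub, Q_smul, pb_smul_right, h.2.1, w2]; ring
  have huw : Sing u w := ⟨hQu, hQw, by rw [pb_comm, hwu]⟩
  have hl1 : LinearIndependent F ![p, r] := li_pair fun a b e => by
    obtain ⟨x, y, -⟩ := hi a b 0 (by simp [e]); exact ⟨x, y⟩
  have hl2 : LinearIndependent F ![p, r₂] := li_pair fun a b e => by
    obtain ⟨x, -, y⟩ := hi a 0 b (by simp [e]); exact ⟨x, y⟩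
  exact (Relation.ReflTransGen.single
      (opp_adj hl1 h huw (by rw [pb_comm, hup]) (by rw [pb_comm, hwp]) (by rw [pb_comm, hur])
        (by rw [pb_comm, hwr])).1).tail
    (opp_adj hl2 h' huw (by rw [pb_comm, hup]) (by rw [pb_comm, hwp]) (by rw [pb_comm, hur2])
      (by rw [pb_comm, hwr2])).2

theorem LineConn.symm {p r p' r' : HV F N} (h : LineConn F N p r p' r') :
    LineConn F N p' r' p r := by
  unfold LineConn at h ⊢
  generalize SG p' r' = B at h ⊢
  induction h with
  | refl => exact .refl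
  | tail _ a ih => exact ih.head ⟨a.2.1, a.1, RankOnePair_symm a.2.2⟩

/-- Lines through a common point of a singular plane or equal lines are joined. -/
theorem conn_step {p r r₂ : HV F N} (h : Sing p r) (h' : Sing p r₂) (hrr : pb r r₂ = 0)
    (hl : LinearIndependent F ![p, r]) (hl' : LinearIndependent F ![p, r₂]) :
    LineConn F N p r p r₂ := by
  by_cases hli : LinearIndependent F ![p, r, r₂]
  · exact conn_coplanar h h' hrr hli
  rw [Fintype.linearIndependent_iff] at hli
  push Not at hli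
  obtain ⟨g, hg, i, hi⟩ := hli
  simp [Fin.sum_univ_three] at hg
  have hg2 : g 2 ≠ 0 := by
    intro e
    rw [e, zero_smul, add_zero] at hg
    obtain ⟨e0, e1⟩ := LinearIndependent.pair_iff.1 hl _ _ hg
    fin_cases i <;> simp_all
  have hg1 : g 1 ≠ 0 := by
    intro e
    rw [e, zero_smul, add_zero] at hg
    exact hg2 (LinearIndependent.pair_iff.1 hl' _ _ hg).2
  have e : r₂ = (-(g 0 / g 2)) • p + (-(g 1 / g 2)) • r := by
    refine smul_right_injective (HV F N) hg2 ?_
    have e' : g 2 • r₂ = -(g 0 • p + g 1 • r) := eq_neg_of_add_eq_zero_right hg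
    show g 2 • r₂ = g 2 • ((-(g 0 / g 2)) • p + (-(g 1 / g 2)) • r)
    rw [e', smul_add, smul_smul, smul_smul, mul_neg, mul_neg, mul_div_cancel₀ _ hg2,
      mul_div_cancel₀ _ hg2]
    module
  have := SG_comb h (a := 1) (b := 0) (c := -(g 0 / g 2)) (d := -(g 1 / g 2))
    (by simp [hg1, hg2])
  rw [one_smul, zero_smul, add_zero, ← e] at this
  rw [LineConn, this]

/-- The first coordinate subspace. -/
def InL (v : HV F N) : Prop := ∀ i, v (.inr i) = 0

theorem InL.Q {v : HV F N} (h : InL v) : quadFormPlus N F v = 0 :=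
  Finset.sum_eq_zero fun i _ => by rw [h i, mul_zero]

theorem InL.pb_eq {v w : HV F N} (h : InL v) (h' : InL w) : pb v w = 0 :=
  Finset.sum_eq_zero fun i _ => by rw [h i, h' i, mul_zero, zero_mul, add_zero]

theorem exists_inL (hN : 3 ≤ N) (a b : HV F N) :
    ∃ s, InL s ∧ s ≠ 0 ∧ pb s a = 0 ∧ pb s b = 0 := by
  classical
  have hdep : ¬ LinearIndependent F
      (fun i : Fin N => ![a (.inr i), b (.inr i)] : Fin N → Fin 2 → F) := fun h => by
    have := h.fintype_card_le_finrank
    simp at this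
    omega
  rw [Fintype.linearIndependent_iff] at hdep
  push Not at hdep
  obtain ⟨g, hg, i, hi⟩ := hdep
  refine ⟨Sum.elim g 0, fun i => rfl, fun e => hi (congrFun e (.inl i)), ?_, ?_⟩
  · have := congrFun hg 0
    simpa [pb, Finset.sum_apply] using this
  · have := congrFun hg 1
    simpa [pb, Finset.sum_apply] using this

theorem exists_inL_pair (hN : 3 ≤ N) (a : HV F N) {s : HV F N} (hs0 : s ≠ 0) :
    ∃ t, InL t ∧ pb t a = 0 ∧ LinearIndependent F ![s, t] := by
  classical
  obtain ⟨i, hi⟩ := Function.ne_iff.1 hs0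
  obtain ⟨b, hb⟩ : ∃ b : HV F N, b = Pi.single i.swap 1 := ⟨_, rfl⟩
  obtain ⟨t, ht, ht0, hta, htb⟩ := exists_inL hN a b
  refine ⟨t, ht, hta, li_pair fun x y e => ?_⟩
  have hsb : pb s b = s i := by
    rw [pb_comm, ← bvec_dot, hb, dotProduct_single_one]
    simp [bvec]
  have e1 := congrArg (fun v => pb v b) e
  simp only [pb_add_left, pb_smul_left, pb_zero_left, htb, mul_zero, add_zero, hsb] at e1
  have hx : x = 0 := (mul_eq_zero.1 e1).resolve_right hi
  subst hx
  simp only [zero_smul, zero_add, smul_eq_zero] at e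
  exact ⟨rfl, e.resolve_right ht0⟩

theorem conn_to_L (hN : 3 ≤ N) {p r : HV F N} (hl : LinearIndependent F ![p, r]) (h : Sing p r) :
    ∃ s t, InL s ∧ InL t ∧ LinearIndependent F ![s, t] ∧ LineConn F N p r s t := by
  obtain ⟨s, hs, hs0, hsp, hsr⟩ := exists_inL hN p r
  have hSsp : Sing s p := ⟨hs.Q, h.1, hsp⟩
  have hSsr : Sing s r := ⟨hs.Q, h.2.1, hsr⟩
  have first : ∃ x, LinearIndependent F ![s, x] ∧ Sing s x ∧ LineConn F N p r s x := by
    by_cases hps : LinearIndependent F ![p, s]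
    · have hl' : LinearIndependent F ![s, p] := by
        simpa using li_comb hps (a := 0) (b := 1) (c := 1) (d := 0) (by simp)
      refine ⟨p, hl', hSsp, ?_⟩
      have := conn_step h hSsp.symm (by rw [pb_comm, hsr]) hl hps
      rwa [LineConn, ← SG_symm hSsp.symm] at this
    · -- `s` is a multiple of `p`
      rw [LinearIndependent.pair_iff] at hps
      push Not at hps
      obtain ⟨a, b, hab, hne⟩ := hps
      have hb : b ≠ 0 := by
        intro e
        rw [e, zero_smul, add_zero, smul_eq_zero] at hab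
        rcases hab with ha | hp
        · exact hne ha e
        · exact (LinearIndependent.ne_zero 0 hl) hp
      have hs' : s = (-(a / b)) • p + (0 : F) • r := by
        rw [zero_smul, add_zero]
        refine smul_right_injective (HV F N) hb ?_
        show b • s = b • ((-(a / b)) • p)
        rw [smul_smul, mul_neg, mul_div_cancel₀ _ hb, neg_smul]
        exact eq_neg_of_add_eq_zero_right hab
      have ha : a ≠ 0 := by
        rintro rfl
        simp at hs'
        exact hs0 hs'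
      refine ⟨r, ?_, hSsr, ?_⟩
      · have := li_comb hl (a := -(a / b)) (b := 0) (c := 0) (d := 1) (by simp [ha, hb])
        rwa [← hs', zero_smul, zero_add, one_smul] at this
      · have := SG_comb h (a := -(a / b)) (b := 0) (c := 0) (d := 1) (by simp [ha, hb])
        rw [← hs', zero_smul, zero_add, one_smul] at this
        rw [LineConn, this]
  obtain ⟨x, hlx, hSx, hc⟩ := first
  obtain ⟨t, ht, htx, hst⟩ := exists_inL_pair hN x hs0
  refine ⟨s, t, hs, ht, hst, hc.trans ?_⟩
  exact conn_step hSx ⟨hs.Q, ht.Q, hs.pb_eq ht⟩ (by rw [pb_comm, htx]) hlx hst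

theorem conn_in_L {a b c d : HV F N} (ha : InL a) (hb : InL b) (hc : InL c) (hd : InL d)
    (hab : LinearIndependent F ![a, b]) (hcd : LinearIndependent F ![c, d]) :
    LineConn F N a b c d := by
  have hS : ∀ {x y : HV F N}, InL x → InL y → Sing x y := fun hx hy => ⟨hx.Q, hy.Q, hx.pb_eq hy⟩
  have step : ∀ {x y z : HV F N}, InL x → InL y → InL z → LinearIndependent F ![x, y] →
      LinearIndependent F ![x, z] → LineConn F N x y x z := fun hx hy hz l l' =>
    conn_step (hS hx hy) (hS hx hz) (hy.pb_eq hz) l l'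
  have swap : ∀ {x y : HV F N}, LinearIndependent F ![x, y] → LinearIndependent F ![y, x] :=
    fun l => by simpa using li_comb l (a := 0) (b := 1) (c := 1) (d := 0) (by simp)
  have main : ∀ {x : HV F N}, InL x → LinearIndependent F ![x, a] ∨ LinearIndependent F ![x, b] → ∀ y, InL y → LinearIndependent F ![x, y] → LineConn F N a b x y := by
    intro x hx hor y hy hxy
    rcases hor with l | l
    · have h1 : LineConn F N a b a x := step ha hb hx hab (swap l)
      rw [LineConn, ← SG_symm (hS ha hx)] at h1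
      exact h1.trans (step hx ha hy l hxy)
    · have h1 : LineConn F N b a b x := step hb ha hx (swap hab) (swap l)
      rw [LineConn, ← SG_symm (hS hb ha), ← SG_symm (hS hb hx)] at h1
      exact h1.trans (step hx hb hy l hxy)
  refine main hc ?_ d hd hcd
  by_contra hne
  push Not at hne
  obtain ⟨h1, h2⟩ := hne
  rw [LinearIndependent.pair_iff] at h1 h2
  push Not at h1 h2
  obtain ⟨s, t, e, n1⟩ := h1
  obtain ⟨s', t', e', n2⟩ := h2
  have hc0 : c ≠ 0 := LinearIndependent.ne_zero 0 hcd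
  have hs' : t = 0 → False := fun ht => by
    rw [ht, zero_smul, add_zero, smul_eq_zero] at e
    exact e.elim (fun hs => n1 hs ht) hc0
  have hs'' : t' = 0 → False := fun ht => by
    rw [ht, zero_smul, add_zero, smul_eq_zero] at e'
    exact e'.elim (fun hs => n2 hs ht) hc0
  have e3 : (s' * t) • a + (-(s * t')) • b = 0 := by
    have h1 : s' • (s • c + t • a) - s • (s' • c + t' • b) = 0 := by rw [e, e']; simp
    rw [← h1]; module
  obtain ⟨z1, z2⟩ := LinearIndependent.pair_iff.1 hab _ _ e3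
  have hs0 : s' = 0 := (mul_eq_zero.1 z1).resolve_right hs'
  rw [hs0, zero_smul, zero_add, smul_eq_zero] at e'
  exact e'.elim hs'' (LinearIndependent.ne_zero 1 hab)

theorem SiegelFam_connected (hN : 3 ≤ N) :
    IsConnectedFamily (FAdj (SiegelFam F N)) (SiegelFam F N) := by
  intro A hA B hB
  obtain ⟨p, r, hl, h, rfl⟩ := mem_SiegelFam.1 hA
  obtain ⟨p', r', hl', h', rfl⟩ := mem_SiegelFam.1 hB
  obtain ⟨a, b, ha, hb, hab, h1⟩ := conn_to_L hN hl h
  obtain ⟨c, d, hc, hd, hcd, h2⟩ := conn_to_L hN hl' h'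
  exact h1.trans ((conn_in_L ha hb hc hd hab hcd).trans h2.symm)

end H98
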