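import Cfsg.Agent.H98.Special
import Cfsg.Agent.H98.PrimeSL2
import Cfsg.Agent.S5017
import Cfsg.Agent.H68.Iso

/-! Special rank one groups with abelian unipotent subgroups: `⁅A, H⁆ = A` unless `|A| ≤ 3`. -/

set_option autoImplicit false

namespace H98

open Cfsg
open scoped commutatorElement IsMulCommutative

variable {G : Type*} [Group G] {A B : Subgroup G}

theorem commutator_diagonal_le : ⁅A, rankOneDiagonal A B⁆ ≤ A := by
  rw [Subgroup.commutator_le]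
  intro a ha h hh
  rw [commutatorElement_def, mul_assoc, mul_assoc]
  refine A.mul_mem ha ?_
  rw [← mul_assoc]
  exact (Subgroup.mem_normalizer_iff.1 hh.1.2 a⁻¹).1 (A.inv_mem ha)

theorem commutator_diagonal_symm_le :
    ∀ h ∈ rankOneDiagonal A B, ∀ a ∈ A, h * a * h⁻¹ * a⁻¹ ∈ ⁅A, rankOneDiagonal A B⁆ := by
  intro h hh a ha
  rw [Subgroup.commutator_comm]
  exact Subgroup.commutator_mem_commutator hh ha

theorem Rel.mm_mem {a b : G} (r : Rel A B a b) : a * b⁻¹ * a ∈ A ⊔ B :=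
  Subgroup.mul_mem _ (Subgroup.mul_mem _ (Subgroup.mem_sup_left r.1)
    (Subgroup.mem_sup_right (B.inv_mem r.2.2.1))) (Subgroup.mem_sup_left r.1)

theorem hh_mem_diagonal (hs : IsSpecialRankOnePair A B) {a b a₀ b₀ : G} (r : Rel A B a b)
    (r₀ : Rel A B a₀ b₀) :
    (a₀ * b₀⁻¹ * a₀)⁻¹ * (a * b⁻¹ * a) ∈ rankOneDiagonal A B := by
  have e1 : conjBy A ((a₀ * b₀⁻¹ * a₀)⁻¹ * (a * b⁻¹ * a)) = A := by
    rw [← conjBy_conjBy, r.conjBy_left, ← r₀.conjBy_left, conjBy_conjBy, inv_mul_cancel,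
      conjBy_one]
  have e2 : conjBy B ((a₀ * b₀⁻¹ * a₀)⁻¹ * (a * b⁻¹ * a)) = B := by
    rw [← conjBy_conjBy, r.conjBy_right hs, ← r₀.conjBy_right hs, conjBy_conjBy, inv_mul_cancel,
      conjBy_one]
  exact ⟨⟨Subgroup.mul_mem _ (Subgroup.inv_mem _ r₀.mm_mem) r.mm_mem,
    conjBy_eq_self_iff.1 e1⟩, conjBy_eq_self_iff.1 e2⟩

/-- The key congruence: `a a₂² ∈ ⁅A, H⁆`. -/
theorem mul_sq_mem (hs : IsSpecialRankOnePair A B) (hab : HasAbelianUnipotents A B) {a a₂ : G}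
    (ha : a ∈ A) (ha1 : a ≠ 1) (ha₂ : a₂ ∈ A) (ha₂1 : a₂ ≠ 1) (hne : a * a₂ ≠ 1) :
    a * a₂ ^ 2 ∈ ⁅A, rankOneDiagonal A B⁆ := by
  haveI := hab.1
  have h := hs.1
  have hA0 : ⁅A, rankOneDiagonal A B⁆ ≤ A := commutator_diagonal_le
  obtain ⟨b, r⟩ := exists_rel h ha ha1
  obtain ⟨m₀, hm₀⟩ : ∃ m₀, m₀ = a * b⁻¹ * a := ⟨_, rfl⟩
  -- `κ` is conjugation by `m₀⁻¹`, from `B` onto `A`
  have hκA : ∀ c ∈ B, m₀⁻¹ * c * m₀ ∈ A := by
    intro c hc
    rw [← r.conjBy_left, ← hm₀, mem_conjBy] at hc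
    exact hc
  have hkey : ∀ {x y : G}, Rel A B x y → m₀⁻¹ * y * m₀ * x ∈ ⁅A, rankOneDiagonal A B⁆ := by
    intro x y rxy
    have hmem := hh_mem_diagonal hs rxy r
    rw [← hm₀] at hmem
    have h2 := commutator_diagonal_symm_le _ hmem x rxy.1
    have e : m₀⁻¹ * (x * y⁻¹ * x) * x * (m₀⁻¹ * (x * y⁻¹ * x))⁻¹ = m₀⁻¹ * y⁻¹ * m₀ := by
      have := rxy.conj_pow hs 1
      rw [pow_one, pow_one] at this
      calc _ = m₀⁻¹ * ((x * y⁻¹ * x) * x * (x * y⁻¹ * x)⁻¹) * m₀ := by group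
        _ = _ := by rw [this]
    rw [e] at h2
    have h3 := Subgroup.inv_mem _ h2
    have hc : Commute (m₀⁻¹ * y * m₀) x :=
      setLike_mul_comm (S := Subgroup G) (hκA y rxy.2.2.1) rxy.1
    rw [hc.eq]
    convert h3 using 1
    group
  obtain ⟨z, hz⟩ : ∃ z, z = m₀ * a₂ * m₀⁻¹ := ⟨_, rfl⟩
  have hzB : z ∈ B := by
    rw [hz, ← r.conjBy_left, ← hm₀]; exact conj_mem_conjBy m₀ ha₂
  have hz1 : z ≠ 1 := fun e => ha₂1 (by rwa [hz, conj_eq_one_iff] at e)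
  obtain ⟨q, rq⟩ := exists_rel' h hzB hz1
  obtain ⟨w, rw'⟩ := exists_rel h (A.mul_mem ha ha₂) hne
  have r1 := r.add_formula hs (a₂ := a₂) (by rw [hz, hm₀]) rq rw'
  have k1 := hkey r
  have k2 := hkey rq
  have k3 := hkey rw'
  have k4 := hkey r1
  rw [show m₀⁻¹ * z * m₀ = a₂ by rw [hz]; group] at k2
  have e4 : m₀⁻¹ * (b⁻¹ * w) * m₀ = (m₀⁻¹ * b * m₀)⁻¹ * (m₀⁻¹ * w * m₀) := by group
  rw [e4] at k4
  -- compute inside the abelian group `A`
  let A0 : Subgroup A := (⁅A, rankOneDiagonal A B⁆).subgroupOf A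
  obtain ⟨β, hβ⟩ : ∃ β : A, (β : G) = m₀⁻¹ * b * m₀ := ⟨⟨_, hκA b r.2.2.1⟩, rfl⟩
  obtain ⟨ω, hω⟩ : ∃ ω : A, (ω : G) = m₀⁻¹ * w * m₀ := ⟨⟨_, hκA w rw'.2.2.1⟩, rfl⟩
  obtain ⟨x, hx⟩ : ∃ x : A, (x : G) = a := ⟨⟨_, ha⟩, rfl⟩
  obtain ⟨x₂, hx₂⟩ : ∃ x : A, (x : G) = a₂ := ⟨⟨_, ha₂⟩, rfl⟩
  obtain ⟨θ, hθ⟩ : ∃ x : A, (x : G) = q := ⟨⟨_, rq.1⟩, rfl⟩
  rw [← hβ, ← hx] at k1
  rw [← hx₂, ← hθ] at k2
  rw [← hω, ← hx, ← hx₂] at k3
  rw [← hβ, ← hω, ← hx, ← hθ] at k4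
  have l1 : β * x ∈ A0 := k1
  have l2 : x₂ * θ ∈ A0 := k2
  have l3 : ω * (x * x₂) ∈ A0 := k3
  have l4 : β⁻¹ * ω * (x⁻¹ * θ) ∈ A0 := k4
  have hx' : x * x₂ ^ 2 ∈ A0 := by
    have h5 := A0.mul_mem (A0.mul_mem (A0.inv_mem l1) l3) (A0.mul_mem l2 (A0.inv_mem l4))
    have e : (β * x)⁻¹ * (ω * (x * x₂)) * (x₂ * θ * (β⁻¹ * ω * (x⁻¹ * θ))⁻¹) = x * x₂ ^ 2 := by
      simp only [mul_inv_rev, inv_inv, pow_two]
      calc _ = (β⁻¹ * β) * (ω * ω⁻¹) * (θ * θ⁻¹) * (x⁻¹ * x) * (x * (x₂ * x₂)) := by ac_rfl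
        _ = _ := by simp
    rwa [e] at h5
  rw [← hx, ← hx₂]
  exact hx'

theorem commutator_diagonal_eq (hs : IsSpecialRankOnePair A B)
    (hab : HasAbelianUnipotents A B) (hcard : 3 < ENat.card A) :
    ⁅A, rankOneDiagonal A B⁆ = A := by
  haveI := hab.1
  have hA0 : ⁅A, rankOneDiagonal A B⁆ ≤ A := commutator_diagonal_le
  obtain ⟨a, ha, ha1⟩ := exists_mem_ne_one (left_ne_bot hs.1)
  have small : ∀ (p : ℕ), 1 ≤ p → p ≤ 3 → a ^ p = 1 → A = Subgroup.zpowers a → False := by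
    intro p hp1 hp h1 he
    rw [he] at hcard
    haveI : Finite (Subgroup.zpowers a) :=
      finite_zpowers.2 (isOfFinOrder_iff_pow_eq_one.2 ⟨p, hp1, h1⟩)
    rw [ENat.card_eq_coe_natCard, Nat.card_zpowers, Nat.ofNat_lt_cast] at hcard
    exact absurd ((orderOf_le_of_pow_eq_one hp1 h1).trans hp) (not_le.2 hcard)
  by_cases hbot : ⁅A, rankOneDiagonal A B⁆ = ⊥
  · exfalso
    have key : ∀ x ∈ A, x ≠ 1 → ∀ y ∈ A, y ≠ 1 → x * y ≠ 1 → x * y ^ 2 = 1 := by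
      intro x hx hx1 y hy hy1 hxy
      rw [← Subgroup.mem_bot, ← hbot]
      exact mul_sq_mem hs hab hx hx1 hy hy1 hxy
    by_cases hsq : a ^ 2 = 1
    · refine small 2 (by norm_num) (by norm_num) hsq
        (le_antisymm (fun x hx => ?_) (Subgroup.zpowers_le.2 ha))
      by_contra hne
      have hx1 : x ≠ 1 := fun e => hne (e ▸ one_mem _)
      have hxa : x * a ≠ 1 := fun e => hne (by
        rw [mul_eq_one_iff_eq_inv.1 e]; exact inv_mem (Subgroup.mem_zpowers a))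
      have := key x hx hx1 a ha ha1 hxa
      rw [hsq, mul_one] at this
      exact hx1 this
    · have h3 : a ^ 3 = 1 := by
        rw [pow_succ']
        exact key a ha ha1 a ha ha1 (by rwa [← pow_two])
      refine small 3 (by norm_num) le_rfl h3
        (le_antisymm (fun x hx => ?_) (Subgroup.zpowers_le.2 ha))
      by_contra hne
      have hx1 : x ≠ 1 := fun e => hne (e ▸ one_mem _)
      have hax : a * x ≠ 1 := fun e => hne (by
        rw [eq_inv_of_mul_eq_one_right e]; exact inv_mem (Subgroup.mem_zpowers a))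
      have h4 := key a ha ha1 x hx hx1 hax
      have hx2 : x * x ≠ 1 := fun e => ha1 (by rwa [pow_two, e, mul_one] at h4)
      have h5 := key x hx hx1 x hx hx1 hx2
      apply hne
      have e1 : x ^ 2 = x⁻¹ := eq_inv_of_mul_eq_one_right h5
      have e2 : a = x := by
        have := mul_eq_one_iff_eq_inv.1 h4
        rwa [e1, inv_inv] at this
      exact e2 ▸ Subgroup.mem_zpowers a
  · obtain ⟨z, hz, hz1⟩ := exists_mem_ne_one hbot
    refine le_antisymm hA0 fun x hx => ?_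
    by_contra hne
    have hx1 : x ≠ 1 := fun e => hne (e ▸ one_mem _)
    have hxz : x * z ≠ 1 := fun e => hne (by
      rw [mul_eq_one_iff_eq_inv.1 e]; exact inv_mem hz)
    have := mul_sq_mem hs hab hx hx1 (hA0 hz) hz1 hxz
    apply hne
    have h2 := Subgroup.mul_mem _ this (Subgroup.inv_mem _ (Subgroup.pow_mem _ hz 2))
    rwa [mul_inv_cancel_right] at h2

/-- A rank one group of a special pair with more than three root elements is perfect. -/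
theorem sup_le_commutator (hs : IsSpecialRankOnePair A B) (hab : HasAbelianUnipotents A B)
    (hcard : 3 < ENat.card A) : A ⊔ B ≤ ⁅A ⊔ B, A ⊔ B⁆ := by
  have hA : A ≤ ⁅A ⊔ B, A ⊔ B⁆ := by
    conv_lhs => rw [← commutator_diagonal_eq hs hab hcard]
    exact Subgroup.commutator_mono le_sup_left (inf_le_left.trans inf_le_left)
  refine sup_le hA ?_
  obtain ⟨a, ha, ha1⟩ := exists_mem_ne_one (left_ne_bot hs.1)
  obtain ⟨b, r⟩ := exists_rel hs.1 ha ha1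
  calc B = conjBy A (a * b⁻¹ * a) := r.conjBy_left.symm
    _ ≤ conjBy ⁅A ⊔ B, A ⊔ B⁆ (a * b⁻¹ * a) := conjBy_mono _ hA
    _ = ⁅A ⊔ B, A ⊔ B⁆ := by
      rw [conjBy, Subgroup.map_commutator]
      change ⁅conjBy (A ⊔ B) _, conjBy (A ⊔ B) _⁆ = _
      rw [conjBy_self r.mm_mem]

theorem exists_gen_of_card_le {X : Type*} [Group X] {A : Subgroup X} (hne : A ≠ ⊥)
    (hcard : ENat.card A ≤ 3) : ∃ (p : ℕ) (a : X), p.Prime ∧ (p = 2 ∨ p = 3) ∧ a ∈ A ∧ a ≠ 1 ∧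
      a ^ p = 1 ∧ A = Subgroup.zpowers a := by
  haveI : Finite A := by
    rcases finite_or_infinite A with hf | hf
    · exact hf
    · exfalso; simp [ENat.card_eq_top_of_infinite] at hcard
  rw [ENat.card_eq_coe_natCard, Nat.cast_le_ofNat] at hcard
  have h1 : 1 < Nat.card A := (Subgroup.one_lt_card_iff_ne_bot A).2 hne
  obtain ⟨a, ha, ha1⟩ := exists_mem_ne_one hne
  have hp : Nat.card A = 2 ∨ Nat.card A = 3 := by omega
  have hpr : (Nat.card A).Prime := by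
    rcases hp with e | e <;> rw [e] <;> norm_num
  haveI : Fact (Nat.card A).Prime := ⟨hpr⟩
  refine ⟨Nat.card A, a, hpr, hp, ha, ha1, congrArg Subtype.val (pow_card_eq_one' (x := (⟨a, ha⟩ : A))), ?_⟩
  refine (Subgroup.eq_of_le_of_card_ge (Subgroup.zpowers_le.2 ha) ?_).symm
  rw [Nat.card_zpowers, orderOf_eq_prime (p := Nat.card A)
    (congrArg Subtype.val (pow_card_eq_one' (x := (⟨a, ha⟩ : A)))) ha1]

theorem center_sl2_two {z : Matrix.SpecialLinearGroup (Fin 2) (ZMod 2)}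
    (hz : z ∈ Subgroup.center _) : z = 1 := by
  rw [Matrix.SpecialLinearGroup.mem_center_iff] at hz
  obtain ⟨r, hr2, hr⟩ := hz
  have : r = 1 := by
    have key : ∀ r : ZMod 2, r ^ 2 = 1 → r = 1 := by decide
    exact key r (by simpa using hr2)
  apply Subtype.ext
  rw [← hr, this, map_one]
  rfl

theorem small_rank_one_group {X : Type*} [Group X] {A B : Subgroup X} (h : IsRankOneGroup X A B)
    (hs : IsSpecialRankOnePair A B) (hab : HasAbelianUnipotents A B) (hcard : ENat.card A ≤ 3) :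
    Nonempty (X ≃* Matrix.SpecialLinearGroup (Fin 2) (ZMod 2)) ∨
      Nonempty (X ≃* Matrix.SpecialLinearGroup (Fin 2) (ZMod 3)) ∨
      Nonempty (X ≃* Matrix.ProjectiveSpecialLinearGroup (Fin 2) (ZMod 3)) := by
  obtain ⟨p, a, hp, hp23, ha, ha1, hap, hA⟩ := exists_gen_of_card_le (left_ne_bot h.2) hcard
  haveI : Fact p.Prime := ⟨hp⟩
  obtain ⟨b, r⟩ := exists_rel h.2 ha ha1
  obtain ⟨φ, -, -, hr, hk⟩ := exists_sl2Hom_of_rel hs hab r hap
  have hB : B = Subgroup.zpowers (b⁻¹) := by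
    have h1 := r.conj_pow hs 1
    rw [pow_one, pow_one] at h1
    conv_lhs => rw [← r.conjBy_left, hA, conjBy, MonoidHom.map_zpowers]
    congr 1
  have htop : φ.range = ⊤ := by
    rw [hr, eq_top_iff, ← h.1, hA, hB, Subgroup.zpowers_inv, Subgroup.zpowers_eq_closure,
      Subgroup.zpowers_eq_closure, ← Subgroup.closure_union]
    exact Subgroup.closure_mono (by rintro x (rfl | rfl) <;> simp)
  rcases hp23 with rfl | rfl
  · left
    have hinj : Function.Injective φ :=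
      (MonoidHom.ker_eq_bot_iff φ).1 (eq_bot_iff.2 fun z hz => Subgroup.mem_bot.2
        (center_sl2_two (hk hz)))
    exact ⟨(MulEquiv.ofBijective φ ⟨hinj, MonoidHom.range_eq_top.1 htop⟩).symm⟩
  · right
    rcases sl2_or_psl2_of_hom φ rfl hk with ⟨⟨e⟩⟩ | ⟨⟨e⟩⟩
    · exact Or.inl ⟨Subgroup.topEquiv.symm.trans ((MulEquiv.subgroupCongr htop.symm).trans e)⟩
    · exact Or.inr ⟨Subgroup.topEquiv.symm.trans ((MulEquiv.subgroupCongr htop.symm).trans e)⟩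

end H98
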