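import Cfsg.Agent.H98.Embed
import Cfsg.Agent.H48.Form
import Cfsg.Agent.S5032

/-! Symplectic transvection subgroups as abstract root subgroups. -/

set_option autoImplicit false

namespace H98

open Cfsg Matrix H48

variable {l : Type*} [Fintype l] [DecidableEq l] {F : Type*} [Field F]

/-- The group of symplectic transvections at `p`. -/
def SG (p : l ⊕ l → F) : Subgroup (Matrix.symplecticGroup l F) :=
  Subgroup.closure (Set.range (tv p))

theorem mem_SG {p : l ⊕ l → F} {t : Matrix.symplecticGroup l F} :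
    t ∈ SG p ↔ ∃ c, t = tv p c := by
  refine ⟨fun ht => ?_, fun ⟨c, hc⟩ => hc ▸ Subgroup.subset_closure ⟨c, rfl⟩⟩
  induction ht using Subgroup.closure_induction with
  | mem x hx => obtain ⟨c, rfl⟩ := hx; exact ⟨c, rfl⟩
  | one => exact ⟨0, (tv_zero p).symm⟩
  | mul a b _ _ ha hb =>
    obtain ⟨c, rfl⟩ := ha; obtain ⟨d, rfl⟩ := hb
    exact ⟨c + d, tv_mul p c d⟩
  | inv a _ ha => obtain ⟨c, rfl⟩ := ha; exact ⟨-c, tv_inv p c⟩

theorem SG_commutative (p : l ⊕ l → F) : IsMulCommutative (SG p) := by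
  refine ⟨⟨fun x y => Subtype.ext ?_⟩⟩
  obtain ⟨c, hc⟩ := mem_SG.1 x.2
  obtain ⟨d, hd⟩ := mem_SG.1 y.2
  simp only [Subgroup.coe_mul, hc, hd, tv_mul, add_comm]

theorem SG_ne_bot {p : l ⊕ l → F} (hp : p ≠ 0) : SG p ≠ ⊥ := by
  intro e
  obtain ⟨v, hv⟩ := exists_sf_ne hp
  have h1 : tv p (1 : F) = 1 := Subgroup.mem_bot.1 (e ▸ mem_SG.2 ⟨1, rfl⟩)
  have h2 := congrArg (· • v) h1
  simp only [tv_smul, one_mul, one_smul, add_eq_left, smul_eq_zero] at h2
  rcases h2 with h2 | h2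
  · exact hv (sf_eq_zero_comm h2)
  · exact hp h2

theorem SG_smul (p : l ⊕ l → F) {a : F} (ha : a ≠ 0) : SG (a • p) = SG p := by
  ext t
  rw [mem_SG, mem_SG]
  constructor
  · rintro ⟨c, rfl⟩; exact ⟨_, tv_scale p a c⟩
  · rintro ⟨c, rfl⟩
    exact ⟨(a * a)⁻¹ * c, by rw [tv_scale, mul_inv_cancel_left₀ (mul_ne_zero ha ha)]⟩

theorem SG_conj (g : Matrix.symplecticGroup l F) (p : l ⊕ l → F) :
    conjBy (SG p) g = SG (g • p) := by
  rw [SG, SG, conjBy, MonoidHom.map_closure, ← Set.range_comp]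
  congr 2
  funext c
  exact tv_conj g p c

theorem smul_vec_ne_zero (g : Matrix.symplecticGroup l F) {p : l ⊕ l → F} (hp : p ≠ 0) :
    g • p ≠ 0 := fun e => hp (by rw [← inv_smul_smul g p, e, smul_zero])

theorem SG_commute {p q : l ⊕ l → F} (h : sf p q = 0) : ⁅SG p, SG q⁆ = ⊥ := by
  rw [Subgroup.commutator_eq_bot_iff_le_centralizer]
  intro x hx
  obtain ⟨c, rfl⟩ := mem_SG.1 hx
  rw [Subgroup.mem_centralizer_iff]
  intro y hy
  obtain ⟨d, rfl⟩ := mem_SG.1 hy
  refine sp_ext fun v => ?_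
  simp only [mul_smul, tv_smul, map_add, LinearMap.add_apply, map_smul, LinearMap.smul_apply, h,
    sf_eq_zero_comm h, smul_eq_mul, mul_zero, add_zero]
  abel

/-- The class of all symplectic transvection groups. -/
def sympClass (l F : Type*) [Fintype l] [DecidableEq l] [Field F] :
    Set (Subgroup (Matrix.symplecticGroup l F)) :=
  {A | ∃ p : l ⊕ l → F, p ≠ 0 ∧ A = SG p}

theorem rankOne_SG {p q : l ⊕ l → F} (h : sf p q ≠ 0) :
    IsRankOnePair (SG p) (SG q) ∧ IsPSL2PairOver F (SG p) (SG q) := by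
  rw [← SG_smul q (inv_ne_zero h)]
  have h1 : sf p ((sf p q)⁻¹ • q) = 1 := by rw [map_smul, smul_eq_mul, inv_mul_cancel₀ h]
  generalize (sf p q)⁻¹ • q = r at h1
  have hQ : rowPair (Matrix.J l F *ᵥ r) (-(Matrix.J l F *ᵥ p)) * colPair p r = 1 :=
    rowPair_mul_colPair (by rw [dotProduct_comm, ← sf_def, h1])
      (by rw [dotProduct_comm, ← sf_def, sf_self])
      (by rw [neg_dotProduct, dotProduct_comm, ← sf_def, sf_self, neg_zero])
      (by rw [neg_dotProduct, dotProduct_comm, ← sf_def, sf_swap, h1, neg_neg])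
  have huu : ∀ s : F, embMat (colPair p r) (rowPair (Matrix.J l F *ᵥ r) (-(Matrix.J l F *ᵥ p)))
      (uu s).1 = transMat p (-s) := fun s => by
    rw [embMat_uu, transMat, Matrix.vecMulVec_neg, smul_neg, neg_smul]
  have hll : ∀ s : F, embMat (colPair p r) (rowPair (Matrix.J l F *ᵥ r) (-(Matrix.J l F *ᵥ p)))
      (ll s).1 = transMat r s := fun s => by
    rw [embMat_ll, transMat]
  have hmem : ∀ g : Matrix.SpecialLinearGroup (Fin 2) F,
      embMat (colPair p r) (rowPair (Matrix.J l F *ᵥ r) (-(Matrix.J l F *ᵥ p))) g.1 ∈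
        Matrix.symplecticGroup l F := by
    intro g
    induction g using sl2_induction with
    | hu s => rw [huu]; exact transMat_mem _ _
    | hw =>
      rw [mm, Matrix.SpecialLinearGroup.coe_mul, Matrix.SpecialLinearGroup.coe_mul,
        ← embMat_mul hQ, ← embMat_mul hQ, huu, hll]
      exact mul_mem (mul_mem (transMat_mem _ _) (transMat_mem _ _)) (transMat_mem _ _)
    | hm a b ha hb =>
      rw [Matrix.SpecialLinearGroup.coe_mul, ← embMat_mul hQ]; exact mul_mem ha hb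
  let f : Matrix.SpecialLinearGroup (Fin 2) F →* Matrix.symplecticGroup l F :=
    { toFun := fun g => ⟨_, hmem g⟩
      map_one' := Subtype.ext (embMat_one _ _)
      map_mul' := fun a b => Subtype.ext (embMat_mul hQ a.1 b.1).symm }
  have hf : Function.Injective f := fun a b e =>
    Subtype.ext (embMat_injective hQ (congrArg Subtype.val e))
  have fu : ∀ s : F, f (uu s) = tv p (-s) := fun s => Subtype.ext (huu s)
  have fl : ∀ s : F, f (ll s) = tv r s := fun s => Subtype.ext (hll s)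
  have eU : (upperUnipotentSL2 F).map f = SG p := by
    ext t
    rw [mem_SG, Subgroup.mem_map]
    constructor
    · rintro ⟨g, hg, rfl⟩
      obtain ⟨s, rfl⟩ := mem_upperUnipotentSL2.1 hg
      exact ⟨-s, fu s⟩
    · rintro ⟨s, rfl⟩
      exact ⟨_, mem_upperUnipotentSL2.2 ⟨-s, rfl⟩, by rw [fu, neg_neg]⟩
  have eL : (lowerUnipotentSL2 F).map f = SG r := by
    ext t
    rw [mem_SG, Subgroup.mem_map]
    constructor
    · rintro ⟨g, hg, rfl⟩
      obtain ⟨s, rfl⟩ := mem_lowerUnipotentSL2.1 hg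
      exact ⟨s, fl s⟩
    · rintro ⟨s, rfl⟩
      exact ⟨_, mem_lowerUnipotentSL2.2 ⟨s, rfl⟩, fl s⟩
  have hk : f.ker ≤ Subgroup.center _ := by
    rw [(MonoidHom.ker_eq_bot_iff f).2 hf]; exact bot_le
  rw [← eU, ← eL]
  exact ⟨isRankOnePair_image hk, isPSL2PairOver_image hk⟩

theorem sympClass_pair {A B : Subgroup (Matrix.symplecticGroup l F)} (hA : A ∈ sympClass l F)
    (hB : B ∈ sympClass l F) : ⁅A, B⁆ = ⊥ ∨ (IsRankOnePair A B ∧ IsPSL2PairOver F A B) := by
  obtain ⟨p, -, rfl⟩ := hA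
  obtain ⟨q, -, rfl⟩ := hB
  exact (eq_or_ne (sf p q) 0).imp SG_commute rankOne_SG

theorem sympClass_isRootSubgroupSet : IsRootSubgroupSet (sympClass l F) where
  commutative := by rintro _ ⟨p, -, rfl⟩; exact SG_commutative p
  ne_bot := by rintro _ ⟨p, hp, rfl⟩; exact SG_ne_bot hp
  generates := by
    rw [eq_top_iff, ← transGroup_eq_top (l := l) (F := F), transGroup, Subgroup.closure_le,
      transSet_eq]
    rintro _ ⟨w, c, rfl⟩
    rcases eq_or_ne w 0 with rfl | hw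
    · rw [tv_zero_left]; exact one_mem _
    · exact Subgroup.mem_iSup_of_mem (SG w)
        (Subgroup.mem_iSup_of_mem ⟨w, hw, rfl⟩ (mem_SG.2 ⟨c, rfl⟩))
  conj_mem := by
    rintro _ ⟨p, hp, rfl⟩ g
    exact ⟨_, smul_vec_ne_zero g hp, SG_conj g p⟩
  pair A hA B hB := (sympClass_pair hA hB).imp id (fun h => Or.inl h.1)

theorem sympClass_isConjClass [Nonempty l] : IsConjClassOfSubgroups (sympClass l F) := by
  obtain ⟨i⟩ := ‹Nonempty l›
  refine ⟨⟨_, Pi.single (Sum.inl i) 1, by simp, rfl⟩, ?_⟩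
  rintro _ ⟨p, hp, rfl⟩ _ ⟨q, hq, rfl⟩
  obtain ⟨g, -, hg⟩ := witt_vec hp hq
  exact ⟨g, by rw [SG_conj, hg]⟩

theorem sympClass_degenerate : IsDegenerateRootSet (sympClass l F) := by
  intro A hA B hB hc
  have hS := sympClass_isRootSubgroupSet (l := l) (F := F)
  rcases sympClass_pair hA hB with h | h
  · exact hS.ne_bot _ hc.1 h
  · exact ne_rankOne_of_rootCommutatorCase hS hA hB hc h.1

theorem sympClass_isKRoot : IsKRootSubgroupSet F (sympClass l F) :=
  ⟨sympClass_isRootSubgroupSet, fun _ hA _ hB hr => ((sympClass_pair hA hB).resolve_left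
    (commutator_ne_bot_of_rankOne sympClass_isRootSubgroupSet hA hB hr)).2⟩

theorem sympClass_connected [Nonempty l] :
    IsConnectedFamily (FAdj (sympClass l F)) (sympClass l F) := by
  obtain ⟨i⟩ := ‹Nonempty l›
  have hp : (Pi.single (Sum.inl i) (1 : F) : l ⊕ l → F) ≠ 0 := by simp
  generalize (Pi.single (Sum.inl i) (1 : F) : l ⊕ l → F) = p at hp
  obtain ⟨q, hq⟩ := exists_sf_ne hp
  have hq0 : q ≠ 0 := fun e => hq (by simp [e])
  have hr := (rankOne_SG hq).1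
  exact (Cfsg.Agent.S5032.result sympClass_isRootSubgroupSet
    ⟨_, ⟨p, hp, rfl⟩, _, ⟨q, hq0, rfl⟩, hr.ne⟩).2
    ⟨sympClass_isConjClass, _, ⟨p, hp, rfl⟩,
      not_isolated_of_partner ⟨p, hp, rfl⟩ ⟨q, hq0, rfl⟩ hr⟩

theorem sympClass_eq :
    {A : Subgroup (Matrix.symplecticGroup l F) | ∃ p : l ⊕ l → F, p ≠ 0 ∧
      A = Subgroup.closure {g : Matrix.symplecticGroup l F | ∃ c : F, ∀ v : l ⊕ l → F,
        (g : Matrix (l ⊕ l) (l ⊕ l) F) *ᵥ v = v + (c * (v ⬝ᵥ (Matrix.J l F *ᵥ p))) • p}} =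
      sympClass l F := by
  have e : ∀ p : l ⊕ l → F, Subgroup.closure {g : Matrix.symplecticGroup l F | ∃ c : F,
      ∀ v : l ⊕ l → F, (g : Matrix (l ⊕ l) (l ⊕ l) F) *ᵥ v =
        v + (c * (v ⬝ᵥ (Matrix.J l F *ᵥ p))) • p} = SG p := fun p => by
    rw [SG]
    congr 1
    ext g
    exact ⟨fun ⟨c, hc⟩ => ⟨c, sp_ext fun v => (tv_smul p c v).trans (hc v).symm⟩,
      fun ⟨c, hc⟩ => ⟨c, fun v => hc ▸ tv_smul p c v⟩⟩
  simp only [e]
  rfl

end H98
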