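import Cfsg.Agent.H98.CommutatorCase

/-! Three root subgroups `A`, `B`, `C` with `⁅A, B⁆, ⁅B, C⁆ ∈ S` and `A`, `C` commuting. -/

set_option autoImplicit false

namespace H98

open Cfsg
open scoped commutatorElement

variable {G : Type*} [Group G]

theorem commutator_sup_le_of_normalizes {H K₁ K₂ T : Subgroup G} (h1 : ⁅H, K₁⁆ ≤ T)
    (h2 : ⁅H, K₂⁆ ≤ T) (n : K₁ ⊔ K₂ ≤ Subgroup.normalizer (T : Set G)) : ⁅H, K₁ ⊔ K₂⁆ ≤ T := by
  have key : ∀ x ∈ K₁ ⊔ K₂, ∀ h ∈ H, ⁅h, x⁆ ∈ T := by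
    intro x hx
    suffices x ∈ Subgroup.normalizer (T : Set G) ∧ ∀ h ∈ H, ⁅h, x⁆ ∈ T from this.2
    rw [Subgroup.sup_eq_closure] at hx
    induction hx using Subgroup.closure_induction with
    | mem y hy =>
      refine ⟨hy.elim (fun h => n (Subgroup.mem_sup_left h)) (fun h => n (Subgroup.mem_sup_right h)),
        fun h hh => ?_⟩
      rcases hy with hy | hy
      · exact h1 (Subgroup.commutator_mem_commutator hh hy)
      · exact h2 (Subgroup.commutator_mem_commutator hh hy)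
    | one => exact ⟨one_mem _, fun h _ => by simp [one_mem]⟩
    | mul y z _ _ iy iz =>
      refine ⟨mul_mem iy.1 iz.1, fun h hh => ?_⟩
      rw [show ⁅h, y * z⁆ = ⁅h, y⁆ * (y * ⁅h, z⁆ * y⁻¹) by
        rw [commutatorElement_def, commutatorElement_def, commutatorElement_def]; group]
      exact T.mul_mem (iy.2 h hh) ((Subgroup.mem_normalizer_iff.1 iy.1 _).1 (iz.2 h hh))
    | inv y _ iy =>
      refine ⟨inv_mem iy.1, fun h hh => ?_⟩
      have := (Subgroup.mem_normalizer_iff.1 (inv_mem iy.1) ⁅h, y⁆⁻¹).1 (T.inv_mem (iy.2 h hh))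
      rwa [show y⁻¹ * ⁅h, y⁆⁻¹ * y⁻¹⁻¹ = ⁅h, y⁻¹⁆ by
        rw [commutatorElement_def, commutatorElement_def]; group] at this
  rw [Subgroup.commutator_le]
  exact fun h hh x hx => key x hx h hh

theorem le_normalizer_of_commutator_le {H K : Subgroup G} (h : ⁅H, K⁆ ≤ H) :
    K ≤ Subgroup.normalizer (H : Set G) := by
  intro k hk
  have key : ∀ x ∈ H, ∀ k ∈ K, k * x * k⁻¹ ∈ H := by
    intro x hx k hk
    have := H.mul_mem (H.inv_mem (h (Subgroup.commutator_mem_commutator hx hk))) hx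
    rwa [commutatorElement_def, show (x * k * x⁻¹ * k⁻¹)⁻¹ * x = k * x * k⁻¹ by group] at this
  rw [Subgroup.mem_normalizer_iff]
  intro x
  refine ⟨fun hx => key x hx k hk, fun hx => ?_⟩
  have := key _ hx k⁻¹ (K.inv_mem hk)
  rwa [show k⁻¹ * (k * x * k⁻¹) * k⁻¹⁻¹ = x by group] at this

theorem le_normalizer_of_centralizes {H K : Subgroup G} (h : ⁅H, K⁆ = ⊥) :
    K ≤ Subgroup.normalizer (H : Set G) :=
  le_normalizer_of_commutator_le (h ▸ bot_le)

theorem commutator_sup_eq_bot {H K₁ K₂ : Subgroup G} (h1 : ⁅H, K₁⁆ = ⊥) (h2 : ⁅H, K₂⁆ = ⊥) :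
    ⁅H, K₁ ⊔ K₂⁆ = ⊥ := by
  rw [Subgroup.commutator_comm, Subgroup.commutator_eq_bot_iff_le_centralizer]
  rw [Subgroup.commutator_comm, Subgroup.commutator_eq_bot_iff_le_centralizer] at h1 h2
  exact sup_le h1 h2

variable {S : Set (Subgroup G)}

theorem commute_commutator_right {A B : Subgroup G} (h : RootCommutatorCase S A B) :
    ∀ b ∈ B, ∀ c ∈ ⁅A, B⁆, Commute b c :=
  fun b hb c hc => (h.2.1 c hc b (Subgroup.mem_sup_right hb)).symm

theorem commutator_case_left_bot {A B : Subgroup G} (h : RootCommutatorCase S A B) :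
    ⁅⁅A, B⁆, A⁆ = ⊥ := by
  rw [Subgroup.commutator_eq_bot_iff_le_centralizer]
  intro x hx
  rw [Subgroup.mem_centralizer_iff]
  exact fun y hy => (commute_commutator_left h y hy x hx).eq

theorem commutator_case_right_bot {A B : Subgroup G} (h : RootCommutatorCase S A B) :
    ⁅⁅A, B⁆, B⁆ = ⊥ := by
  rw [Subgroup.commutator_eq_bot_iff_le_centralizer]
  intro x hx
  rw [Subgroup.mem_centralizer_iff]
  exact fun y hy => (commute_commutator_right h y hy x hx).eq

/-- For `b⁻¹ A b`: every element of `⁅A, B⁆` occurs as `a⁻¹ b⁻¹ a b`. -/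
theorem exists_conj_shift {A B : Subgroup G} (h : RootCommutatorCase S A B) {b : G} (hb : b ∈ B)
    (hb1 : b ≠ 1) {z : G} (hz : z ∈ ⁅A, B⁆) : ∃ a ∈ A, b⁻¹ * a * b = a * z := by
  obtain ⟨a, ha, e⟩ := exists_comm_eq (rootCommutatorCase_symm h) (B.inv_mem hb) (inv_ne_one.2 hb1)
    (z := z) (by rwa [Subgroup.commutator_comm])
  refine ⟨a, ha, ?_⟩
  rw [inv_inv] at e
  rw [(commute_commutator_left h a ha z hz).eq, ← e]
  group

theorem shift_mem {A B : Subgroup G} (h : RootCommutatorCase S A B) {a b : G} (ha : a ∈ A)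
    (hb : b ∈ B) : ∃ z ∈ ⁅A, B⁆, b⁻¹ * a * b = a * z :=
  ⟨a⁻¹ * b⁻¹ * a * b, by
    have := Subgroup.commutator_mem_commutator (A.inv_mem ha) (B.inv_mem hb)
    simpa [commutatorElement_def] using this, by group⟩

variable (hS : IsRootSubgroupSet S) {A B C : Subgroup G}

include hS

/-- If `C` centralises `A` then `(A, ⁅B, C⁆)` is no rank one pair. -/
theorem not_rankOne_chain (hA : A ∈ S) (hC : C ∈ S) (hBC : RootCommutatorCase S B C)
    (hAC : ⁅A, C⁆ = ⊥) : ¬ IsRankOnePair A ⁅B, C⁆ := by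
  intro hr
  obtain ⟨e, he, he1⟩ := exists_mem_ne_one (hS.ne_bot _ hBC.1)
  obtain ⟨b, hb, hb1⟩ := exists_mem_ne_one (hS.ne_bot C hC)
  have hsym := rootCommutatorCase_symm hBC
  obtain ⟨y, hy, hye⟩ := exists_conj_eq_mul hsym hb hb1 (z := e) (by rwa [Subgroup.commutator_comm])
  have hz : b ∈ Subgroup.centralizer ((⁅B, C⁆ ⊔ A : Subgroup G) : Set G) := by
    have hle : ⁅B, C⁆ ⊔ A ≤ Subgroup.centralizer (C : Set G) := by
      refine sup_le ?_ ?_ <;> rw [← Subgroup.commutator_eq_bot_iff_le_centralizer]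
      · exact commutator_case_right_bot hBC
      · exact hAC
    rw [Subgroup.mem_centralizer_iff]
    exact fun x hx => (Subgroup.mem_centralizer_iff.1 (hle hx) b hb).symm
  refine not_rootElement_mul hS hA (RankOnePair_symm hr) hz hb1 he he1
    ⟨?_, conjBy C y, hS.conj_mem C hC y, ?_⟩
  · rw [← hye]; exact fun e' => hb1 (conj_eq_one_iff.1 e')
  · rw [← hye]; exact conj_mem_conjBy y hb

theorem central_chain (hA : A ∈ S) (hC : C ∈ S) (hBC : RootCommutatorCase S B C)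
    (hAC : ⁅A, C⁆ = ⊥) :
    ⁅⁅A, ⁅B, C⁆⁆, A⁆ = ⊥ ∧ ⁅⁅A, ⁅B, C⁆⁆, ⁅B, C⁆⁆ = ⊥ ∧ ⁅⁅A, ⁅B, C⁆⁆, C⁆ = ⊥ := by
  have hCc : ⁅⁅A, ⁅B, C⁆⁆, C⁆ = ⊥ := by
    rw [Subgroup.commutator_eq_bot_iff_le_centralizer, Subgroup.commutator_le]
    have h1 := Subgroup.commutator_eq_bot_iff_le_centralizer.1 hAC
    have h2 := Subgroup.commutator_eq_bot_iff_le_centralizer.1 (commutator_case_right_bot hBC)
    intro a ha e he
    rw [commutatorElement_def]
    exact mul_mem (mul_mem (mul_mem (h1 ha) (h2 he)) (inv_mem (h1 ha))) (inv_mem (h2 he))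
  rcases hS.pair A hA _ hBC.1 with h | h | h
  · rw [h]; simp [Subgroup.commutator_bot_left]
  · exact absurd h (not_rankOne_chain hS hA hC hBC hAC)
  · exact ⟨commutator_case_left_bot h, commutator_case_right_bot h, hCc⟩

/-- The whole structure of `⟨A, B, C⟩`. -/
theorem chain_structure (hA : A ∈ S) (hB : B ∈ S) (hC : C ∈ S) (hAB : RootCommutatorCase S A B)
    (hBC : RootCommutatorCase S B C) (hAC : ⁅A, C⁆ = ⊥) {b : G} (hb : b ∈ B) (hb1 : b ≠ 1) :
    ((IsMulCommutative ↥(A ⊔ conjBy C b⁻¹) ∧ IsMulCommutative ↥(conjBy A b⁻¹ ⊔ C)) ∨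
      ((¬ IsMulCommutative ↥(A ⊔ conjBy C b⁻¹) ∧
          ⁅⁅A ⊔ conjBy C b⁻¹, A ⊔ conjBy C b⁻¹⁆, A ⊔ conjBy C b⁻¹⁆ = ⊥) ∧
        (¬ IsMulCommutative ↥(conjBy A b⁻¹ ⊔ C) ∧
          ⁅⁅conjBy A b⁻¹ ⊔ C, conjBy A b⁻¹ ⊔ C⁆, conjBy A b⁻¹ ⊔ C⁆ = ⊥))) ∧
    ⁅A ⊔ conjBy C b⁻¹, conjBy A b⁻¹ ⊔ C⁆ = ⊥ ∧
    (∀ r ∈ A ⊔ B ⊔ C, conjBy ((A ⊔ conjBy C b⁻¹) ⊔ (conjBy A b⁻¹ ⊔ C)) r =
      (A ⊔ conjBy C b⁻¹) ⊔ (conjBy A b⁻¹ ⊔ C)) ∧
    ((A ⊔ conjBy C b⁻¹) ⊔ (conjBy A b⁻¹ ⊔ C)) ⊔ B = A ⊔ B ⊔ C ∧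
    Group.IsNilpotent ↥(A ⊔ B ⊔ C) := by
  have hCA : ⁅C, A⁆ = ⊥ := by rw [Subgroup.commutator_comm]; exact hAC
  have hCB := rootCommutatorCase_symm hBC
  obtain ⟨zA, zE, zC⟩ := central_chain hS hA hC hBC hAC
  have hBA := rootCommutatorCase_symm hAB
  obtain ⟨wC, wF, wA⟩ := central_chain hS hC hA hBA hCA
  rw [Subgroup.commutator_comm B A] at wC wF wA
  obtain ⟨F, hFdef⟩ : ∃ F, F = ⁅A, B⁆ := ⟨_, rfl⟩
  obtain ⟨E, hEdef⟩ : ∃ E, E = ⁅B, C⁆ := ⟨_, rfl⟩
  obtain ⟨Z, hZdef⟩ : ∃ Z, Z = ⁅A, E⁆ := ⟨_, rfl⟩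
  obtain ⟨W, hWdef⟩ : ∃ W, W = ⁅C, F⁆ := ⟨_, rfl⟩
  rw [← hEdef, ← hZdef] at zA zE zC
  rw [← hFdef, ← hWdef] at wC wF wA
  have fA : ⁅F, A⁆ = ⊥ := hFdef ▸ commutator_case_left_bot hAB
  have fB : ⁅F, B⁆ = ⊥ := hFdef ▸ commutator_case_right_bot hAB
  have eB : ⁅E, B⁆ = ⊥ := hEdef ▸ commutator_case_left_bot hBC
  have eC : ⁅E, C⁆ = ⊥ := hEdef ▸ commutator_case_right_bot hBC
  have cm : ∀ {H K : Subgroup G}, ⁅H, K⁆ = ⊥ → ∀ {x y : G}, x ∈ H → y ∈ K → Commute x y :=
    fun {_ _} h {_ _} hx hy => commute_of_commutator_eq_bot h hx hy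
  obtain ⟨X, hX⟩ : ∃ X, X = A ⊔ conjBy C b⁻¹ := ⟨_, rfl⟩
  obtain ⟨Y, hY⟩ : ∃ Y, Y = conjBy A b⁻¹ ⊔ C := ⟨_, rfl⟩
  rw [← hX, ← hY]
  have shA : ∀ x ∈ conjBy A b⁻¹, ∃ a ∈ A, ∃ f ∈ F, x = a * f := by
    intro x hx
    rw [mem_conjBy, inv_inv] at hx
    obtain ⟨f, hf, e⟩ := shift_mem hAB hx hb
    exact ⟨_, hx, f, hFdef ▸ hf, by rw [← e]; group⟩
  have shC : ∀ x ∈ conjBy C b⁻¹, ∃ c ∈ C, ∃ e ∈ E, x = c * e := by
    intro x hx
    rw [mem_conjBy, inv_inv] at hx
    obtain ⟨f, hf, e⟩ := shift_mem hCB hx hb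
    exact ⟨_, hx, f, by rw [hEdef, Subgroup.commutator_comm]; exact hf, by rw [← e]; group⟩
  have surA : ∀ f ∈ F, ∃ a ∈ A, a * f ∈ conjBy A b⁻¹ := by
    intro f hf
    obtain ⟨a, ha, e⟩ := exists_conj_shift hAB hb hb1 (hFdef ▸ hf)
    exact ⟨a, ha, by rw [← e]; simpa using conj_mem_conjBy b⁻¹ ha⟩
  have surC : ∀ e ∈ E, ∃ c ∈ C, c * e ∈ conjBy C b⁻¹ := by
    intro f hf
    obtain ⟨a, ha, e⟩ := exists_conj_shift hCB hb hb1 (z := f)
      (by rw [Subgroup.commutator_comm, ← hEdef]; exact hf)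
    exact ⟨a, ha, by rw [← e]; simpa using conj_mem_conjBy b⁻¹ ha⟩
  have hconjAC : ⁅conjBy A b⁻¹, conjBy C b⁻¹⁆ = ⊥ := by
    rw [conjBy, conjBy, ← Subgroup.map_commutator, hAC, Subgroup.map_bot]
  have hAA : ⁅A, conjBy A b⁻¹⁆ = ⊥ := by
    rw [Subgroup.commutator_eq_bot_iff_le_centralizer]
    intro a ha
    rw [Subgroup.mem_centralizer_iff]
    intro y hy
    obtain ⟨a', ha', f, hf, rfl⟩ := shA y hy
    exact ((commute_of_mem hS hA ha' ha).mul_left (cm fA hf ha)).eq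
  have hCC : ⁅C, conjBy C b⁻¹⁆ = ⊥ := by
    rw [Subgroup.commutator_eq_bot_iff_le_centralizer]
    intro a ha
    rw [Subgroup.mem_centralizer_iff]
    intro y hy
    obtain ⟨a', ha', f, hf, rfl⟩ := shC y hy
    exact ((commute_of_mem hS hC ha' ha).mul_left (cm eC hf ha)).eq
  have hXY : ⁅X, Y⁆ = ⊥ := by
    rw [hX, hY, Subgroup.commutator_comm]
    refine commutator_sup_eq_bot ?_ ?_ <;> rw [Subgroup.commutator_comm] <;>
      refine commutator_sup_eq_bot ?_ ?_
    · exact hAA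
    · exact hAC
    · rw [Subgroup.commutator_comm]; exact hconjAC
    · rw [Subgroup.commutator_comm]; exact hCC
  have zX : ⁅Z, X⁆ = ⊥ := by
    rw [hX]
    refine commutator_sup_eq_bot zA ?_
    rw [Subgroup.commutator_eq_bot_iff_le_centralizer]
    intro z hz
    rw [Subgroup.mem_centralizer_iff]
    intro y hy
    obtain ⟨c, hc, e, he, rfl⟩ := shC y hy
    exact ((cm zC hz hc).mul_right (cm zE hz he)).symm.eq
  have wY : ⁅W, Y⁆ = ⊥ := by
    rw [hY]
    refine commutator_sup_eq_bot ?_ wC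
    rw [Subgroup.commutator_eq_bot_iff_le_centralizer]
    intro z hz
    rw [Subgroup.mem_centralizer_iff]
    intro y hy
    obtain ⟨c, hc, e, he, rfl⟩ := shA y hy
    exact ((cm wA hz hc).mul_right (cm wF hz he)).symm.eq
  -- the commutators inside `X` and `Y`
  have keyX : ∀ a ∈ A, ∀ c ∈ C, ∀ e ∈ E, ⁅a, c * e⁆ = ⁅a, e⁆ := by
    intro a ha c hc e he
    have h1 : Commute c ⁅a, e⁆ :=
      (cm zC (hZdef ▸ Subgroup.commutator_mem_commutator ha he) hc).symm
    have h2 : ⁅a, c⁆ = 1 := commutatorElement_eq_one_iff_commute.2 (cm hAC ha hc)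
    calc ⁅a, c * e⁆ = ⁅a, c⁆ * (c * ⁅a, e⁆ * c⁻¹) := by
          rw [commutatorElement_def, commutatorElement_def, commutatorElement_def]; group
      _ = ⁅a, e⁆ := by rw [h2, h1.eq, one_mul, mul_inv_cancel_right]
  have keyY : ∀ a ∈ A, ∀ c ∈ C, ∀ f ∈ F, ⁅c, a * f⁆ = ⁅c, f⁆ := by
    intro a ha c hc f hf
    have h1 : Commute a ⁅c, f⁆ :=
      (cm wA (hWdef ▸ Subgroup.commutator_mem_commutator hc hf) ha).symm
    have h2 : ⁅c, a⁆ = 1 := commutatorElement_eq_one_iff_commute.2 (cm hCA hc ha)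
    calc ⁅c, a * f⁆ = ⁅c, a⁆ * (a * ⁅c, f⁆ * a⁻¹) := by
          rw [commutatorElement_def, commutatorElement_def, commutatorElement_def]; group
      _ = ⁅c, f⁆ := by rw [h2, h1.eq, one_mul, mul_inv_cancel_right]
  have xZ : ⁅A, conjBy C b⁻¹⁆ = Z := by
    apply le_antisymm
    · rw [Subgroup.commutator_le]
      intro a ha y hy
      obtain ⟨c, hc, e, he, rfl⟩ := shC y hy
      rw [keyX a ha c hc e he, hZdef]
      exact Subgroup.commutator_mem_commutator ha he
    · rw [hZdef, Subgroup.commutator_le]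
      intro a ha e he
      obtain ⟨c, hc, hce⟩ := surC e he
      rw [← keyX a ha c hc e he]
      exact Subgroup.commutator_mem_commutator ha hce
  have yW : ⁅C, conjBy A b⁻¹⁆ = W := by
    apply le_antisymm
    · rw [Subgroup.commutator_le]
      intro c hc y hy
      obtain ⟨a, ha, f, hf, rfl⟩ := shA y hy
      rw [keyY a ha c hc f hf, hWdef]
      exact Subgroup.commutator_mem_commutator hc hf
    · rw [hWdef, Subgroup.commutator_le]
      intro c hc f hf
      obtain ⟨a, ha, haf⟩ := surA f hf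
      rw [← keyY a ha c hc f hf]
      exact Subgroup.commutator_mem_commutator hc haf
  -- three subgroups
  have hiff : Z = ⊥ ↔ W = ⊥ := by
    constructor
    · intro h
      rw [hWdef, Subgroup.commutator_comm, hFdef]
      refine Subgroup.commutator_commutator_eq_bot_of_rotate ?_ ?_
      · rw [← hEdef, Subgroup.commutator_comm E A, ← hZdef, h]
      · rw [hCA, Subgroup.commutator_bot_left]
    · intro h
      rw [hZdef, Subgroup.commutator_comm, hEdef, Subgroup.commutator_comm B C]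
      refine Subgroup.commutator_commutator_eq_bot_of_rotate ?_ ?_
      · rw [Subgroup.commutator_comm B A, ← hFdef, Subgroup.commutator_comm F C, ← hWdef, h]
      · rw [hAC, Subgroup.commutator_bot_left]
  have selfA : ⁅A, A⁆ = ⊥ := by
    rw [Subgroup.commutator_eq_bot_iff_le_centralizer]
    intro x hx; rw [Subgroup.mem_centralizer_iff]; exact fun y hy => (commute_of_mem hS hA hy hx).eq
  have selfC : ⁅C, C⁆ = ⊥ := by
    rw [Subgroup.commutator_eq_bot_iff_le_centralizer]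
    intro x hx; rw [Subgroup.mem_centralizer_iff]; exact fun y hy => (commute_of_mem hS hC hy hx).eq
  have selfA' : ⁅conjBy A b⁻¹, conjBy A b⁻¹⁆ = ⊥ := by
    rw [conjBy, ← Subgroup.map_commutator, selfA, Subgroup.map_bot]
  have selfC' : ⁅conjBy C b⁻¹, conjBy C b⁻¹⁆ = ⊥ := by
    rw [conjBy, ← Subgroup.map_commutator, selfC, Subgroup.map_bot]
  have nZ : A ⊔ conjBy C b⁻¹ ≤ Subgroup.normalizer (Z : Set G) := by
    rw [← hX]; exact le_normalizer_of_centralizes zX
  have nW : conjBy A b⁻¹ ⊔ C ≤ Subgroup.normalizer (W : Set G) := by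
    rw [← hY]; exact le_normalizer_of_centralizes wY
  have derX : ⁅X, X⁆ = Z := by
    apply le_antisymm
    · rw [hX]
      refine commutator_sup_le_of_normalizes ?_ ?_ nZ <;> rw [Subgroup.commutator_comm] <;>
        refine commutator_sup_le_of_normalizes ?_ ?_ nZ
      · rw [selfA]; exact bot_le
      · rw [xZ]
      · rw [Subgroup.commutator_comm, xZ]
      · rw [selfC']; exact bot_le
    · rw [← xZ, hX]; exact Subgroup.commutator_mono le_sup_left le_sup_right
  have derY : ⁅Y, Y⁆ = W := by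
    apply le_antisymm
    · rw [hY]
      refine commutator_sup_le_of_normalizes ?_ ?_ nW <;> rw [Subgroup.commutator_comm] <;>
        refine commutator_sup_le_of_normalizes ?_ ?_ nW
      · rw [selfA']; exact bot_le
      · rw [Subgroup.commutator_comm, yW]
      · rw [yW]
      · rw [selfC]; exact bot_le
    · rw [← yW, hY]; exact Subgroup.commutator_mono le_sup_right le_sup_left
  have comm_iff : ∀ H : Subgroup G, IsMulCommutative ↥H ↔ ⁅H, H⁆ = ⊥ := by
    intro H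
    rw [Subgroup.commutator_eq_bot_iff_le_centralizer, Subgroup.le_centralizer_iff_isMulCommutative]
  obtain ⟨M, hM⟩ : ∃ M, M = X ⊔ Y := ⟨_, rfl⟩
  rw [← hM]
  have AM : A ≤ M := by rw [hM, hX]; exact le_sup_left.trans le_sup_left
  have CM : C ≤ M := by rw [hM, hY]; exact le_sup_right.trans le_sup_right
  have A'M : conjBy A b⁻¹ ≤ M := by rw [hM, hY]; exact le_sup_left.trans le_sup_right
  have C'M : conjBy C b⁻¹ ≤ M := by rw [hM, hX]; exact le_sup_right.trans le_sup_left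
  have FM : F ≤ M := fun f hf => by
    obtain ⟨a, ha, haf⟩ := surA f hf
    simpa using M.mul_mem (M.inv_mem (AM ha)) (A'M haf)
  have EM : E ≤ M := fun f hf => by
    obtain ⟨a, ha, haf⟩ := surC f hf
    simpa using M.mul_mem (M.inv_mem (CM ha)) (C'M haf)
  have hMeq : M = A ⊔ C ⊔ (F ⊔ E) := by
    refine le_antisymm ?_ (sup_le (sup_le AM CM) (sup_le FM EM))
    rw [hM, hX, hY]
    refine sup_le (sup_le (le_sup_left.trans le_sup_left) fun x hx => ?_)
      (sup_le (fun x hx => ?_) (le_sup_right.trans le_sup_left))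
    · obtain ⟨c, hc, e, he, rfl⟩ := shC x hx
      exact Subgroup.mul_mem _ (Subgroup.mem_sup_left (Subgroup.mem_sup_right hc))
        (Subgroup.mem_sup_right (Subgroup.mem_sup_right he))
    · obtain ⟨a, ha, f, hf, rfl⟩ := shA x hx
      exact Subgroup.mul_mem _ (Subgroup.mem_sup_left (Subgroup.mem_sup_left ha))
        (Subgroup.mem_sup_right (Subgroup.mem_sup_left hf))
  have hBM : B ≤ Subgroup.normalizer (M : Set G) := by
    refine le_normalizer_of_commutator_le ?_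
    have key : ∀ {H : Subgroup G}, H ≤ M → ⁅B, H⁆ ≤ M → ∀ x ∈ H, ∀ y ∈ B, y * x * y⁻¹ ∈ M := by
      intro H h1 h2 x hx y hy
      have := M.mul_mem (h2 (Subgroup.commutator_mem_commutator hy hx)) (h1 hx)
      rwa [commutatorElement_def, inv_mul_cancel_right] at this
    have kA := key AM (by rw [Subgroup.commutator_comm, ← hFdef]; exact FM)
    have kC := key CM (by rw [← hEdef]; exact EM)
    have kF := key FM (by rw [Subgroup.commutator_comm, fB]; exact bot_le)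
    have kE := key EM (by rw [Subgroup.commutator_comm, eB]; exact bot_le)
    have hall : ∀ x ∈ M, ∀ y ∈ B, y * x * y⁻¹ ∈ M := by
      intro x hx y hy
      have hle : A ⊔ C ⊔ (F ⊔ E) ≤ M.comap (MulAut.conj y).toMonoidHom :=
        sup_le (sup_le (fun x hx => kA x hx y hy) fun x hx => kC x hx y hy)
          (sup_le (fun x hx => kF x hx y hy) fun x hx => kE x hx y hy)
      exact hle (hMeq ▸ hx)
    rw [Subgroup.commutator_le]
    intro x hx y hy
    rw [commutatorElement_def, mul_assoc, mul_assoc]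
    refine M.mul_mem hx ?_
    rw [← mul_assoc]
    exact hall _ (M.inv_mem hx) y hy
  have hRn : A ⊔ B ⊔ C ≤ Subgroup.normalizer (M : Set G) :=
    sup_le (sup_le (AM.trans Subgroup.le_normalizer) hBM) (CM.trans Subgroup.le_normalizer)
  have hMR : M ⊔ B = A ⊔ B ⊔ C := by
    refine le_antisymm (sup_le ?_ (le_sup_right.trans le_sup_left))
      (sup_le (sup_le (AM.trans le_sup_left) le_sup_right) (CM.trans le_sup_left))
    rw [hMeq]
    refine sup_le (sup_le (le_sup_left.trans le_sup_left) le_sup_right) (sup_le ?_ ?_)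
    · rw [hFdef, Subgroup.commutator_le]
      intro x hx y hy
      exact Subgroup.mul_mem _ (Subgroup.mul_mem _ (Subgroup.mul_mem _
        (Subgroup.mem_sup_left (Subgroup.mem_sup_left hx))
        (Subgroup.mem_sup_left (Subgroup.mem_sup_right hy)))
        (Subgroup.inv_mem _ (Subgroup.mem_sup_left (Subgroup.mem_sup_left hx))))
        (Subgroup.inv_mem _ (Subgroup.mem_sup_left (Subgroup.mem_sup_right hy)))
    · rw [hEdef, Subgroup.commutator_le]
      intro x hx y hy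
      exact Subgroup.mul_mem _ (Subgroup.mul_mem _ (Subgroup.mul_mem _
        (Subgroup.mem_sup_left (Subgroup.mem_sup_right hx))
        (Subgroup.mem_sup_right hy))
        (Subgroup.inv_mem _ (Subgroup.mem_sup_left (Subgroup.mem_sup_right hx))))
        (Subgroup.inv_mem _ (Subgroup.mem_sup_right hy))
  refine ⟨?_, hXY, fun r hr => conjBy_eq_self_iff.2 (hRn hr), hMR, ?_⟩
  · by_cases h : Z = ⊥
    · exact Or.inl ⟨(comm_iff X).2 (derX.trans h), (comm_iff Y).2 (derY.trans (hiff.1 h))⟩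
    · exact Or.inr ⟨⟨fun hc => h (derX ▸ (comm_iff X).1 hc), derX ▸ zX⟩,
        fun hc => h (hiff.2 (derY ▸ (comm_iff Y).1 hc)), derY ▸ wY⟩
  · -- the central series `R ⊇ F E Z W ⊇ Z W ⊇ ⁅F, E⁆ ⊇ 1`
    have zM : ⁅Z, M⁆ = ⊥ := by
      rw [hM]
      refine commutator_sup_eq_bot zX (eq_bot_iff.2 ?_)
      rw [← hXY]
      refine Subgroup.commutator_mono ?_ le_rfl
      rw [← xZ, hX, Subgroup.commutator_le]
      exact fun x hx y hy => Subgroup.mul_mem _ (Subgroup.mul_mem _ (Subgroup.mul_mem _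
        (Subgroup.mem_sup_left hx) (Subgroup.mem_sup_right hy))
        (Subgroup.inv_mem _ (Subgroup.mem_sup_left hx)))
        (Subgroup.inv_mem _ (Subgroup.mem_sup_right hy))
    have wM : ⁅W, M⁆ = ⊥ := by
      rw [hM]
      refine commutator_sup_eq_bot (eq_bot_iff.2 ?_) wY
      rw [← hXY, Subgroup.commutator_comm X Y]
      refine Subgroup.commutator_mono ?_ le_rfl
      rw [← yW, hY, Subgroup.commutator_le]
      exact fun x hx y hy => Subgroup.mul_mem _ (Subgroup.mul_mem _ (Subgroup.mul_mem _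
        (Subgroup.mem_sup_right hx) (Subgroup.mem_sup_left hy))
        (Subgroup.inv_mem _ (Subgroup.mem_sup_right hx)))
        (Subgroup.inv_mem _ (Subgroup.mem_sup_left hy))
    obtain ⟨Q, hQdef⟩ : ∃ Q, Q = ⁅F, E⁆ := ⟨_, rfl⟩
    have hQ : Q ≤ Z ⊔ W := by
      rw [hQdef, Subgroup.commutator_le]
      intro f hf e he
      obtain ⟨a, ha, haf⟩ := surA f hf
      obtain ⟨c, hc, hce⟩ := surC e he
      have hz : ⁅a, e⁆ ∈ Z := hZdef ▸ Subgroup.commutator_mem_commutator ha he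
      have hw : ⁅c, f⁆ ∈ W := hWdef ▸ Subgroup.commutator_mem_commutator hc hf
      have h1 : ⁅a * f, c * e⁆ = 1 := commutatorElement_eq_one_iff_commute.2 (cm hconjAC haf hce)
      have h2 := keyY a ha c hc f hf
      have ha' : Commute a ⁅f, e⁆ → ⁅a * f, e⁆ = ⁅f, e⁆ * ⁅a, e⁆ := fun hcm => by
        calc ⁅a * f, e⁆ = a * ⁅f, e⁆ * a⁻¹ * ⁅a, e⁆ := by
              rw [commutatorElement_def, commutatorElement_def, commutatorElement_def]; group
          _ = _ := by rw [hcm.eq, mul_inv_cancel_right]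
      have h3 : ⁅a * f, c * e⁆ = ⁅c, a * f⁆⁻¹ * (c * (a * ⁅f, e⁆ * a⁻¹ * ⁅a, e⁆) * c⁻¹) := by
        simp only [commutatorElement_def]; group
      rw [h1, h2] at h3
      have h4 : ⁅f, e⁆ = a⁻¹ * (c⁻¹ * ⁅c, f⁆ * c * ⁅a, e⁆⁻¹) * a := by
        have h5 : c * (a * ⁅f, e⁆ * a⁻¹ * ⁅a, e⁆) * c⁻¹ = ⁅c, f⁆ := (inv_mul_eq_one.1 h3.symm).symm
        rw [← h5]; group
      have h6 : c⁻¹ * ⁅c, f⁆ * c = ⁅c, f⁆ := by
        rw [(cm wC hw hc).symm.inv_left.eq, inv_mul_cancel_right]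
      have h7 : Commute (⁅c, f⁆ * ⁅a, e⁆⁻¹) a := (cm wA hw ha).mul_left (cm zA hz ha).inv_left
      rw [h4, h6, mul_assoc a⁻¹, h7.eq, inv_mul_cancel_left]
      exact Subgroup.mul_mem _ (Subgroup.mem_sup_right hw)
        (Subgroup.mem_sup_left (Z.inv_mem hz))
    have qM : ⁅Q, M⁆ = ⊥ := by
      refine eq_bot_iff.2 ((Subgroup.commutator_mono hQ le_rfl).trans (le_of_eq ?_))
      rw [Subgroup.commutator_comm]
      exact commutator_sup_eq_bot (by rw [Subgroup.commutator_comm]; exact zM)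
        (by rw [Subgroup.commutator_comm]; exact wM)
    have qB : ⁅Q, B⁆ = ⊥ := by
      rw [Subgroup.commutator_eq_bot_iff_le_centralizer, hQdef, Subgroup.commutator_le]
      intro f hf e he
      have h1 := Subgroup.commutator_eq_bot_iff_le_centralizer.1 fB hf
      have h2 := Subgroup.commutator_eq_bot_iff_le_centralizer.1 eB he
      rw [commutatorElement_def]
      exact mul_mem (mul_mem (mul_mem h1 h2) (inv_mem h1)) (inv_mem h2)
    -- `B` moves `Z` and `W` only inside `Q`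
    have shift : ∀ {P D T : Subgroup G}, ⁅D, B⁆ = ⊥ → ⁅Q, P⁆ = ⊥ → ⁅Q, D⁆ = ⊥ →
        ⁅⁅P, D⁆, T⁆ = ⊥ → ⁅P, B⁆ ≤ T → ⁅T, D⁆ ≤ Q → ⁅⁅P, D⁆, B⁆ ≤ Q := by
      intro P D T hDB hQP hQD hzT hPB hTD
      have key : ∀ z ∈ ⁅P, D⁆, ∀ y ∈ B, ⁅y, z⁆ ∈ Q := by
        intro z hz y hy
        rw [Subgroup.commutator_def] at hz
        suffices ⁅y, z⁆ ∈ Q ∧ z ∈ Subgroup.centralizer (Q : Set G) from this.1
        induction hz using Subgroup.closure_induction with
        | mem z hz =>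
          obtain ⟨p, hp, d, hd, rfl⟩ := hz
          refine ⟨?_, ?_⟩
          · have hydy : y * d * y⁻¹ = d := by
              rw [(cm hDB hd hy).symm.eq, mul_inv_cancel_right]
            obtain ⟨t, ht, het⟩ : ∃ t ∈ T, y * p * y⁻¹ = t * p :=
              ⟨⁅y, p⁆, hPB (by rw [Subgroup.commutator_comm]; exact Subgroup.commutator_mem_commutator hy hp),
                by rw [commutatorElement_def]; group⟩
            have hp' : y * ⁅p, d⁆ * y⁻¹ = ⁅t * p, d⁆ := by
              rw [← het]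
              conv_rhs => rw [← hydy]
              simp only [commutatorElement_def]; group
            have hq : ⁅t, d⁆ ∈ Q := hTD (Subgroup.commutator_mem_commutator ht hd)
            have htd : ⁅t * p, d⁆ = (t * ⁅p, d⁆ * t⁻¹) * ⁅t, d⁆ := by
              simp only [commutatorElement_def]; group
            have htz : Commute t ⁅p, d⁆ := by
              have hz1 : ⁅p, d⁆ ∈ ⁅P, D⁆ := Subgroup.commutator_mem_commutator hp hd
              exact (cm hzT hz1 ht).symm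
            rw [commutatorElement_def (g₁ := y), hp', htd, htz.eq, mul_inv_cancel_right]
            have hzq : Commute ⁅p, d⁆ ⁅t, d⁆ := by
              rw [commutatorElement_def (g₁ := p)]
              exact ((((cm hQP hq hp).symm).mul_left (cm hQD hq hd).symm).mul_left
                (cm hQP hq hp).symm.inv_left).mul_left (cm hQD hq hd).symm.inv_left
            rw [hzq.eq, mul_inv_cancel_right]
            exact hq
          · rw [Subgroup.mem_centralizer_iff]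
            intro q hq
            rw [commutatorElement_def]
            exact (((((cm hQP hq hp).mul_right (cm hQD hq hd))).mul_right
              (cm hQP hq hp).inv_right).mul_right (cm hQD hq hd).inv_right).eq
        | one => exact ⟨by simp [one_mem], one_mem _⟩
        | mul u v _ _ iu iv =>
          refine ⟨?_, mul_mem iu.2 iv.2⟩
          rw [show ⁅y, u * v⁆ = ⁅y, u⁆ * (u * ⁅y, v⁆ * u⁻¹) by
            simp only [commutatorElement_def]; group,
            ← Subgroup.mem_centralizer_iff.1 iu.2 _ iv.1, mul_inv_cancel_right]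
          exact Q.mul_mem iu.1 iv.1
        | inv u _ iu =>
          refine ⟨?_, inv_mem iu.2⟩
          rw [show ⁅y, u⁻¹⁆ = u⁻¹ * ⁅y, u⁆⁻¹ * u by simp only [commutatorElement_def]; group,
            mul_assoc, Subgroup.mem_centralizer_iff.1 iu.2 _ (Q.inv_mem iu.1), inv_mul_cancel_left]
          exact Q.inv_mem iu.1
      rw [Subgroup.commutator_le]
      intro z hz y hy
      have := Q.inv_mem (key z hz y hy)
      rwa [commutatorElement_inv] at this
    have qle : ∀ {K : Subgroup G}, K ≤ M → ⁅Q, K⁆ = ⊥ := fun hK =>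
      eq_bot_iff.2 ((Subgroup.commutator_mono le_rfl hK).trans qM.le)
    have zB : ⁅Z, B⁆ ≤ Q := by
      rw [hZdef]
      refine shift eB (qle AM) (qle EM) (T := F) ?_ (by rw [hFdef]) (by rw [hQdef])
      rw [← hZdef, eq_bot_iff]
      exact (Subgroup.commutator_mono le_rfl FM).trans zM.le
    have wB : ⁅W, B⁆ ≤ Q := by
      rw [hWdef]
      refine shift fB (qle CM) (qle FM) (T := E) ?_
        (by rw [hEdef, Subgroup.commutator_comm C B]) (by rw [hQdef, Subgroup.commutator_comm])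
      rw [← hWdef, eq_bot_iff]
      exact (Subgroup.commutator_mono le_rfl EM).trans wM.le
    have qR : ⁅Q, A ⊔ B ⊔ C⁆ = ⊥ :=
      commutator_sup_eq_bot (commutator_sup_eq_bot (qle AM) qB) (qle CM)
    have l2M : ∀ {K : Subgroup G}, K ≤ M → ⁅Z ⊔ W, K⁆ = ⊥ := by
      intro K hK
      rw [eq_bot_iff]
      refine (Subgroup.commutator_mono le_rfl hK).trans (le_of_eq ?_)
      rw [Subgroup.commutator_comm]
      exact commutator_sup_eq_bot (by rw [Subgroup.commutator_comm]; exact zM)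
        (by rw [Subgroup.commutator_comm]; exact wM)
    have zwQ : Z ⊔ W ≤ Subgroup.normalizer (Q : Set G) := by
      refine le_normalizer_of_centralizes (eq_bot_iff.2 ?_)
      rw [Subgroup.commutator_comm]
      exact (Subgroup.commutator_mono le_rfl (hQ.trans le_rfl)).trans
        (le_of_eq (l2M (sup_le
          (hZdef ▸ (Subgroup.commutator_mono AM EM).trans (Subgroup.commutator_le_self M))
          (hWdef ▸ (Subgroup.commutator_mono CM FM).trans (Subgroup.commutator_le_self M)))))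
    have l2B : ⁅Z ⊔ W, B⁆ ≤ Q := by
      rw [Subgroup.commutator_comm]
      exact commutator_sup_le_of_normalizes (by rw [Subgroup.commutator_comm]; exact zB)
        (by rw [Subgroup.commutator_comm]; exact wB) zwQ
    have nQ : A ⊔ B ⊔ C ≤ Subgroup.normalizer (Q : Set G) := le_normalizer_of_centralizes qR
    have l2R : ⁅Z ⊔ W, A ⊔ B ⊔ C⁆ ≤ Q :=
      commutator_sup_le_of_normalizes
        (commutator_sup_le_of_normalizes (l2M AM ▸ bot_le) l2B (le_sup_left.trans nQ))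
        (l2M CM ▸ bot_le) nQ
    have n2 : A ⊔ B ⊔ C ≤ Subgroup.normalizer ((Z ⊔ W : Subgroup G) : Set G) :=
      le_normalizer_of_commutator_le (l2R.trans hQ)
    have n2' : F ⊔ E ≤ Subgroup.normalizer ((Z ⊔ W : Subgroup G) : Set G) :=
      (sup_le FM EM).trans ((hMR ▸ le_sup_left).trans n2)
    have l1A : ⁅F ⊔ E, A⁆ ≤ Z ⊔ W := by
      rw [Subgroup.commutator_comm]
      exact commutator_sup_le_of_normalizes (by rw [Subgroup.commutator_comm, fA]; exact bot_le)
        (hZdef ▸ le_sup_left) n2'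
    have l1B : ⁅F ⊔ E, B⁆ = ⊥ := by
      rw [Subgroup.commutator_comm]
      exact commutator_sup_eq_bot (by rw [Subgroup.commutator_comm]; exact fB)
        (by rw [Subgroup.commutator_comm]; exact eB)
    have l1C : ⁅F ⊔ E, C⁆ ≤ Z ⊔ W := by
      rw [Subgroup.commutator_comm]
      exact commutator_sup_le_of_normalizes (hWdef ▸ le_sup_right)
        (by rw [Subgroup.commutator_comm, eC]; exact bot_le) n2'
    have l1R : ⁅F ⊔ E ⊔ (Z ⊔ W), A ⊔ B ⊔ C⁆ ≤ Z ⊔ W := by
      rw [Subgroup.commutator_comm]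
      refine commutator_sup_le_of_normalizes ?_ ?_ (sup_le n2' Subgroup.le_normalizer) <;>
        rw [Subgroup.commutator_comm]
      · exact commutator_sup_le_of_normalizes
          (commutator_sup_le_of_normalizes l1A (l1B ▸ bot_le) (le_sup_left.trans n2)) l1C n2
      · exact l2R.trans hQ
    have n1 : A ⊔ B ⊔ C ≤ Subgroup.normalizer ((F ⊔ E ⊔ (Z ⊔ W) : Subgroup G) : Set G) :=
      le_normalizer_of_commutator_le (l1R.trans le_sup_right)
    have selfB : ⁅B, B⁆ = ⊥ := by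
      rw [Subgroup.commutator_eq_bot_iff_le_centralizer]
      intro x hx; rw [Subgroup.mem_centralizer_iff]
      exact fun y hy => (commute_of_mem hS hB hy hx).eq
    have l0R : ⁅A ⊔ B ⊔ C, A ⊔ B ⊔ C⁆ ≤ F ⊔ E ⊔ (Z ⊔ W) := by
      have row : ∀ {H : Subgroup G}, ⁅H, A⁆ ≤ F ⊔ E ⊔ (Z ⊔ W) → ⁅H, B⁆ ≤ F ⊔ E ⊔ (Z ⊔ W) →
          ⁅H, C⁆ ≤ F ⊔ E ⊔ (Z ⊔ W) → ⁅H, A ⊔ B ⊔ C⁆ ≤ F ⊔ E ⊔ (Z ⊔ W) := fun h1 h2 h3 =>
        commutator_sup_le_of_normalizes
          (commutator_sup_le_of_normalizes h1 h2 (le_sup_left.trans n1)) h3 n1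
      have hF : ⁅A, B⁆ ≤ F ⊔ E ⊔ (Z ⊔ W) := hFdef ▸ le_sup_left.trans le_sup_left
      have hE : ⁅B, C⁆ ≤ F ⊔ E ⊔ (Z ⊔ W) := hEdef ▸ le_sup_right.trans le_sup_left
      refine row ?_ ?_ ?_ <;> rw [Subgroup.commutator_comm] <;> refine row ?_ ?_ ?_
      · rw [selfA]; exact bot_le
      · exact hF
      · rw [hAC]; exact bot_le
      · rw [Subgroup.commutator_comm]; exact hF
      · rw [selfB]; exact bot_le
      · exact hE
      · rw [hCA]; exact bot_le
      · rw [Subgroup.commutator_comm]; exact hE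
      · rw [selfC]; exact bot_le
    rw [Subgroup.nilpotent_iff_lowerCentralSeries]
    refine ⟨4, ?_⟩
    have step : ∀ (n : ℕ) (T T' : Subgroup G),
        ((⊤ : Subgroup ↥(A ⊔ B ⊔ C)).lowerCentralSeries n).map (A ⊔ B ⊔ C).subtype ≤ T →
        ⁅T, A ⊔ B ⊔ C⁆ ≤ T' →
        ((⊤ : Subgroup ↥(A ⊔ B ⊔ C)).lowerCentralSeries (n + 1)).map (A ⊔ B ⊔ C).subtype ≤ T' := by
      intro n T T' h h'
      rw [Subgroup.lowerCentralSeries_succ, Subgroup.map_commutator, ← MonoidHom.range_eq_map,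
        Subgroup.range_subtype]
      exact (Subgroup.commutator_mono h le_rfl).trans h'
    have h0 : ((⊤ : Subgroup ↥(A ⊔ B ⊔ C)).lowerCentralSeries 0).map (A ⊔ B ⊔ C).subtype ≤
        A ⊔ B ⊔ C := by
      rw [Subgroup.lowerCentralSeries_zero, ← MonoidHom.range_eq_map, Subgroup.range_subtype]
    have h4 := step 3 _ _ (step 2 _ _ (step 1 _ _ (step 0 _ _ h0 l0R) l1R) l2R) qR.le
    rwa [le_bot_iff, Subgroup.map_eq_bot_iff_of_injective _ Subtype.coe_injective] at h4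

end H98
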