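import Cfsg.Agent.H98.Transvection
import Cfsg.Agent.S5032

/-! The transvection subgroups of `SL_n(k)`, `n ≥ 3`, as abstract root subgroups. -/

set_option autoImplicit false

namespace H98

open Cfsg Matrix

variable {k : Type*} [Field k] {ι : Type*} [Fintype ι] [DecidableEq ι]

theorem single_pair_dot {i j : ι} (h : i ≠ j) :
    (Pi.single j (1 : k) : ι → k) ⬝ᵥ Pi.single i 1 = 0 := by simp [h.symm]

theorem single_ne_zero' (i : ι) : (Pi.single i (1 : k) : ι → k) ≠ 0 := by simp

theorem single_mem_transClass {i j : ι} (h : i ≠ j) :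
    TG (Pi.single i (1 : k)) (Pi.single j 1) ∈ transClass k ι :=
  ⟨_, _, single_ne_zero' i, single_ne_zero' j, single_pair_dot h, rfl⟩

theorem transClass_pair {A B : Subgroup (Matrix.SpecialLinearGroup ι k)}
    (hA : A ∈ transClass k ι) (hB : B ∈ transClass k ι) :
    ⁅A, B⁆ = ⊥ ∨ (IsRankOnePair A B ∧ IsPSL2PairOver k A B) ∨
      RootCommutatorCase (transClass k ι) A B := by
  obtain ⟨p, φ, hp, hφ, h, rfl⟩ := hA
  obtain ⟨q, ψ, hq, hψ, h', rfl⟩ := hB
  by_cases hα : φ ⬝ᵥ q = 0 <;> by_cases hβ : ψ ⬝ᵥ p = 0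
  · exact Or.inl (commute_TG h h' hα hβ)
  · exact Or.inr (Or.inr (rootCommutatorCase_symm (commutatorCase_TG hq hφ hψ hp h' h hβ hα)))
  · exact Or.inr (Or.inr (commutatorCase_TG hp hψ hφ hq h h' hα hβ))
  · exact Or.inr (Or.inl (rankOne_TG h h' hα hβ))

theorem transClass_conj {A : Subgroup (Matrix.SpecialLinearGroup ι k)} (hA : A ∈ transClass k ι)
    (g : Matrix.SpecialLinearGroup ι k) : conjBy A g ∈ transClass k ι := by
  obtain ⟨p, φ, hp, hφ, h, rfl⟩ := hA
  exact ⟨_, _, mulVec_ne_zero' g hp, vecMul_ne_zero' g⁻¹ hφ, by rw [dot_mulVec_conj, h],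
    TG_conj h g⟩

theorem transClass_isConj {A B : Subgroup (Matrix.SpecialLinearGroup ι k)}
    (hA : A ∈ transClass k ι) (hB : B ∈ transClass k ι) : ∃ g, B = conjBy A g := by
  obtain ⟨p, φ, hp, hφ, h, rfl⟩ := hA
  obtain ⟨q, ψ, hq, hψ, h', rfl⟩ := hB
  obtain ⟨g, hg⟩ := exists_conj_TG hp hφ h hq hψ h'
  exact ⟨g, hg.symm⟩

theorem transClass_isRootSubgroupSet : IsRootSubgroupSet (transClass k ι) where
  commutative := by rintro _ ⟨p, φ, -, -, h, rfl⟩; exact TG_commutative h
  ne_bot := by rintro _ ⟨p, φ, hp, hφ, h, rfl⟩; exact TG_ne_bot h hp hφ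
  generates := H37.eq_top_of_transvection_mem _ fun i j hij c =>
    Subgroup.mem_iSup_of_mem _ (Subgroup.mem_iSup_of_mem (single_mem_transClass hij)
      ((mem_TG (single_pair_dot hij)).2 ⟨c, transvection_eq_tm hij c⟩))
  conj_mem A hA g := transClass_conj hA g
  pair A hA B hB := (transClass_pair hA hB).imp id (Or.imp And.left id)

theorem transClass_isKRoot : IsKRootSubgroupSet k (transClass k ι) := by
  have hS := transClass_isRootSubgroupSet (k := k) (ι := ι)
  refine ⟨hS, fun A hA B hB hr => ?_⟩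
  rcases transClass_pair hA hB with h | h | h
  · exact absurd h (commutator_ne_bot_of_rankOne hS hA hB hr)
  · exact h.2
  · exact absurd hr (ne_rankOne_of_rootCommutatorCase hS hA hB h)

theorem transClass_eq_conj {i j : ι} (hij : i ≠ j) :
    {A : Subgroup (Matrix.SpecialLinearGroup ι k) | ∃ g : Matrix.SpecialLinearGroup ι k,
      A = conjBy (Subgroup.closure {t : Matrix.SpecialLinearGroup ι k |
        ∃ c : k, (t : Matrix ι ι k) = Matrix.transvection i j c}) g} = transClass k ι := by
  have e : {t : Matrix.SpecialLinearGroup ι k |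
      ∃ c : k, (t : Matrix ι ι k) = Matrix.transvection i j c} =
        Set.range (tm (Pi.single i (1 : k)) (Pi.single j 1)) := by
    ext t
    have key : ∀ c : k, (tm (Pi.single i (1 : k)) (Pi.single j 1) c).1 = Matrix.transvection i j c :=
      fun c => by rw [← transvection_eq_tm hij]; rfl
    exact ⟨fun ⟨c, hc⟩ => ⟨c, Subtype.ext ((key c).trans hc.symm)⟩,
      fun ⟨c, hc⟩ => ⟨c, hc ▸ key c⟩⟩
  rw [e, ← TG]
  ext A
  constructor
  · rintro ⟨g, rfl⟩; exact transClass_conj (single_mem_transClass hij) g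
  · exact transClass_isConj (single_mem_transClass hij)

theorem transClass_nondegenerate {a b c : ι} (hab : a ≠ b) (hac : a ≠ c) (hbc : b ≠ c) :
    IsNondegenerateRootSet (transClass k ι) := by
  refine ⟨⟨_, single_mem_transClass hab, _, single_mem_transClass hac, fun e => ?_,
      commute_TG (single_pair_dot hab) (single_pair_dot hac) (single_pair_dot hab)
        (single_pair_dot hac)⟩,
    ⟨_, single_mem_transClass hab, _, single_mem_transClass hab.symm,
      (rankOne_TG (single_pair_dot hab) (single_pair_dot hab.symm) (by simp) (by simp)).1⟩,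
    ⟨_, single_mem_transClass hab, _, single_mem_transClass hbc,
      commutatorCase_TG (single_ne_zero' a) (single_ne_zero' c) (single_ne_zero' b)
        (single_ne_zero' b) (single_pair_dot hab) (single_pair_dot hbc) (by simp)
        (single_pair_dot hac)⟩⟩
  obtain ⟨d, hd⟩ := (mem_TG (single_pair_dot hac)).1
    (e ▸ (mem_TG (single_pair_dot hab)).2 ⟨(1 : k), rfl⟩)
  have := congrArg (fun g : Matrix.SpecialLinearGroup ι k => g.1 a b) hd
  simp only [coe_tm (single_pair_dot hab), coe_tm (single_pair_dot hac)] at this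
  simp [Matrix.vecMulVec, hbc] at this

theorem transClass_connected {a b : ι} (hab : a ≠ b) :
    IsConnectedFamily (FAdj (transClass k ι)) (transClass k ι) := by
  have hr := (rankOne_TG (single_pair_dot (k := k) hab) (single_pair_dot hab.symm)
    (by simp) (by simp)).1
  exact (Cfsg.Agent.S5032.result transClass_isRootSubgroupSet
    ⟨_, single_mem_transClass hab, _, single_mem_transClass hab.symm, hr.ne⟩).2
    ⟨⟨⟨_, single_mem_transClass hab⟩, fun A hA B hB => transClass_isConj hA hB⟩, _,
      single_mem_transClass hab,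
      not_isolated_of_partner (single_mem_transClass hab) (single_mem_transClass hab.symm) hr⟩

end H98
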