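import Cfsg.Agent.H98.TransClass

/-! Transvections in characteristic two as root involutions. -/

set_option autoImplicit false

namespace H98

open Cfsg Matrix

variable {k : Type*} [Field k] {ι : Type*} [Fintype ι] [DecidableEq ι]

/-- The transvections. -/
def transElts (k ι : Type*) [Field k] [Fintype ι] [DecidableEq ι] :
    Set (Matrix.SpecialLinearGroup ι k) :=
  {t | ∃ p φ : ι → k, p ≠ 0 ∧ φ ≠ 0 ∧ φ ⬝ᵥ p = 0 ∧ t = tm p φ 1}

theorem tm_coef {p φ : ι → k} (h : φ ⬝ᵥ p = 0) (c : k) : tm p φ c = tm p (c • φ) 1 := by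
  have := tm_smul h 1 c 1
  rw [one_smul, one_mul, mul_one] at this
  exact this.symm

theorem tm_mem_transElts {p φ : ι → k} (hp : p ≠ 0) (hφ : φ ≠ 0) (h : φ ⬝ᵥ p = 0) {c : k}
    (hc : c ≠ 0) : tm p φ c ∈ transElts k ι :=
  ⟨p, c • φ, hp, smul_ne_zero hc hφ, by simp [h], tm_coef h c⟩

theorem transElts_conj {t : Matrix.SpecialLinearGroup ι k} (ht : t ∈ transElts k ι)
    (g : Matrix.SpecialLinearGroup ι k) : g * t * g⁻¹ ∈ transElts k ι := by
  obtain ⟨p, φ, hp, hφ, h, rfl⟩ := ht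
  exact ⟨_, _, mulVec_ne_zero' g hp, vecMul_ne_zero' g⁻¹ hφ, by rw [dot_mulVec_conj, h],
    tm_conj h g 1⟩

theorem transElts_eq {i j : ι} (hij : i ≠ j) :
    {t : Matrix.SpecialLinearGroup ι k | ∃ c : k, c ≠ 0 ∧ ∃ g : Matrix.SpecialLinearGroup ι k,
      ((g⁻¹ * t * g : Matrix.SpecialLinearGroup ι k) : Matrix ι ι k) =
        Matrix.transvection i j c} = transElts k ι := by
  have h := single_pair_dot (k := k) hij
  have key : ∀ c : k, (tm (Pi.single i (1 : k)) (Pi.single j 1) c).1 = Matrix.transvection i j c :=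
    fun c => by rw [← transvection_eq_tm hij]; rfl
  ext t
  constructor
  · rintro ⟨c, hc, g, hg⟩
    have e : g⁻¹ * t * g = tm (Pi.single i (1 : k)) (Pi.single j 1) c :=
      Subtype.ext (hg.trans (key c).symm)
    rw [show t = g * (g⁻¹ * t * g) * g⁻¹ by group, e]
    exact transElts_conj (tm_mem_transElts (single_ne_zero' i) (single_ne_zero' j) h hc) g
  · rintro ⟨p, φ, hp, hφ, h0, rfl⟩
    obtain ⟨g, a, b, ha, hb, e1, e2⟩ :=
      exists_conj_pair hp hφ h0 (single_ne_zero' i) (single_ne_zero' j) h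
    refine ⟨a * b * 1, by simp [ha, hb], g⁻¹, ?_⟩
    rw [inv_inv, tm_conj h0, e1, e2, tm_smul h]
    exact key _

theorem isConj_form_move {p φ ψ : ι → k} (hψ : ψ ≠ 0) (h : φ ⬝ᵥ p = 0) (h' : ψ ⬝ᵥ p = 0)
    (hne : ∀ a : k, φ ≠ a • ψ) : IsConj (tm p φ 1) (tm p ψ 1) := by
  obtain ⟨r, h1, h2⟩ := exists_dot_eq_one_pair hψ hne
  rw [dotProduct_comm] at h1 h2
  have hr : (ψ - φ) ⬝ᵥ r = 0 := by rw [sub_dotProduct, h1, h2, sub_self]
  refine isConj_iff.2 ⟨(tm r (ψ - φ) 1)⁻¹, ?_⟩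
  rw [tm_conj h, inv_inv]
  congr 1
  · rw [tm_inv hr, tm_mulVec hr, sub_dotProduct, h, h']; simp
  · rw [coe_tm hr, Matrix.vecMul_add, Matrix.vecMul_one, one_smul, Matrix.vecMul_vecMulVec, h2]
    simp

theorem transElts_isConj {a b c : ι} (hab : a ≠ b) (hac : a ≠ c) (hbc : b ≠ c)
    {t u : Matrix.SpecialLinearGroup ι k} (ht : t ∈ transElts k ι) (hu : u ∈ transElts k ι) :
    IsConj t u := by
  suffices h : ∀ t ∈ transElts k ι,
      IsConj t (tm (Pi.single a (1 : k)) (Pi.single b 1) 1) from (h t ht).trans (h u hu).symm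
  rintro _ ⟨p, φ, hp, hφ, h, rfl⟩
  obtain ⟨g, x, y, hx, hy, e1, e2⟩ :=
    exists_conj_pair hp hφ h (single_ne_zero' a) (single_ne_zero' b) (single_pair_dot hab)
  have h1 : IsConj (tm p φ 1) (tm (Pi.single a (1 : k)) ((x * y * 1) • Pi.single b 1) 1) :=
    isConj_iff.2 ⟨g, by
      rw [tm_conj h, e1, e2, tm_smul (single_pair_dot hab), tm_coef (single_pair_dot hab)]⟩
  refine h1.trans ((isConj_form_move (single_ne_zero' c) (by simp [hab]) (single_pair_dot hac)
    fun z hz => ?_).trans (isConj_form_move (single_ne_zero' b) (single_pair_dot hac)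
    (single_pair_dot hab) fun z hz => ?_))
  · simpa [hbc, hx, hy] using congrFun hz b
  · simpa [hbc.symm] using congrFun hz c

theorem transElts_closure : Subgroup.closure (transElts k ι) = ⊤ :=
  H37.eq_top_of_transvection_mem _ fun i j hij c => by
    rw [transvection_eq_tm hij]
    rcases eq_or_ne c 0 with rfl | hc
    · rw [tm_zero (single_pair_dot hij)]; exact one_mem _
    · exact Subgroup.subset_closure
        (tm_mem_transElts (single_ne_zero' i) (single_ne_zero' j) (single_pair_dot hij) hc)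

section CharTwo

variable [CharP k 2]

theorem tm_mul_self {p φ : ι → k} (h : φ ⬝ᵥ p = 0) (c : k) : tm p φ c * tm p φ c = 1 := by
  rw [tm_mul h, CharTwo.add_self_eq_zero, tm_zero h]

theorem tm_inv_self {p φ : ι → k} (h : φ ⬝ᵥ p = 0) (c : k) : (tm p φ c)⁻¹ = tm p φ c :=
  inv_eq_of_mul_eq_one_right (tm_mul_self h c)

theorem orderOf_transElt {t : Matrix.SpecialLinearGroup ι k} (ht : t ∈ transElts k ι) :
    orderOf t = 2 := by
  obtain ⟨p, φ, hp, hφ, h, rfl⟩ := ht
  exact orderOf_eq_prime (by rw [sq, tm_mul_self h])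
    (fun e => one_ne_zero ((tm_eq_one_iff h hp hφ).1 e))

theorem odd_orderOf_of_trace_ne [Finite k] (g : Matrix.SpecialLinearGroup (Fin 2) k)
    (ht : g.1 0 0 + g.1 1 1 ≠ 0) : Odd (orderOf g) := by
  by_contra hne
  rw [Nat.not_odd_iff_even] at hne
  obtain ⟨m, hm⟩ := hne
  have hpos := orderOf_pos g
  have h2 : g ^ m * g ^ m = 1 := by rw [← pow_add, ← hm, pow_orderOf_eq_one]
  have h1 : g ^ m ≠ 1 := pow_ne_one_of_lt_orderOf (by omega) (by omega)
  have hc : g * g ^ m = g ^ m * g := (Commute.self_pow g m).eq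
  generalize g ^ m = h at h1 h2 hc
  have hinv : h⁻¹ = h := inv_eq_of_mul_eq_one_right h2
  have hdet := det_eq_one' h
  have ead : h.1 1 1 = h.1 0 0 := by
    have := congrArg (fun x : Matrix.SpecialLinearGroup (Fin 2) k => x.1 0 0) hinv
    simpa [Matrix.SpecialLinearGroup.coe_inv, Matrix.adjugate_fin_two] using this
  have hsub : g.1 0 0 - g.1 1 1 ≠ 0 := by rwa [CharTwo.sub_eq_add]
  have hb : h.1 0 1 = 0 := by
    have e := congrArg (fun x : Matrix.SpecialLinearGroup (Fin 2) k => x.1 0 1) hc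
    simp only [Matrix.SpecialLinearGroup.coe_mul, Matrix.mul_apply, Fin.sum_univ_two] at e
    rw [ead] at e
    exact (mul_eq_zero.1 (by linear_combination e : (g.1 0 0 - g.1 1 1) * h.1 0 1 = 0)).resolve_left
      hsub
  have hcc : h.1 1 0 = 0 := by
    have e := congrArg (fun x : Matrix.SpecialLinearGroup (Fin 2) k => x.1 1 0) hc
    simp only [Matrix.SpecialLinearGroup.coe_mul, Matrix.mul_apply, Fin.sum_univ_two] at e
    rw [ead] at e
    exact (mul_eq_zero.1 (by linear_combination -e : (g.1 0 0 - g.1 1 1) * h.1 1 0 = 0)).resolve_left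
      hsub
  rw [ead, hb, hcc, mul_zero, sub_zero] at hdet
  have ha : h.1 0 0 = 1 := by
    have h' : (h.1 0 0 - 1) * (h.1 0 0 - 1) = 0 := by
      linear_combination hdet - (h.1 0 0 - 1) * (CharTwo.two_eq_zero (R := k))
    exact sub_eq_zero.1 (mul_self_eq_zero.1 h')
  refine h1 (Subtype.ext ?_)
  ext i j
  fin_cases i <;> fin_cases j <;> simp [hb, hcc, ead, ha]

theorem sq_of_one_zero {p φ q ψ : ι → k} (hp : p ≠ 0) (hψ : ψ ≠ 0) (h : φ ⬝ᵥ p = 0)
    (h' : ψ ⬝ᵥ q = 0) (hα : φ ⬝ᵥ q ≠ 0) (hβ : ψ ⬝ᵥ p = 0) :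
    orderOf (tm p φ 1 * tm q ψ 1) = 4 ∧ (tm p φ 1 * tm q ψ 1) ^ 2 ∈ transElts k ι := by
  have e : (tm p φ 1 * tm q ψ 1) ^ 2 = tm p ψ (φ ⬝ᵥ q) := by
    have := tm_commutator h h' hβ 1 1
    rw [one_mul, one_mul, tm_inv_self h, tm_inv_self h'] at this
    rw [sq, ← this, mul_assoc, mul_assoc, mul_assoc]
  refine ⟨?_, e ▸ tm_mem_transElts hp hψ hβ hα⟩
  have h4 : orderOf (tm p φ 1 * tm q ψ 1) = 2 ^ (1 + 1) :=
    orderOf_eq_prime_pow (by rw [pow_one, e, tm_eq_one_iff hβ hp hψ]; exact hα)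
      (by rw [pow_succ, pow_one, pow_mul, e, sq, tm_mul_self hβ])
  simpa using h4

theorem transElts_pair [Finite k] {t u : Matrix.SpecialLinearGroup ι k}
    (ht : t ∈ transElts k ι) (hu : u ∈ transElts k ι) :
    t * u = u * t ∨ (Odd (orderOf (t * u)) ∧ (Nat.card k = 2 → orderOf (t * u) ∣ 3)) ∨
      (orderOf (t * u) = 4 ∧ (t * u) ^ 2 ∈ transElts k ι) := by
  obtain ⟨p, φ, hp, hφ, h, rfl⟩ := ht
  obtain ⟨q, ψ, hq, hψ, h', rfl⟩ := hu
  by_cases hα : φ ⬝ᵥ q = 0 <;> by_cases hβ : ψ ⬝ᵥ p = 0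
  · exact Or.inl (tm_commute h h' hα hβ 1 1).eq
  · right; right
    obtain ⟨h4, hsq⟩ := sq_of_one_zero hq hφ h' h hβ hα
    have e : tm p φ 1 * tm q ψ 1 = (tm q ψ 1 * tm p φ 1)⁻¹ := by
      rw [_root_.mul_inv_rev, tm_inv_self h, tm_inv_self h']
    rw [e, orderOf_inv, inv_pow]
    refine ⟨h4, ?_⟩
    obtain ⟨a, b, ha, hb, hab, hab'⟩ := hsq
    rw [hab', tm_inv_self hab]
    exact ⟨a, b, ha, hb, hab, rfl⟩
  · exact Or.inr (Or.inr (sq_of_one_zero hp hψ h h' hα hβ))
  · right; left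
    obtain ⟨f, hf, hu, hl⟩ := exists_embed h h' hα hβ
    have e : tm p φ 1 * tm q ψ 1 = f (uu (1 * (φ ⬝ᵥ q)) * ll (1 * (ψ ⬝ᵥ p))) := by
      rw [map_mul, hu, hl]
    rw [e, orderOf_injective f hf, one_mul, one_mul]
    have hg : (uu (φ ⬝ᵥ q) * ll (ψ ⬝ᵥ p)).1 =
        !![1 + (φ ⬝ᵥ q) * (ψ ⬝ᵥ p), φ ⬝ᵥ q; ψ ⬝ᵥ p, 1] := by
      rw [Matrix.SpecialLinearGroup.coe_mul, coe_uu, coe_ll]; simp [Matrix.mul_fin_two]
    refine ⟨odd_orderOf_of_trace_ne _ ?_, fun hk => ?_⟩
    · rw [hg]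
      intro h0
      refine mul_ne_zero hα hβ ?_
      simp only [Matrix.of_apply, Matrix.cons_val_zero, Matrix.cons_val_one] at h0
      linear_combination h0 - CharTwo.two_eq_zero (R := k)
    · have hone : ∀ x : k, x ≠ 0 → x = 1 := by
        intro x hx
        by_contra hx1
        haveI := Fintype.ofFinite k
        rw [Nat.card_eq_fintype_card] at hk
        have := Fintype.two_lt_card_iff.2 ⟨x, 0, 1, hx, hx1, zero_ne_one⟩
        omega
      apply orderOf_dvd_of_pow_eq_one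
      apply Subtype.ext
      rw [Matrix.SpecialLinearGroup.coe_pow, hg, hone _ hα, hone _ hβ,
        Matrix.SpecialLinearGroup.coe_one, pow_succ, pow_two, Matrix.one_fin_two]
      ext i j
      fin_cases i <;> fin_cases j <;>
        simp [Matrix.mul_apply, Fin.sum_univ_two, CharTwo.add_self_eq_zero]

theorem transElts_isRootInvolutionSet [Finite k] : IsRootInvolutionSet (transElts k ι) where
  orderOf_eq _ hd := orderOf_transElt hd
  generates := transElts_closure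
  conj_mem _ hd g := transElts_conj hd g
  pair _ ha _ hb := (transElts_pair ha hb).imp id (Or.imp And.left id)

theorem transElts_threeFour [Finite k] (hk : Nat.card k = 2) :
    IsThreeFourPlusTranspositionSet (transElts k ι) := by
  refine ⟨transElts_isRootInvolutionSet, fun a ha b hb hodd => ?_⟩
  rcases transElts_pair ha hb with h | h | h
  · left
    have h2 : (a * b) ^ 2 = 1 := by
      rw [Commute.mul_pow h, ← orderOf_transElt ha, pow_orderOf_eq_one, orderOf_transElt ha,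
        ← orderOf_transElt hb, pow_orderOf_eq_one, one_mul]
    rcases (Nat.dvd_prime Nat.prime_two).1 (orderOf_dvd_of_pow_eq_one h2) with h' | h'
    · exact h'
    · rw [h'] at hodd; exact absurd hodd (by decide)
  · exact (Nat.dvd_prime Nat.prime_three).1 (h.2 hk)
  · rw [h.1] at hodd; exact absurd hodd (by decide)

end CharTwo

end H98
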