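import Cfsg.Agent.H98.Embed
import Cfsg.Agent.H37.Generation

/-! Transvections `1 + c p ⊗ φ` of `SL_n(k)` and the subgroups they form. -/

set_option autoImplicit false

namespace H98

open Cfsg Matrix

variable {k : Type*} [Field k] {ι : Type*} [Fintype ι] [DecidableEq ι]

theorem det_tm (p φ : ι → k) (h : φ ⬝ᵥ p = 0) (c : k) :
    (1 + c • Matrix.vecMulVec p φ).det = 1 := by
  rw [show c • Matrix.vecMulVec p φ =
    Matrix.replicateCol Unit (c • p) * Matrix.replicateRow Unit φ by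
      rw [← Matrix.vecMulVec_eq, Matrix.smul_vecMulVec]]
  rw [Matrix.det_one_add_replicateCol_mul_replicateRow, dotProduct_smul, h, smul_zero, add_zero]

open scoped Classical in
/-- The transvection `1 + c p ⊗ φ`. -/
noncomputable def tm (p φ : ι → k) (c : k) : Matrix.SpecialLinearGroup ι k :=
  if h : φ ⬝ᵥ p = 0 then
    (⟨1 + c • Matrix.vecMulVec p φ, det_tm p φ h c⟩ : Matrix.SpecialLinearGroup ι k) else 1

theorem coe_tm {p φ : ι → k} (h : φ ⬝ᵥ p = 0) (c : k) :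
    (tm p φ c).1 = 1 + c • Matrix.vecMulVec p φ := by
  have e : tm p φ c =
      (⟨1 + c • Matrix.vecMulVec p φ, det_tm p φ h c⟩ : Matrix.SpecialLinearGroup ι k) := dif_pos h
  rw [e]

theorem tm_mulVec {p φ : ι → k} (h : φ ⬝ᵥ p = 0) (c : k) (v : ι → k) :
    (tm p φ c).1 *ᵥ v = v + (c * (φ ⬝ᵥ v)) • p := by
  rw [coe_tm h, Matrix.add_mulVec, Matrix.one_mulVec, Matrix.smul_mulVec, Matrix.vecMulVec_mulVec,
    op_smul_eq_smul, smul_smul]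

theorem sl_ext_mulVec {g g' : Matrix.SpecialLinearGroup ι k}
    (H : ∀ v, g.1 *ᵥ v = g'.1 *ᵥ v) : g = g' :=
  Subtype.ext (Matrix.ext_iff_mulVec.2 H)

theorem mul_mulVec (g g' : Matrix.SpecialLinearGroup ι k) (v : ι → k) :
    (g * g').1 *ᵥ v = g.1 *ᵥ (g'.1 *ᵥ v) := by
  rw [Matrix.SpecialLinearGroup.coe_mul, Matrix.mulVec_mulVec]

theorem tm_zero {p φ : ι → k} (h : φ ⬝ᵥ p = 0) : tm p φ 0 = 1 :=
  sl_ext_mulVec fun v => by simp [tm_mulVec h]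

theorem tm_mul {p φ : ι → k} (h : φ ⬝ᵥ p = 0) (c d : k) :
    tm p φ c * tm p φ d = tm p φ (c + d) :=
  sl_ext_mulVec fun v => by
    rw [mul_mulVec, tm_mulVec h, tm_mulVec h, tm_mulVec h, dotProduct_add, dotProduct_smul, h,
      smul_zero, add_zero, add_assoc, ← add_smul]
    congr 2
    ring

theorem tm_inv {p φ : ι → k} (h : φ ⬝ᵥ p = 0) (c : k) : (tm p φ c)⁻¹ = tm p φ (-c) :=
  inv_eq_of_mul_eq_one_right (by rw [tm_mul h, add_neg_cancel, tm_zero h])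

theorem tm_smul {p φ : ι → k} (h : φ ⬝ᵥ p = 0) (a b c : k) :
    tm (a • p) (b • φ) c = tm p φ (a * b * c) := by
  have h' : (b • φ) ⬝ᵥ (a • p) = 0 := by simp [h]
  refine sl_ext_mulVec fun v => ?_
  rw [tm_mulVec h', tm_mulVec h, smul_dotProduct, smul_smul, smul_eq_mul]
  congr 2
  ring

theorem tm_eq_one_iff {p φ : ι → k} (h : φ ⬝ᵥ p = 0) (hp : p ≠ 0) (hφ : φ ≠ 0) {c : k} :
    tm p φ c = 1 ↔ c = 0 := by
  refine ⟨fun e => ?_, fun e => e ▸ tm_zero h⟩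
  obtain ⟨i, hi⟩ := Function.ne_iff.1 hp
  obtain ⟨j, hj⟩ := Function.ne_iff.1 hφ
  have := congrArg (fun M : Matrix ι ι k => M i j) ((coe_tm h c).symm.trans (congrArg Subtype.val e))
  simp only [Pi.zero_apply] at hi hj
  simpa [Matrix.SpecialLinearGroup.coe_one, Matrix.vecMulVec, hi, hj] using this

/-- The transvection subgroup of `p` and `φ`. -/
noncomputable def TG (p φ : ι → k) : Subgroup (Matrix.SpecialLinearGroup ι k) :=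
  Subgroup.closure (Set.range (tm p φ))

theorem mem_TG {p φ : ι → k} (h : φ ⬝ᵥ p = 0) {t : Matrix.SpecialLinearGroup ι k} :
    t ∈ TG p φ ↔ ∃ c, t = tm p φ c := by
  refine ⟨fun ht => ?_, fun ⟨c, hc⟩ => hc ▸ Subgroup.subset_closure ⟨c, rfl⟩⟩
  induction ht using Subgroup.closure_induction with
  | mem x hx => obtain ⟨c, rfl⟩ := hx; exact ⟨c, rfl⟩
  | one => exact ⟨0, (tm_zero h).symm⟩
  | mul a b _ _ ha hb =>
    obtain ⟨c, rfl⟩ := ha; obtain ⟨d, rfl⟩ := hb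
    exact ⟨c + d, tm_mul h c d⟩
  | inv a _ ha => obtain ⟨c, rfl⟩ := ha; exact ⟨-c, tm_inv h c⟩

theorem TG_smul {p φ : ι → k} (h : φ ⬝ᵥ p = 0) {a b : k} (ha : a ≠ 0) (hb : b ≠ 0) :
    TG (a • p) (b • φ) = TG p φ := by
  have h' : (b • φ) ⬝ᵥ (a • p) = 0 := by simp [h]
  ext t
  rw [mem_TG h', mem_TG h]
  constructor
  · rintro ⟨c, rfl⟩; exact ⟨_, tm_smul h a b c⟩
  · rintro ⟨c, rfl⟩
    refine ⟨(a * b)⁻¹ * c, ?_⟩
    rw [tm_smul h, ← mul_assoc, mul_inv_cancel₀ (mul_ne_zero ha hb), one_mul]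

theorem TG_ne_bot {p φ : ι → k} (h : φ ⬝ᵥ p = 0) (hp : p ≠ 0) (hφ : φ ≠ 0) : TG p φ ≠ ⊥ :=
  fun e => one_ne_zero (α := k) ((tm_eq_one_iff h hp hφ).1
    (Subgroup.mem_bot.1 (e ▸ (mem_TG h).2 ⟨1, rfl⟩)))

theorem TG_commutative {p φ : ι → k} (h : φ ⬝ᵥ p = 0) : IsMulCommutative (TG p φ) := by
  refine ⟨⟨fun x y => Subtype.ext ?_⟩⟩
  obtain ⟨c, hc⟩ := (mem_TG h).1 x.2
  obtain ⟨d, hd⟩ := (mem_TG h).1 y.2
  simp only [Subgroup.coe_mul, hc, hd, tm_mul h, add_comm]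

theorem dot_mulVec_conj (g : Matrix.SpecialLinearGroup ι k) (φ p : ι → k) :
    (φ ᵥ* (g⁻¹).1) ⬝ᵥ (g.1 *ᵥ p) = φ ⬝ᵥ p := by
  rw [← Matrix.dotProduct_mulVec, ← mul_mulVec, inv_mul_cancel, Matrix.SpecialLinearGroup.coe_one,
    Matrix.one_mulVec]

theorem tm_conj {p φ : ι → k} (h : φ ⬝ᵥ p = 0) (g : Matrix.SpecialLinearGroup ι k) (c : k) :
    g * tm p φ c * g⁻¹ = tm (g.1 *ᵥ p) (φ ᵥ* (g⁻¹).1) c := by
  have h' : (φ ᵥ* (g⁻¹).1) ⬝ᵥ (g.1 *ᵥ p) = 0 := by rw [dot_mulVec_conj, h]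
  refine sl_ext_mulVec fun v => ?_
  rw [mul_mulVec, mul_mulVec, tm_mulVec h, tm_mulVec h', ← Matrix.dotProduct_mulVec,
    Matrix.mulVec_add, Matrix.mulVec_smul, ← mul_mulVec g g⁻¹, mul_inv_cancel,
    Matrix.SpecialLinearGroup.coe_one, Matrix.one_mulVec]

theorem TG_conj {p φ : ι → k} (h : φ ⬝ᵥ p = 0) (g : Matrix.SpecialLinearGroup ι k) :
    conjBy (TG p φ) g = TG (g.1 *ᵥ p) (φ ᵥ* (g⁻¹).1) := by
  rw [TG, TG, conjBy, MonoidHom.map_closure]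
  congr 1
  rw [← Set.range_comp]
  congr 1
  funext c
  exact tm_conj h g c

theorem mulVec_ne_zero' (g : Matrix.SpecialLinearGroup ι k) {p : ι → k} (hp : p ≠ 0) :
    g.1 *ᵥ p ≠ 0 := fun e => hp (by
  rw [← Matrix.one_mulVec p, ← Matrix.SpecialLinearGroup.coe_one, ← inv_mul_cancel g, mul_mulVec,
    e, Matrix.mulVec_zero])

theorem vecMul_ne_zero' (g : Matrix.SpecialLinearGroup ι k) {φ : ι → k} (hφ : φ ≠ 0) :
    φ ᵥ* g.1 ≠ 0 := fun e => hφ (by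
  rw [← Matrix.vecMul_one φ, ← Matrix.SpecialLinearGroup.coe_one, ← mul_inv_cancel g,
    Matrix.SpecialLinearGroup.coe_mul, ← Matrix.vecMul_vecMul, e, Matrix.zero_vecMul])

/-! ### Transitivity -/

theorem exists_dot_eq_one_pair {u v : ι → k} (hu : u ≠ 0) (hv : ∀ a : k, v ≠ a • u) :
    ∃ χ : ι → k, χ ⬝ᵥ u = 1 ∧ χ ⬝ᵥ v = 1 := by
  obtain ⟨i, hi⟩ := Function.ne_iff.1 hu
  obtain ⟨j, hj⟩ := Function.ne_iff.1 (hv (v i / u i))
  simp only [Pi.zero_apply] at hi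
  simp only [Pi.smul_apply, smul_eq_mul] at hj
  have hd : u i * v j - u j * v i ≠ 0 := fun e => hj (by field_simp; linear_combination e)
  refine ⟨((v j - u j) / (u i * v j - u j * v i)) • (Pi.single i 1 : ι → k) +
    ((u i - v i) / (u i * v j - u j * v i)) • (Pi.single j 1 : ι → k), ?_, ?_⟩ <;>
  · simp only [add_dotProduct, smul_dotProduct, single_dotProduct, one_mul, smul_eq_mul]
    rw [div_mul_eq_mul_div, div_mul_eq_mul_div, ← add_div, div_eq_one_iff_eq hd]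
    ring

theorem exists_move_vec {u v : ι → k} (hu : u ≠ 0) (hv : v ≠ 0) :
    ∃ g : Matrix.SpecialLinearGroup ι k, ∃ a : k, a ≠ 0 ∧ g.1 *ᵥ u = a • v := by
  by_cases h : ∃ a : k, u = a • v
  · obtain ⟨a, rfl⟩ := h
    exact ⟨1, a, fun e => hu (by simp [e]), by simp⟩
  push Not at h
  obtain ⟨χ, h1, h2⟩ := exists_dot_eq_one_pair hv h
  refine ⟨tm (v - u) χ 1, 1, one_ne_zero, ?_⟩
  rw [tm_mulVec (by rw [dotProduct_sub, h1, h2, sub_self]), h2]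
  simp

theorem exists_move_form {p φ ψ : ι → k} (hφ : φ ≠ 0) (hψ : ψ ≠ 0) (hφp : φ ⬝ᵥ p = 0)
    (hψp : ψ ⬝ᵥ p = 0) :
    ∃ g : Matrix.SpecialLinearGroup ι k, ∃ b : k, b ≠ 0 ∧ g.1 *ᵥ p = p ∧ φ ᵥ* g.1 = b • ψ := by
  by_cases h : ∃ a : k, φ = a • ψ
  · obtain ⟨a, rfl⟩ := h
    exact ⟨1, a, fun e => hφ (by simp [e]), by simp, by simp⟩
  push Not at h
  obtain ⟨r, h1, h2⟩ := exists_dot_eq_one_pair hψ h
  rw [dotProduct_comm] at h1 h2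
  have hr : (ψ - φ) ⬝ᵥ r = 0 := by rw [sub_dotProduct, h1, h2, sub_self]
  refine ⟨tm r (ψ - φ) 1, 1, one_ne_zero, ?_, ?_⟩
  · rw [tm_mulVec hr, sub_dotProduct, hφp, hψp]; simp
  · rw [coe_tm hr, Matrix.vecMul_add, Matrix.vecMul_one, one_smul, Matrix.vecMul_vecMulVec, h2]
    simp

theorem exists_conj_pair {p φ p' φ' : ι → k} (hp : p ≠ 0) (hφ : φ ≠ 0) (h : φ ⬝ᵥ p = 0)
    (hp' : p' ≠ 0) (hφ' : φ' ≠ 0) (h' : φ' ⬝ᵥ p' = 0) :
    ∃ g : Matrix.SpecialLinearGroup ι k, ∃ a b : k, a ≠ 0 ∧ b ≠ 0 ∧ g.1 *ᵥ p = a • p' ∧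
      φ ᵥ* (g⁻¹).1 = b • φ' := by
  obtain ⟨g, a, ha, hg⟩ := exists_move_vec hp hp'
  have h0 : (φ ᵥ* (g⁻¹).1) ⬝ᵥ p' = 0 := by
    have := dot_mulVec_conj g φ p
    rw [hg, h, dotProduct_smul, smul_eq_mul, mul_eq_zero] at this
    exact this.resolve_left ha
  obtain ⟨u, b, hb, hu1, hu2⟩ := exists_move_form (vecMul_ne_zero' g⁻¹ hφ) hφ' h0 h'
  refine ⟨u⁻¹ * g, a, b, ha, hb, ?_, ?_⟩
  · rw [mul_mulVec, hg, Matrix.mulVec_smul]
    congr 1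
    conv_lhs => rw [← hu1]
    rw [← mul_mulVec, inv_mul_cancel, Matrix.SpecialLinearGroup.coe_one, Matrix.one_mulVec]
  · rw [_root_.mul_inv_rev, inv_inv, Matrix.SpecialLinearGroup.coe_mul, ← Matrix.vecMul_vecMul, hu2]

theorem exists_conj_TG {p φ p' φ' : ι → k} (hp : p ≠ 0) (hφ : φ ≠ 0) (h : φ ⬝ᵥ p = 0)
    (hp' : p' ≠ 0) (hφ' : φ' ≠ 0) (h' : φ' ⬝ᵥ p' = 0) :
    ∃ g : Matrix.SpecialLinearGroup ι k, conjBy (TG p φ) g = TG p' φ' := by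
  obtain ⟨g, a, b, ha, hb, e1, e2⟩ := exists_conj_pair hp hφ h hp' hφ' h'
  exact ⟨g, by rw [TG_conj h, e1, e2, TG_smul h' ha hb]⟩

/-! ### Products of two transvections -/

theorem tm_commute {p φ q ψ : ι → k} (h : φ ⬝ᵥ p = 0) (h' : ψ ⬝ᵥ q = 0) (hα : φ ⬝ᵥ q = 0)
    (hβ : ψ ⬝ᵥ p = 0) (c d : k) : Commute (tm p φ c) (tm q ψ d) :=
  sl_ext_mulVec fun v => by
    simp only [mul_mulVec, tm_mulVec h, tm_mulVec h', dotProduct_add, dotProduct_smul, hα, hβ,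
      smul_zero, add_zero]
    abel

theorem tm_commutator {p φ q ψ : ι → k} (h : φ ⬝ᵥ p = 0) (h' : ψ ⬝ᵥ q = 0)
    (hβ : ψ ⬝ᵥ p = 0) (c d : k) :
    tm p φ c * tm q ψ d * (tm p φ c)⁻¹ * (tm q ψ d)⁻¹ = tm p ψ (c * d * (φ ⬝ᵥ q)) :=
  sl_ext_mulVec fun v => by
    simp only [mul_mulVec, tm_inv h, tm_inv h', tm_mulVec h, tm_mulVec h', tm_mulVec hβ,
      dotProduct_add, dotProduct_smul, h, h', hβ, smul_eq_mul]
    module

theorem embSL_uu {p q r₀ r₁ : ι → k} (h : rowPair r₀ r₁ * colPair p q = 1) (hr : r₁ ⬝ᵥ p = 0)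
    (s : k) : embSL h (uu s) = tm p r₁ s :=
  Subtype.ext (by rw [coe_embSL, embMat_uu, coe_tm hr])

theorem embSL_ll {p q r₀ r₁ : ι → k} (h : rowPair r₀ r₁ * colPair p q = 1) (hr : r₀ ⬝ᵥ q = 0)
    (s : k) : embSL h (ll s) = tm q r₀ s :=
  Subtype.ext (by rw [coe_embSL, embMat_ll, coe_tm hr])

/-- Two transvection groups with both scalar products non-zero span a copy of `SL₂`. -/
theorem exists_embed {p φ q ψ : ι → k} (h : φ ⬝ᵥ p = 0) (h' : ψ ⬝ᵥ q = 0)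
    (hα : φ ⬝ᵥ q ≠ 0) (hβ : ψ ⬝ᵥ p ≠ 0) :
    ∃ f : Matrix.SpecialLinearGroup (Fin 2) k →* Matrix.SpecialLinearGroup ι k,
      Function.Injective f ∧ (∀ s, f (uu (s * (φ ⬝ᵥ q))) = tm p φ s) ∧
        ∀ s, f (ll (s * (ψ ⬝ᵥ p))) = tm q ψ s := by
  have hP : rowPair ((ψ ⬝ᵥ p)⁻¹ • ψ) ((φ ⬝ᵥ q)⁻¹ • φ) * colPair p q = 1 :=
    rowPair_mul_colPair (by simp [hβ]) (by simp [h']) (by simp [h]) (by simp [hα])
  refine ⟨embSL hP, embSL_injective hP, fun s => ?_, fun s => ?_⟩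
  · rw [embSL_uu hP (by simp [h])]
    conv_lhs => rw [← one_smul k p]
    rw [tm_smul h]; congr 1; field_simp
  · rw [embSL_ll hP (by simp [h'])]
    conv_lhs => rw [← one_smul k q]
    rw [tm_smul h']; congr 1; field_simp

theorem rankOne_TG {p φ q ψ : ι → k} (h : φ ⬝ᵥ p = 0) (h' : ψ ⬝ᵥ q = 0)
    (hα : φ ⬝ᵥ q ≠ 0) (hβ : ψ ⬝ᵥ p ≠ 0) :
    IsRankOnePair (TG p φ) (TG q ψ) ∧ IsPSL2PairOver k (TG p φ) (TG q ψ) := by
  obtain ⟨f, hf, hu, hl⟩ := exists_embed h h' hα hβ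
  have eU : (upperUnipotentSL2 k).map f = TG p φ := by
    ext t
    rw [mem_TG h, Subgroup.mem_map]
    constructor
    · rintro ⟨g, hg, rfl⟩
      obtain ⟨s, rfl⟩ := mem_upperUnipotentSL2.1 hg
      exact ⟨s / (φ ⬝ᵥ q), by rw [← hu, div_mul_cancel₀ _ hα]⟩
    · rintro ⟨s, rfl⟩
      exact ⟨_, mem_upperUnipotentSL2.2 ⟨_, rfl⟩, hu s⟩
  have eL : (lowerUnipotentSL2 k).map f = TG q ψ := by
    ext t
    rw [mem_TG h', Subgroup.mem_map]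
    constructor
    · rintro ⟨g, hg, rfl⟩
      obtain ⟨s, rfl⟩ := mem_lowerUnipotentSL2.1 hg
      exact ⟨s / (ψ ⬝ᵥ p), by rw [← hl, div_mul_cancel₀ _ hβ]⟩
    · rintro ⟨s, rfl⟩
      exact ⟨_, mem_lowerUnipotentSL2.2 ⟨_, rfl⟩, hl s⟩
  have hk : f.ker ≤ Subgroup.center _ := by
    rw [(MonoidHom.ker_eq_bot_iff f).2 hf]; exact bot_le
  rw [← eU, ← eL]
  exact ⟨isRankOnePair_image hk, isPSL2PairOver_image hk⟩

theorem commute_TG {p φ q ψ : ι → k} (h : φ ⬝ᵥ p = 0) (h' : ψ ⬝ᵥ q = 0) (hα : φ ⬝ᵥ q = 0)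
    (hβ : ψ ⬝ᵥ p = 0) : ⁅TG p φ, TG q ψ⁆ = ⊥ := by
  rw [Subgroup.commutator_eq_bot_iff_le_centralizer]
  intro x hx
  obtain ⟨c, rfl⟩ := (mem_TG h).1 hx
  rw [Subgroup.mem_centralizer_iff]
  intro y hy
  obtain ⟨d, rfl⟩ := (mem_TG h').1 hy
  exact (tm_commute h h' hα hβ c d).symm.eq

/-- The root system of all transvection subgroups. -/
def transClass (k ι : Type*) [Field k] [Fintype ι] [DecidableEq ι] :
    Set (Subgroup (Matrix.SpecialLinearGroup ι k)) :=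
  {A | ∃ p φ : ι → k, p ≠ 0 ∧ φ ≠ 0 ∧ φ ⬝ᵥ p = 0 ∧ A = TG p φ}

theorem commutatorCase_TG {p φ q ψ : ι → k} (hp : p ≠ 0) (hψ : ψ ≠ 0) (hφ : φ ≠ 0) (hq : q ≠ 0)
    (h : φ ⬝ᵥ p = 0) (h' : ψ ⬝ᵥ q = 0) (hα : φ ⬝ᵥ q ≠ 0) (hβ : ψ ⬝ᵥ p = 0) :
    RootCommutatorCase (transClass k ι) (TG p φ) (TG q ψ) := by
  have hC : ⁅TG p φ, TG q ψ⁆ = TG p ψ := by
    apply le_antisymm
    · rw [Subgroup.commutator_le]
      intro x hx y hy
      obtain ⟨c, rfl⟩ := (mem_TG h).1 hx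
      obtain ⟨d, rfl⟩ := (mem_TG h').1 hy
      rw [commutatorElement_def, tm_commutator h h' hβ]
      exact (mem_TG hβ).2 ⟨_, rfl⟩
    · intro x hx
      obtain ⟨e, rfl⟩ := (mem_TG hβ).1 hx
      rw [show e = e / (φ ⬝ᵥ q) * 1 * (φ ⬝ᵥ q) by rw [mul_one, div_mul_cancel₀ _ hα],
        ← tm_commutator h h' hβ]
      exact Subgroup.commutator_mem_commutator ((mem_TG h).2 ⟨_, rfl⟩) ((mem_TG h').2 ⟨_, rfl⟩)
  rw [RootCommutatorCase, hC]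
  refine ⟨⟨p, ψ, hp, hψ, hβ, rfl⟩, ?_, ?_, ?_⟩
  · intro c hc x hx
    have hle : TG p φ ⊔ TG q ψ ≤ Subgroup.centralizer (TG p ψ : Set _) := by
      refine sup_le ?_ ?_ <;> rw [← Subgroup.commutator_eq_bot_iff_le_centralizer]
      · exact commute_TG h hβ h hβ
      · exact commute_TG h' hβ hβ h'
    exact Subgroup.mem_centralizer_iff.1 (hle hx) c hc
  · intro a ha ha1
    obtain ⟨c, rfl⟩ := (mem_TG h).1 ha
    have hc : c ≠ 0 := fun e => ha1 (e ▸ tm_zero h)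
    apply le_antisymm
    · rw [Subgroup.closure_le]
      rintro _ ⟨b, hb, rfl⟩
      obtain ⟨d, rfl⟩ := (mem_TG h').1 hb
      exact (mem_TG hβ).2 ⟨_, tm_commutator h h' hβ c d⟩
    · intro x hx
      obtain ⟨e, rfl⟩ := (mem_TG hβ).1 hx
      refine Subgroup.subset_closure ⟨tm q ψ (e / (c * (φ ⬝ᵥ q))), (mem_TG h').2 ⟨_, rfl⟩, ?_⟩
      beta_reduce
      rw [tm_commutator h h' hβ]; congr 1; field_simp
  · intro b hb hb1
    obtain ⟨d, rfl⟩ := (mem_TG h').1 hb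
    have hd : d ≠ 0 := fun e => hb1 (e ▸ tm_zero h')
    apply le_antisymm
    · rw [Subgroup.closure_le]
      rintro _ ⟨a, ha, rfl⟩
      obtain ⟨c, rfl⟩ := (mem_TG h).1 ha
      exact (mem_TG hβ).2 ⟨_, tm_commutator h h' hβ c d⟩
    · intro x hx
      obtain ⟨e, rfl⟩ := (mem_TG hβ).1 hx
      refine Subgroup.subset_closure ⟨tm p φ (e / (d * (φ ⬝ᵥ q))), (mem_TG h).2 ⟨_, rfl⟩, ?_⟩
      beta_reduce
      rw [tm_commutator h h' hβ]; congr 1; field_simp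

theorem transvection_eq_tm {i j : ι} (hij : i ≠ j) (c : k) :
    Matrix.SpecialLinearGroup.transvection hij c =
      tm (Pi.single i (1 : k)) (Pi.single j 1) c := by
  have h : (Pi.single j (1 : k) : ι → k) ⬝ᵥ Pi.single i 1 = 0 := by simp [hij.symm]
  apply Subtype.ext
  rw [coe_tm h, Matrix.vecMulVec_eq Unit]
  change 1 + Matrix.single i j c = _
  congr 1
  ext a b
  simp [Matrix.mul_apply, Matrix.single_apply, Pi.single_apply, eq_comm]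
  grind

end H98
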