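import Cfsg.Agent.H98.Transvection
import Cfsg.Agent.H69.Setting

/-! The centraliser of a transvection over the field of two elements. -/

set_option autoImplicit false

namespace H98

open Cfsg Matrix

theorem zmod2_cases' (c : ZMod 2) : c = 0 ∨ c = 1 := by revert c; decide

theorem zmod2_add_self' (c : ZMod 2) : c + c = 0 := by revert c; decide

variable {ι : Type*} [Fintype ι] [DecidableEq ι]

local notation "SL2ι" => Matrix.SpecialLinearGroup ι (ZMod 2)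

/-- Elements fixing the vector `p` and the functional `φ`. -/
def cTV (p φ : ι → ZMod 2) : Subgroup SL2ι where
  carrier := {g | g.1 *ᵥ p = p ∧ φ ᵥ* g.1 = φ}
  one_mem' := by constructor <;> simp
  mul_mem' := by
    rintro a b ⟨a1, a2⟩ ⟨b1, b2⟩
    refine ⟨by rw [mul_mulVec, b1, a1], ?_⟩
    rw [Matrix.SpecialLinearGroup.coe_mul, ← Matrix.vecMul_vecMul, a2, b2]
  inv_mem' := by
    rintro a ⟨a1, a2⟩
    constructor
    · conv_lhs => rw [← a1]
      rw [← mul_mulVec, inv_mul_cancel, Matrix.SpecialLinearGroup.coe_one, Matrix.one_mulVec]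
    · conv_lhs => rw [← a2]
      rw [Matrix.vecMul_vecMul, ← Matrix.SpecialLinearGroup.coe_mul, mul_inv_cancel,
        Matrix.SpecialLinearGroup.coe_one, Matrix.vecMul_one]

theorem mem_cTV {p φ : ι → ZMod 2} {g : SL2ι} :
    g ∈ cTV p φ ↔ g.1 *ᵥ p = p ∧ φ ᵥ* g.1 = φ := Iff.rfl

theorem tm_injective {p φ p' φ' : ι → ZMod 2} (h : φ ⬝ᵥ p = 0) (h' : φ' ⬝ᵥ p' = 0)
    (hp : p ≠ 0) (hφ : φ ≠ 0) (e : tm p φ 1 = tm p' φ' 1) : p = p' ∧ φ = φ' := by
  have key : ∀ v, (φ ⬝ᵥ v) • p = (φ' ⬝ᵥ v) • p' := fun v => by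
    have := congrArg (fun g : SL2ι => g.1 *ᵥ v) e
    simpa [tm_mulVec h, tm_mulVec h'] using this
  obtain ⟨i, hi⟩ := Function.ne_iff.1 hφ
  have h1 : φ ⬝ᵥ Pi.single i 1 = 1 := by
    simpa using (zmod2_cases' (φ i)).resolve_left (by simpa using hi)
  have h2 := key (Pi.single i 1)
  rw [h1, one_smul] at h2
  rcases zmod2_cases' (φ' ⬝ᵥ Pi.single i 1) with h3 | h3
  · exact absurd (by rw [h2, h3, zero_smul]) hp
  rw [h3, one_smul] at h2
  subst h2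
  refine ⟨rfl, funext fun j => ?_⟩
  obtain ⟨k, hk⟩ := Function.ne_iff.1 hp
  have hk1 : p k = 1 := (zmod2_cases' (p k)).resolve_left hk
  have := congrFun (key (Pi.single j 1)) k
  simpa [hk1] using this

theorem centralizer_tm {p φ : ι → ZMod 2} (h : φ ⬝ᵥ p = 0) (hp : p ≠ 0) (hφ : φ ≠ 0) :
    Subgroup.centralizer ({tm p φ 1} : Set SL2ι) = cTV p φ := by
  ext g
  rw [Subgroup.mem_centralizer_singleton_iff, mem_cTV]
  have hc := tm_conj h g 1
  constructor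
  · intro e
    have e1 : g * tm p φ 1 * g⁻¹ = tm p φ 1 := by rw [e, mul_inv_cancel_right]
    obtain ⟨a, b⟩ := tm_injective h (by rw [dot_mulVec_conj, h]) hp hφ (e1.symm.trans hc)
    refine ⟨a.symm, ?_⟩
    conv_lhs => rw [b]
    rw [Matrix.vecMul_vecMul, ← Matrix.SpecialLinearGroup.coe_mul, inv_mul_cancel,
      Matrix.SpecialLinearGroup.coe_one, Matrix.vecMul_one]
  · rintro ⟨a, b⟩
    have b' : φ ᵥ* (g⁻¹).1 = φ := (inv_mem (show g ∈ cTV p φ from ⟨a, b⟩) : g⁻¹ ∈ cTV p φ).2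
    rw [a, b'] at hc
    exact mul_inv_eq_iff_eq_mul.1 hc

/-- The condition defining the radical of the centraliser of a transvection. -/
def QRel (p φ : ι → ZMod 2) (g : SL2ι) (α w : ι → ZMod 2) : Prop :=
  α ⬝ᵥ p = 0 ∧ φ ⬝ᵥ w = 0 ∧ ∀ v, g.1 *ᵥ v = v + (α ⬝ᵥ v) • p + (φ ⬝ᵥ v) • w

theorem QRel.mul {p φ : ι → ZMod 2} (h : φ ⬝ᵥ p = 0) {g g' : SL2ι} {α w α' w' : ι → ZMod 2}
    (r : QRel p φ g α w) (r' : QRel p φ g' α' w') :
    QRel p φ (g * g') (α + α' + (α ⬝ᵥ w') • φ) (w + w') := by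
  obtain ⟨a1, a2, a3⟩ := r
  obtain ⟨b1, b2, b3⟩ := r'
  refine ⟨by simp [a1, b1, h], by simp [a2, b2], fun v => ?_⟩
  rw [mul_mulVec, a3, b3]
  simp only [dotProduct_add, dotProduct_smul, add_dotProduct, smul_dotProduct, a1, h, b2,
    smul_eq_mul]
  module

theorem qRel_one (p φ : ι → ZMod 2) : QRel p φ 1 0 0 :=
  ⟨zero_dotProduct _, dotProduct_zero _, fun v => by simp⟩

/-- The element of the radical with given parameters. -/
noncomputable def qElt (p φ α w : ι → ZMod 2) : SL2ι :=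
  tm p (α - (α ⬝ᵥ w) • φ) 1 * tm w φ 1

theorem qRel_qElt {p φ α w : ι → ZMod 2} (h : φ ⬝ᵥ p = 0) (ha : α ⬝ᵥ p = 0) (hw : φ ⬝ᵥ w = 0) :
    QRel p φ (qElt p φ α w) α w := by
  refine ⟨ha, hw, fun v => ?_⟩
  have h1 : (α - (α ⬝ᵥ w) • φ) ⬝ᵥ p = 0 := by simp [ha, h]
  rw [qElt, mul_mulVec, tm_mulVec h1, tm_mulVec hw]
  simp only [dotProduct_add, dotProduct_smul, sub_dotProduct, smul_dotProduct, hw, smul_eq_mul]
  module

theorem QRel.unique {p φ : ι → ZMod 2} {g g' : SL2ι} {α w : ι → ZMod 2} (r : QRel p φ g α w)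
    (r' : QRel p φ g' α w) : g = g' :=
  sl_ext_mulVec fun v => by rw [r.2.2, r'.2.2]

/-- The unipotent radical of `cTV p φ`. -/
noncomputable def qTV {p φ : ι → ZMod 2} (h : φ ⬝ᵥ p = 0) : Subgroup SL2ι where
  carrier := {g | ∃ α w, QRel p φ g α w}
  one_mem' := ⟨0, 0, qRel_one p φ⟩
  mul_mem' := by rintro a b ⟨α, w, r⟩ ⟨α', w', r'⟩; exact ⟨_, _, r.mul h r'⟩
  inv_mem' := by
    rintro a ⟨α, w, r⟩
    have r' := qRel_qElt (α := -α + (α ⬝ᵥ w) • φ) (w := -w) h (by simp [r.1, h]) (by simp [r.2.1])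
    have e := r.mul h r'
    rw [show α + (-α + (α ⬝ᵥ w) • φ) + (α ⬝ᵥ -w) • φ = 0 by rw [dotProduct_neg, neg_smul]; abel, add_neg_cancel] at e
    exact ⟨_, _, (inv_eq_of_mul_eq_one_right (e.unique (qRel_one p φ))).symm ▸ r'⟩

theorem mem_qTV {p φ : ι → ZMod 2} {h : φ ⬝ᵥ p = 0} {g : SL2ι} :
    g ∈ qTV h ↔ ∃ α w, QRel p φ g α w := Iff.rfl

theorem qTV_le_cTV {p φ : ι → ZMod 2} (h : φ ⬝ᵥ p = 0) : qTV h ≤ cTV p φ := by
  rintro g ⟨α, w, a1, a2, a3⟩
  refine ⟨by rw [a3, a1, h]; simp, funext fun j => ?_⟩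
  have e := congrArg (fun x => φ ⬝ᵥ x) (a3 (Pi.single j 1))
  simp only [dotProduct_add, dotProduct_smul, h, a2, smul_zero, add_zero] at e
  rw [Matrix.dotProduct_mulVec] at e
  simpa using e

theorem qTV_conj {p φ : ι → ZMod 2} (h : φ ⬝ᵥ p = 0) {g x : SL2ι} (hg : g ∈ cTV p φ)
    (hx : x ∈ qTV h) : g * x * g⁻¹ ∈ qTV h := by
  obtain ⟨α, w, a1, a2, a3⟩ := hx
  have gi := inv_mem hg
  refine ⟨α ᵥ* (g⁻¹).1, g.1 *ᵥ w, ?_, ?_, fun v => ?_⟩
  · rw [← Matrix.dotProduct_mulVec, gi.1, a1]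
  · rw [Matrix.dotProduct_mulVec, hg.2, a2]
  · rw [mul_mulVec, mul_mulVec, a3, Matrix.mulVec_add, Matrix.mulVec_add, Matrix.mulVec_smul,
      Matrix.mulVec_smul, ← mul_mulVec g g⁻¹, mul_inv_cancel, Matrix.SpecialLinearGroup.coe_one,
      Matrix.one_mulVec, hg.1, ← Matrix.dotProduct_mulVec α]
    congr 2
    rw [Matrix.dotProduct_mulVec φ, gi.2]

theorem tm_mem_qTV_left {p φ α : ι → ZMod 2} (h : φ ⬝ᵥ p = 0) (ha : α ⬝ᵥ p = 0) (c : ZMod 2) :
    tm p α c ∈ qTV h :=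
  ⟨c • α, 0, by simp [ha], by simp, fun v => by simp [tm_mulVec ha]⟩

theorem tm_mem_qTV_right {p φ w : ι → ZMod 2} (h : φ ⬝ᵥ p = 0) (hw : φ ⬝ᵥ w = 0) :
    tm w φ 1 ∈ qTV h :=
  ⟨0, w, by simp, hw, fun v => by simp [tm_mulVec hw]⟩

theorem qTV_sq {p φ : ι → ZMod 2} (h : φ ⬝ᵥ p = 0) {g : SL2ι} (hg : g ∈ qTV h) :
    ∃ c, g * g = tm p φ c := by
  obtain ⟨α, w, r⟩ := hg
  refine ⟨α ⬝ᵥ w, sl_ext_mulVec fun v => ?_⟩
  rw [(r.mul h r).2.2, tm_mulVec h]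
  have e1 : α + α = 0 := funext fun i => zmod2_add_self' (α i)
  have e2 : w + w = 0 := funext fun i => zmod2_add_self' (w i)
  simp [e1, e2]

theorem qTV_isPGroup {p φ : ι → ZMod 2} (h : φ ⬝ᵥ p = 0) : IsPGroup 2 (qTV h) := by
  rintro ⟨g, hg⟩
  refine ⟨2, Subtype.ext ?_⟩
  obtain ⟨c, hc⟩ := qTV_sq h hg
  show g ^ 2 ^ 2 = 1
  rw [show g ^ 2 ^ 2 = (g * g) * (g * g) by simp [pow_succ, mul_assoc], hc, tm_mul h, zmod2_add_self', tm_zero h]

theorem qTV_comm {p φ : ι → ZMod 2} (h : φ ⬝ᵥ p = 0) {x y : SL2ι} {α w α' w' : ι → ZMod 2}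
    (r : QRel p φ x α w) (r' : QRel p φ y α' w') :
    x * y = tm p φ (α ⬝ᵥ w' + α' ⬝ᵥ w) * (y * x) := by
  refine sl_ext_mulVec fun v => ?_
  rw [(r.mul h r').2.2, mul_mulVec (tm p φ _), (r'.mul h r).2.2, tm_mulVec h]
  simp only [dotProduct_add, dotProduct_smul, add_dotProduct, smul_dotProduct, h, r.2.1, r'.2.1,
    smul_eq_mul]
  have e2 : (α' ⬝ᵥ w) • (φ ⬝ᵥ v) • p + (α' ⬝ᵥ w) • (φ ⬝ᵥ v) • p = 0 := by
    rw [← add_smul, zmod2_add_self', zero_smul]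
  linear_combination (norm := module) -e2

section Struct

variable {p φ : ι → ZMod 2} (h : φ ⬝ᵥ p = 0) (hp : p ≠ 0) (hφ : φ ≠ 0)
include hp hφ

theorem exists_dual : ∃ q β : ι → ZMod 2, φ ⬝ᵥ q = 1 ∧ β ⬝ᵥ p = 1 := by
  obtain ⟨i, hi⟩ := Function.ne_iff.1 hφ
  obtain ⟨j, hj⟩ := Function.ne_iff.1 hp
  exact ⟨Pi.single i 1, Pi.single j 1,
    by simpa using (zmod2_cases' _).resolve_left hi,
    by simpa using (zmod2_cases' _).resolve_left hj⟩

theorem qTV_centre {x : SL2ι} (hx : x ∈ qTV h) (hc : ∀ y ∈ qTV h, y * x = x * y) :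
    x = 1 ∨ x = tm p φ 1 := by
  obtain ⟨α, w, r⟩ := hx
  obtain ⟨q, β, hq, hβ⟩ := exists_dual hp hφ
  have key : ∀ α' w', α' ⬝ᵥ p = 0 → φ ⬝ᵥ w' = 0 → α ⬝ᵥ w' + α' ⬝ᵥ w = 0 := fun α' w' ha hw => by
    have r' := qRel_qElt h ha hw
    have e := qTV_comm h r r'
    rw [hc _ ⟨_, _, r'⟩] at e
    exact (tm_eq_one_iff h hp hφ).1 (mul_eq_right.1 e.symm)
  have hα : α = (α ⬝ᵥ q) • φ := funext fun j => by
    have h1 := key 0 (Pi.single j 1 - (φ j) • q) (zero_dotProduct _) (by simp [hq])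
    simp only [zero_dotProduct, add_zero, dotProduct_sub, dotProduct_smul, dotProduct_single,
      mul_one, smul_eq_mul, sub_eq_zero] at h1
    rw [h1, Pi.smul_apply, smul_eq_mul, mul_comm]
  have hw : w = (β ⬝ᵥ w) • p := funext fun j => by
    have h1 := key (Pi.single j 1 - (p j) • β) 0 (by simp [hβ]) (dotProduct_zero _)
    simp only [dotProduct_zero, zero_add, sub_dotProduct, smul_dotProduct, single_dotProduct,
      one_mul, smul_eq_mul, sub_eq_zero] at h1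
    rw [h1, Pi.smul_apply, smul_eq_mul, mul_comm]
  have hx : x = tm p φ (α ⬝ᵥ q + β ⬝ᵥ w) := sl_ext_mulVec fun v => by
    rw [r.2.2, tm_mulVec h]
    conv_lhs => rw [hα, hw]
    simp only [smul_dotProduct, smul_eq_mul]
    module
  rcases zmod2_cases' (α ⬝ᵥ q + β ⬝ᵥ w) with e | e
  · left; rw [hx, e, tm_zero h]
  · right; rw [hx, e]

theorem tm_mem_center : ∀ y ∈ qTV h, y * tm p φ 1 = tm p φ 1 * y := fun y hy => by
  have := qTV_le_cTV h hy
  rw [← centralizer_tm h hp hφ, Subgroup.mem_centralizer_singleton_iff] at this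
  exact this

theorem qTV_centerMap : (Subgroup.center (qTV h)).map (qTV h).subtype =
    Subgroup.zpowers (tm p φ 1) := by
  ext x
  rw [H93.mem_centerMap]
  constructor
  · rintro ⟨hx, hc⟩
    rcases qTV_centre h hp hφ hx hc with rfl | rfl
    exacts [one_mem _, Subgroup.mem_zpowers _]
  · intro hx
    exact H93.mem_centerMap.1 (Subgroup.zpowers_le.2 (H93.mem_centerMap.2
      ⟨tm_mem_qTV_left h h 1, tm_mem_center h hp hφ⟩) hx)

theorem qTV_centralizer : Subgroup.centralizer (qTV h : Set SL2ι) =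
    (Subgroup.center (qTV h)).map (qTV h).subtype := by
  refine le_antisymm (fun g hg => ?_) (fun c hc =>
    Subgroup.mem_centralizer_iff.2 (H93.mem_centerMap.1 hc).2)
  have hg' := Subgroup.mem_centralizer_iff.1 hg
  refine H93.mem_centerMap.2 ⟨?_, hg'⟩
  have hgC : g ∈ cTV p φ := by
    rw [← centralizer_tm h hp hφ, Subgroup.mem_centralizer_singleton_iff]
    exact (hg' _ (tm_mem_qTV_left h h 1)).symm
  obtain ⟨q, β, hq, hβ⟩ := exists_dual hp hφ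
  refine ⟨0, g.1 *ᵥ q - q, zero_dotProduct _, ?_, fun v => ?_⟩
  · rw [dotProduct_sub, Matrix.dotProduct_mulVec, hgC.2, sub_self]
  have fix : ∀ w, φ ⬝ᵥ w = 0 → g.1 *ᵥ w = w := fun w hw => by
    by_cases hw0 : w = 0
    · simp [hw0]
    have e : g * tm w φ 1 * g⁻¹ = tm w φ 1 := by
      rw [← hg' _ (tm_mem_qTV_right h hw), mul_inv_cancel_right]
    rw [tm_conj hw] at e
    exact (tm_injective hw (by rw [dot_mulVec_conj, hw]) hw0 hφ e.symm).1.symm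
  have e := fix (v - (φ ⬝ᵥ v) • q) (by simp [hq])
  rw [Matrix.mulVec_sub, Matrix.mulVec_smul, sub_eq_iff_eq_add] at e
  rw [e, zero_dotProduct, smul_sub]
  module

theorem qTV_extraspecial {ψ : ι → ZMod 2} (hψ : ψ ⬝ᵥ p = 0) (hψ0 : ψ ≠ 0) (hψφ : ψ ≠ φ) :
    IsExtraspecial 2 (qTV h) := by
  refine H69.isExtraspecial_two_of ⟨tm p φ 1, tm_mem_qTV_left h h 1⟩ (qTV_isPGroup h) ?_ ?_ ?_ ?_
  · rintro ⟨x, hx⟩
    obtain ⟨c, hc⟩ := qTV_sq h hx
    rcases zmod2_cases' c with rfl | rfl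
    · left; exact Subtype.ext (hc.trans (tm_zero h))
    · right; exact Subtype.ext hc
  · rintro ⟨x, α, w, r⟩ ⟨y, α', w', r'⟩
    have e := qTV_comm h r r'
    rcases zmod2_cases' (α ⬝ᵥ w' + α' ⬝ᵥ w) with hc | hc <;> rw [hc] at e
    · left; exact Subtype.ext (by simpa [tm_zero h] using e)
    · right; exact Subtype.ext e
  · by_contra hne
    push Not at hne
    have hb := tm_mem_qTV_left h hψ 1
    rcases qTV_centre h hp hφ hb (fun y hy =>
      congrArg Subtype.val (hne ⟨y, hy⟩ ⟨_, hb⟩)) with e | e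
    · exact one_ne_zero ((tm_eq_one_iff hψ hp hψ0).1 e)
    · exact hψφ (tm_injective hψ h hp hψ0 e).2
  · rintro ⟨x, hx⟩ hc
    rcases qTV_centre h hp hφ hx (fun y hy => congrArg Subtype.val (hc ⟨y, hy⟩)) with e | e
    · left; exact Subtype.ext e
    · right; exact Subtype.ext e

theorem qTV_le_pCore :
    qTV h ≤ (Cfsg.pCore 2 ↥(Subgroup.centralizer ({tm p φ 1} : Set SL2ι))).map
      (Subgroup.centralizer ({tm p φ 1} : Set SL2ι)).subtype := by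
  intro x hx
  have hle : qTV h ≤ Subgroup.centralizer ({tm p φ 1} : Set SL2ι) := by
    rw [centralizer_tm h hp hφ]; exact qTV_le_cTV h
  refine ⟨⟨x, hle hx⟩, ?_, rfl⟩
  unfold Cfsg.pCore
  refine Subgroup.mem_sSup_of_mem (s := (qTV h).subgroupOf (Subgroup.centralizer ({tm p φ 1} : Set SL2ι))) ?_ (x := ⟨x, hle hx⟩) hx
  refine ⟨?_, ?_⟩
  · refine ⟨fun n hn g => ?_⟩
    have hg : g.1 ∈ cTV p φ := (centralizer_tm h hp hφ).le g.2
    simpa [Subgroup.mem_subgroupOf] using qTV_conj h hg hn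
  · exact (qTV_isPGroup h).comap_subtype

theorem qTV_large {ψ : ι → ZMod 2} (hψ : ψ ⬝ᵥ p = 0) (hψ0 : ψ ≠ 0) (hψφ : ψ ≠ φ) :
    IsLargeExtraspecial (qTV h) := by
  have hb1 : tm p ψ 1 ≠ 1 := fun e => one_ne_zero ((tm_eq_one_iff hψ hp hψ0).1 e)
  refine H93.large_of_centre_in_twoCore_centralizer (qTV_extraspecial h hp hφ hψ hψ0 hψφ)
    (qTV_centralizer h hp hφ) ?_ (b := tm p ψ 1) (tm_mem_qTV_left h hψ 1) ?_ ?_ ?_
  · intro g hg
    have hg' : g ∈ cTV p φ := by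
      rw [← centralizer_tm h hp hφ, Subgroup.mem_centralizer_singleton_iff]
      exact (Subgroup.mem_centralizer_iff.1 hg _ (by
        rw [SetLike.mem_coe, qTV_centerMap h hp hφ]; exact Subgroup.mem_zpowers _)).symm
    rw [Subgroup.mem_normalizer_iff]
    refine fun x => ⟨fun hx => qTV_conj h hg' hx, fun hx => ?_⟩
    simpa [mul_assoc] using qTV_conj h (inv_mem hg') hx
  · rw [H93.mem_centerMap]
    rintro ⟨hb, hc⟩
    rcases qTV_centre h hp hφ hb hc with e | e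
    · exact hb1 e
    · exact hψφ (tm_injective hψ h hp hψ0 e).2
  · refine orderOf_eq_prime ?_ hb1
    rw [pow_two, tm_mul hψ, zmod2_add_self', tm_zero hψ]
  · rw [qTV_centerMap h hp hφ, Subgroup.zpowers_le]
    exact qTV_le_pCore hψ hp hψ0 (tm_mem_qTV_left hψ h 1)

end Struct

/-- Splitting off a vector with value one under a functional. -/
theorem card_split_functional {β u : ι → ZMod 2} (hu : β ⬝ᵥ u = 1) (P : (ι → ZMod 2) → Prop)
    (hP : ∀ v (c : ZMod 2), P (v + c • u) ↔ P v) :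
    Nat.card {v // P v} = 2 * Nat.card {v // P v ∧ β ⬝ᵥ v = 0} := by
  let e : {v // P v} ≃ ZMod 2 × {v // P v ∧ β ⬝ᵥ v = 0} :=
    { toFun := fun v => (β ⬝ᵥ v.1, ⟨v.1 + (β ⬝ᵥ v.1) • u, (hP _ _).2 v.2, by
        simp [hu, zmod2_add_self']⟩)
      invFun := fun x => ⟨x.2.1 + x.1 • u, (hP _ _).2 x.2.2.1⟩
      left_inv := fun v => Subtype.ext (by
        show v.1 + (β ⬝ᵥ v.1) • u + (β ⬝ᵥ v.1) • u = v.1
        rw [add_assoc, ← add_smul, zmod2_add_self', zero_smul, add_zero])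
      right_inv := fun x => by
        have e1 : β ⬝ᵥ (x.2.1 + x.1 • u) = x.1 := by simp [hu, x.2.2.2]
        refine Prod.ext e1 (Subtype.ext ?_)
        show x.2.1 + x.1 • u + (β ⬝ᵥ (x.2.1 + x.1 • u)) • u = x.2.1
        rw [e1, add_assoc, ← add_smul, zmod2_add_self', zero_smul, add_zero] }
  rw [Nat.card_congr e, Nat.card_prod, Nat.card_zmod]

theorem card_vec2 : Nat.card (ι → ZMod 2) = 2 ^ Fintype.card ι := by
  rw [Nat.card_fun, Nat.card_zmod, Nat.card_eq_fintype_card]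

theorem card_hyper2 {β u : ι → ZMod 2} (hu : β ⬝ᵥ u = 1) :
    2 * Nat.card {v // β ⬝ᵥ v = 0} = 2 ^ Fintype.card ι := by
  have := card_split_functional hu (fun _ => True) (fun _ _ => Iff.rfl)
  rw [Nat.card_congr (Equiv.subtypeUnivEquiv fun _ => trivial), card_vec2] at this
  rw [this, Nat.card_congr (Equiv.subtypeEquivRight (fun v => (⟨And.right, fun h => ⟨trivial, h⟩⟩ : True ∧ β ⬝ᵥ v = 0 ↔ β ⬝ᵥ v = 0)))]

theorem card_qTV {p φ : ι → ZMod 2} (h : φ ⬝ᵥ p = 0) (hp : p ≠ 0) (hφ : φ ≠ 0) :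
    8 * Nat.card (qTV h) = 2 ^ Fintype.card ι * 2 ^ Fintype.card ι := by
  obtain ⟨q, β, hq, hβ⟩ := exists_dual hp hφ
  let f : {α // α ⬝ᵥ p = 0} × {w // φ ⬝ᵥ w = 0 ∧ β ⬝ᵥ w = 0} → qTV h :=
    fun x => ⟨qElt p φ x.1.1 x.2.1, _, _, qRel_qElt h x.1.2 x.2.2.1⟩
  have hf : Function.Bijective f := by
    constructor
    · intro x y e
      have e' : ∀ v, (x.1.1 ⬝ᵥ v) • p + (φ ⬝ᵥ v) • x.2.1 = (y.1.1 ⬝ᵥ v) • p + (φ ⬝ᵥ v) • y.2.1 :=
        fun v => by
          have := congrArg (fun g : qTV h => g.1.1 *ᵥ v) e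
          simp only [f, (qRel_qElt h x.1.2 x.2.2.1).2.2, (qRel_qElt h y.1.2 y.2.2.1).2.2,
            add_assoc] at this
          exact add_left_cancel this
      have h1 : x.1.1 = y.1.1 := funext fun j => by
        have := congrArg (fun u => β ⬝ᵥ u) (e' (Pi.single j 1))
        simpa [hβ, x.2.2.2, y.2.2.2] using this
      refine Prod.ext (Subtype.ext h1) (Subtype.ext ?_)
      have := e' q
      rw [h1, hq, one_smul, one_smul] at this
      exact add_left_cancel this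
    · rintro ⟨g, α, w, r⟩
      refine ⟨(⟨α + (β ⬝ᵥ w) • φ, by simp [r.1, h]⟩,
        ⟨w + (β ⬝ᵥ w) • p, by simp [r.2.1, h], by simp [hβ, zmod2_add_self']⟩),
        Subtype.ext (sl_ext_mulVec fun v => ?_)⟩
      rw [(qRel_qElt h (by simp [r.1, h]) (by simp [r.2.1, h])).2.2, r.2.2]
      simp only [add_dotProduct, smul_dotProduct, smul_eq_mul]
      have e2 : ((β ⬝ᵥ w) * (φ ⬝ᵥ v)) • p + ((β ⬝ᵥ w) * (φ ⬝ᵥ v)) • p = 0 := by
        rw [← add_smul, zmod2_add_self', zero_smul]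
      linear_combination (norm := module) e2
  have hA : 2 * Nat.card {α : ι → ZMod 2 // α ⬝ᵥ p = 0} = 2 ^ Fintype.card ι := by
    rw [Nat.card_congr (Equiv.subtypeEquivRight fun v => by rw [dotProduct_comm])]
    exact card_hyper2 (u := β) (by rw [dotProduct_comm, hβ])
  have hW : 4 * Nat.card {w : ι → ZMod 2 // φ ⬝ᵥ w = 0 ∧ β ⬝ᵥ w = 0} = 2 ^ Fintype.card ι := by
    rw [← card_hyper2 (β := φ) hq,
      card_split_functional hβ (fun v => φ ⬝ᵥ v = 0) (fun v c => by simp [h])]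
    ring
  rw [← Nat.card_congr (Equiv.ofBijective f hf), Nat.card_prod, ← hA]
  conv_rhs => arg 2; rw [hA, ← hW]
  ring

/-- The transvections with centre `p` in the radical. -/
noncomputable def eTV (p : ι → ZMod 2) : Subgroup SL2ι where
  carrier := {g | ∃ α, α ⬝ᵥ p = 0 ∧ g = tm p α 1}
  one_mem' := ⟨0, zero_dotProduct _, sl_ext_mulVec fun v => by simp [tm_mulVec]⟩
  mul_mem' := by
    rintro a b ⟨α, ha, rfl⟩ ⟨α', hb, rfl⟩
    refine ⟨α + α', by simp [ha, hb], sl_ext_mulVec fun v => ?_⟩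
    rw [mul_mulVec, tm_mulVec hb, tm_mulVec ha, tm_mulVec (by simp [ha, hb])]
    simp only [dotProduct_add, dotProduct_smul, add_dotProduct, ha, one_mul, smul_eq_mul]
    module
  inv_mem' := by
    rintro a ⟨α, ha, rfl⟩
    exact ⟨α, ha, by rw [tm_inv ha]; congr 1⟩

theorem eTV_le {p φ : ι → ZMod 2} (h : φ ⬝ᵥ p = 0) : eTV p ≤ qTV h := by
  rintro g ⟨α, ha, rfl⟩
  exact tm_mem_qTV_left h ha 1

theorem eTV_elementary (p : ι → ZMod 2) : IsElementaryAbelian 2 (eTV p) := by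
  refine ⟨⟨⟨fun x y => Subtype.ext ?_⟩⟩, fun a ha => ?_⟩
  · obtain ⟨α, ha, hx⟩ := x.2
    obtain ⟨α', hb, hy⟩ := y.2
    simp only [Subgroup.coe_mul, hx, hy]
    exact (tm_commute ha hb ha hb 1 1).eq
  · obtain ⟨α, hα, rfl⟩ := ha
    rw [pow_two, tm_mul hα, zmod2_add_self', tm_zero hα]

theorem card_eTV {p : ι → ZMod 2} (hp : p ≠ 0) :
    2 * Nat.card (eTV p) = 2 ^ Fintype.card ι := by
  let f : {α : ι → ZMod 2 // α ⬝ᵥ p = 0} → eTV p := fun a => ⟨tm p a.1 1, a.1, a.2, rfl⟩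
  have hf : Function.Bijective f := by
    refine ⟨fun a b e => Subtype.ext (funext fun j => ?_), fun ⟨g, α, ha, e⟩ => ⟨⟨α, ha⟩, Subtype.ext e.symm⟩⟩
    obtain ⟨i, hi⟩ := Function.ne_iff.1 hp
    have := congrArg (fun g : eTV p => (g.1.1 *ᵥ Pi.single j 1) i) e
    simp only [f, tm_mulVec a.2, tm_mulVec b.2] at this
    simpa [(zmod2_cases' (p i)).resolve_left hi] using this
  obtain ⟨i, hi⟩ := Function.ne_iff.1 hp
  rw [← Nat.card_congr (Equiv.ofBijective f hf),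
    Nat.card_congr (Equiv.subtypeEquivRight fun v => by rw [dotProduct_comm])]
  exact card_hyper2 (u := Pi.single i 1) (by simpa using (zmod2_cases' _).resolve_left hi)

end H98
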