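import Cfsg.Agent.H98.TwoTransCent

/-! The centraliser of the standard transvection of `SL_{n+2}(2)`. -/

set_option autoImplicit false

namespace H98

open Cfsg Matrix

theorem map_pCore_eq_of_hom {G L : Type*} [Group G] [Group L] (C Q : Subgroup G) (π : ↥C →* L)
    (hπ : Function.Surjective π) (hQC : Q ≤ C) (hker : ∀ x : C, π x = 1 ↔ (x : G) ∈ Q)
    (hQ : IsPGroup 2 Q) (hL : ∀ N : Subgroup L, N.Normal → IsPGroup 2 N → N = ⊥) :
    (Cfsg.pCore 2 C).map C.subtype = Q := by
  have hk : Q.subgroupOf C = π.ker := by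
    ext x; rw [Subgroup.mem_subgroupOf, MonoidHom.mem_ker, hker]
  apply le_antisymm
  · rintro _ ⟨x, hx, rfl⟩
    have hn := H93.pCore_normal' (G := C) 2
    have : (Cfsg.pCore 2 C).map π = ⊥ :=
      hL _ (hn.map π hπ) ((H93.isPGroup_pCore 2).map π)
    exact (hker x).1 (by rw [← Subgroup.mem_bot, ← this]; exact ⟨x, hx, rfl⟩)
  · intro x hx
    refine ⟨⟨x, hQC hx⟩, ?_, rfl⟩
    unfold Cfsg.pCore
    exact Subgroup.mem_sSup_of_mem (s := Q.subgroupOf C)
      (show _ ∧ _ from ⟨hk ▸ π.normal_ker, hQ.comap_subtype⟩) (x := ⟨x, hQC hx⟩) hx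

theorem gl2_no_normal_two {n : ℕ} (N : Subgroup (Matrix.GeneralLinearGroup (Fin n) (ZMod 2)))
    (hn : N.Normal) (hN : IsPGroup 2 N) : N = ⊥ := by
  rw [Subgroup.eq_bot_iff_forall]
  intro g hg
  refine Units.ext (Matrix.ext_iff_mulVec.2 fun u => ?_)
  rw [Units.val_one, Matrix.one_mulVec]
  by_cases hu : u = 0
  · simp [hu]
  let act : MulAction N (Fin n → ZMod 2) :=
    { smul := fun x v => x.1.1 *ᵥ v
      one_smul := fun v => Matrix.one_mulVec v
      mul_smul := fun x y v => (Matrix.mulVec_mulVec v x.1.1 y.1.1).symm }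
  have : Fact (Nat.Prime 2) := ⟨Nat.prime_two⟩
  have hn0 : n ≠ 0 := fun e => by subst e; exact hu (Subsingleton.elim _ _)
  obtain ⟨v, hv, hv0⟩ := hN.exists_fixed_point_of_prime_dvd_card_of_fixed_point (Fin n → ZMod 2)
    (by rw [card_vec2, Fintype.card_fin]; exact dvd_pow_self 2 hn0)
    (a := 0) (fun x => Matrix.mulVec_zero x.1.1)
  obtain ⟨t, a, ha, ht⟩ := exists_move_vec (fun e => hv0 e.symm) hu
  rw [(zmod2_cases' a).resolve_left ha, one_smul] at ht
  let T := Matrix.SpecialLinearGroup.toGL t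
  have h1 : (T⁻¹ * g * T⁻¹⁻¹) ∈ N := hn.conj_mem _ hg _
  have h2 : (T⁻¹ * g * T).1 *ᵥ v = v := hv ⟨_, by simpa using h1⟩
  calc g.1 *ᵥ u = (T * (T⁻¹ * g * T)).1 *ᵥ v := by
        rw [show T * (T⁻¹ * g * T) = g * T by group, Units.val_mul, ← Matrix.mulVec_mulVec]
        exact congrArg (g.1 *ᵥ ·) ht.symm
    _ = T.1 *ᵥ ((T⁻¹ * g * T).1 *ᵥ v) := by rw [Units.val_mul, Matrix.mulVec_mulVec]
    _ = u := by rw [h2]; exact ht

theorem sl2_toGL_bijective {n : ℕ} :
    Function.Bijective (Matrix.SpecialLinearGroup.toGL :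
      Matrix.SpecialLinearGroup (Fin n) (ZMod 2) → Matrix.GeneralLinearGroup (Fin n) (ZMod 2)) := by
  refine ⟨fun a b e => Subtype.ext (congrArg Units.val e), fun g => ?_⟩
  have hd : g.1.det = 1 := (zmod2_cases' _).resolve_left
    (((Matrix.isUnit_iff_isUnit_det g.1).1 g.isUnit).ne_zero)
  exact ⟨⟨g.1, hd⟩, Units.ext rfl⟩

section Coord

variable (n : ℕ)

/-- The standard centre vector. -/
def pv : Fin (n + 2) → ZMod 2 := Pi.single 0 1

/-- The standard axis functional. -/
def fv : Fin (n + 2) → ZMod 2 := Pi.single 1 1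

theorem fv_pv : fv n ⬝ᵥ pv n = 0 := by simp [fv, pv]

theorem pv_ne : pv n ≠ 0 := by simp [pv]

theorem fv_ne : fv n ≠ 0 := by simp [fv]

/-- The standard radical. -/
noncomputable def qStd : Subgroup (Matrix.SpecialLinearGroup (Fin (n + 2)) (ZMod 2)) :=
  qTV (fv_pv n)

/-- The standard centraliser. -/
def cStd : Subgroup (Matrix.SpecialLinearGroup (Fin (n + 2)) (ZMod 2)) := cTV (pv n) (fv n)

theorem qStd_le : qStd n ≤ cStd n := qTV_le_cTV _

theorem mem_cStd {g : Matrix.SpecialLinearGroup (Fin (n + 2)) (ZMod 2)} :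
    g ∈ cStd n ↔ (∀ i, g.1 i 0 = (Pi.single 0 1 : Fin (n + 2) → ZMod 2) i) ∧
      ∀ j, g.1 1 j = (Pi.single 1 1 : Fin (n + 2) → ZMod 2) j := by
  rw [cStd, mem_cTV, funext_iff, funext_iff, pv, fv]
  refine and_congr (forall_congr' fun i => ?_) (forall_congr' fun j => ?_)
  · simp [Matrix.mulVec_single]
  · simp [Matrix.single_vecMul]

theorem sum_two_tail (f : Fin (n + 2) → ZMod 2) :
    ∑ i, f i = f 0 + (f 1 + ∑ j : Fin n, f j.succ.succ) := by
  rw [Fin.sum_univ_succ, Fin.sum_univ_succ, Fin.succ_zero_eq_one]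

theorem cStd_col (g : cStd n) (i : Fin n) : g.1.1 i.succ.succ 0 = 0 := by
  rw [((mem_cStd n).1 g.2).1]; simp

theorem cStd_row (g : cStd n) (j : Fin n) : g.1.1 1 j.succ.succ = 0 := by
  rw [((mem_cStd n).1 g.2).2, Pi.single_eq_of_ne]
  rw [← Fin.succ_zero_eq_one]
  exact fun e => Fin.succ_ne_zero _ (Fin.succ_injective _ e)

/-- The block of an element of the centraliser, as a monoid homomorphism. -/
def blockM : ↥(cStd n) →* Matrix (Fin n) (Fin n) (ZMod 2) where
  toFun g := Matrix.of fun i j => g.1.1 i.succ.succ j.succ.succ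
  map_one' := by ext i j; simp [Matrix.one_apply]
  map_mul' g g' := by
    ext i j
    show (g * g').1.1 i.succ.succ j.succ.succ = _
    rw [Subgroup.coe_mul, Matrix.SpecialLinearGroup.coe_mul, Matrix.mul_apply, sum_two_tail n,
      cStd_col n g i, cStd_row n g' j, zero_mul, mul_zero, zero_add, zero_add, Matrix.mul_apply]
    rfl

/-- The action of the centraliser on the middle space. -/
def blockHom : ↥(cStd n) →* Matrix.GeneralLinearGroup (Fin n) (ZMod 2) := (blockM n).toHomUnits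

theorem blockHom_apply (g : cStd n) (i j : Fin n) :
    (blockHom n g).1 i j = g.1.1 i.succ.succ j.succ.succ := rfl

theorem blockHom_eq_one (g : cStd n) : blockHom n g = 1 ↔ g.1 ∈ qStd n := by
  constructor
  · intro e
    refine ⟨g.1.1 0 - Pi.single 0 1, Fin.cons 0 (Fin.cons 0 fun i => g.1.1 i.succ.succ 1),
      ?_, ?_, fun v => ?_⟩
    · simp [pv, ((mem_cStd n).1 g.2).1 0]
    · simp [fv]
    · funext i
      show g.1.1 i ⬝ᵥ v = _
      rw [Pi.add_apply, Pi.add_apply, Pi.smul_apply, Pi.smul_apply, sub_dotProduct]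
      simp only [pv, fv, single_dotProduct, one_mul, smul_eq_mul]
      induction i using Fin.cases with
      | zero => simp
      | succ i' =>
        induction i' using Fin.cases with
        | zero =>
          have : g.1.1 1 = Pi.single 1 1 := funext ((mem_cStd n).1 g.2).2
          simp only [Fin.succ_zero_eq_one, this, single_dotProduct, one_mul]
          simp
        | succ i'' =>
          have hb : ∀ j : Fin n, g.1.1 i''.succ.succ j.succ.succ =
              (1 : Matrix (Fin n) (Fin n) (ZMod 2)) i'' j := fun j => by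
            rw [← blockHom_apply n g, e]; rfl
          simp only [dotProduct, sum_two_tail n, hb, cStd_col n g i'', Fin.cons_succ]
          simp [Matrix.one_apply, Fin.succ_ne_zero, mul_comm, add_comm]
  · rintro ⟨α, w, r⟩
    refine Units.ext (Matrix.ext fun i j => ?_)
    have h1 : (fv n ⬝ᵥ Pi.single j.succ.succ 1) = 0 := by
      rw [fv, single_dotProduct, one_mul, Pi.single_eq_of_ne]
      rw [← Fin.succ_zero_eq_one]
      exact fun e => Fin.succ_ne_zero _ (Fin.succ_injective _ e).symm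
    have := congrFun (r.2.2 (Pi.single j.succ.succ 1)) i.succ.succ
    rw [h1, zero_smul, add_zero] at this
    rw [blockHom_apply]
    simpa [pv, Matrix.mulVec_single, Pi.single_apply, Matrix.one_apply, Fin.succ_ne_zero] using this

/-- Block diagonal matrix. -/
def dMat (M : Matrix (Fin n) (Fin n) (ZMod 2)) : Matrix (Fin (n + 2)) (Fin (n + 2)) (ZMod 2) :=
  Matrix.of (Fin.cons (Pi.single 0 1) (Fin.cons (Pi.single 1 1) fun i => Fin.cons 0 (Fin.cons 0 (M i))))

theorem dMat_row0 (M : Matrix (Fin n) (Fin n) (ZMod 2)) : dMat n M 0 = Pi.single 0 1 := rfl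

theorem dMat_row1 (M : Matrix (Fin n) (Fin n) (ZMod 2)) : dMat n M 1 = Pi.single 1 1 := rfl

theorem dMat_rowSS (M : Matrix (Fin n) (Fin n) (ZMod 2)) (i : Fin n) :
    dMat n M i.succ.succ = Fin.cons 0 (Fin.cons 0 (M i)) := rfl

theorem dMat_mulVec (M : Matrix (Fin n) (Fin n) (ZMod 2)) (v : Fin (n + 2) → ZMod 2) :
    dMat n M *ᵥ v = Fin.cons (v 0) (Fin.cons (v 1) (M *ᵥ fun j => v j.succ.succ)) := by
  funext i
  show dMat n M i ⬝ᵥ v = _
  induction i using Fin.cases with
  | zero => rw [dMat_row0]; simp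
  | succ i' =>
    induction i' using Fin.cases with
    | zero => rw [Fin.succ_zero_eq_one, dMat_row1]; simp
    | succ i'' =>
      rw [dMat_rowSS]
      simp only [Fin.cons_succ, dotProduct, sum_two_tail n, Fin.cons_zero, Fin.cons_one]
      simp [Matrix.mulVec, dotProduct]

theorem dMat_one : dMat n 1 = 1 := Matrix.ext_iff_mulVec.2 fun v => by
  rw [dMat_mulVec, Matrix.one_mulVec, Matrix.one_mulVec]
  funext i
  induction i using Fin.cases with
  | zero => rfl
  | succ i' =>
    induction i' using Fin.cases with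
    | zero => simp
    | succ i'' => simp

theorem dMat_mul (M M' : Matrix (Fin n) (Fin n) (ZMod 2)) :
    dMat n (M * M') = dMat n M * dMat n M' := Matrix.ext_iff_mulVec.2 fun v => by
  rw [← Matrix.mulVec_mulVec, dMat_mulVec, dMat_mulVec, dMat_mulVec, ← Matrix.mulVec_mulVec]
  simp

theorem dMat_det (M : Matrix.GeneralLinearGroup (Fin n) (ZMod 2)) : (dMat n M.1).det = 1 := by
  refine (zmod2_cases' _).resolve_left fun e => ?_
  have := congrArg Matrix.det ((dMat_mul n M.1 (M⁻¹).1).symm)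
  rw [Matrix.det_mul, e, zero_mul, ← Units.val_mul, mul_inv_cancel, Units.val_one, dMat_one,
    Matrix.det_one] at this
  exact zero_ne_one this

/-- The block diagonal embedding into the centraliser. -/
def dHom : Matrix.GeneralLinearGroup (Fin n) (ZMod 2) →* ↥(cStd n) where
  toFun M := ⟨⟨dMat n M.1, dMat_det n M⟩, (mem_cStd n).2 ⟨fun i => by
    show dMat n M.1 i 0 = _
    induction i using Fin.cases with
    | zero => simp [dMat]
    | succ i' =>
      induction i' using Fin.cases with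
      | zero => simp [dMat]
      | succ i'' => simp [dMat, Fin.succ_ne_zero], fun j => by
    show dMat n M.1 1 j = _
    rw [dMat_row1]⟩⟩
  map_one' := Subtype.ext (Subtype.ext (dMat_one n))
  map_mul' M M' := Subtype.ext (Subtype.ext (dMat_mul n M.1 M'.1))

theorem blockHom_dHom (M : Matrix.GeneralLinearGroup (Fin n) (ZMod 2)) :
    blockHom n (dHom n M) = M := Units.ext (Matrix.ext fun i j => by
  rw [blockHom_apply]
  show dMat n M.1 i.succ.succ j.succ.succ = _
  simp [dMat])

theorem blockHom_surjective : Function.Surjective (blockHom n) :=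
  fun M => ⟨_, blockHom_dHom n M⟩

theorem centralizer_std : Subgroup.centralizer ({tm (pv n) (fv n) 1} :
    Set (Matrix.SpecialLinearGroup (Fin (n + 2)) (ZMod 2))) = cStd n :=
  centralizer_tm (fv_pv n) (pv_ne n) (fv_ne n)

theorem exists_std_complement :
    ∃ K : Subgroup (Matrix.SpecialLinearGroup (Fin (n + 2)) (ZMod 2)),
      K ≤ cStd n ∧ qStd n ⊓ K = ⊥ ∧ qStd n ⊔ K = cStd n ∧
      Nonempty (↥K ≃* Matrix.GeneralLinearGroup (Fin n) (ZMod 2)) := by
  set f := (cStd n).subtype.comp (dHom n) with hf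
  have hinj : Function.Injective f :=
    Subtype.val_injective.comp (Function.LeftInverse.injective (blockHom_dHom n))
  refine ⟨f.range, ?_, ?_, ?_, ⟨(MonoidHom.ofInjective hinj).symm⟩⟩
  · rintro _ ⟨M, rfl⟩; exact (dHom n M).2
  · rw [Subgroup.eq_bot_iff_forall]
    rintro _ ⟨hq, M, rfl⟩
    have := (blockHom_eq_one n (dHom n M)).2 hq
    rw [blockHom_dHom] at this
    rw [this, map_one]
  · refine le_antisymm (sup_le (qStd_le n) ?_) fun g hg => ?_
    · rintro _ ⟨M, rfl⟩; exact (dHom n M).2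
    let G : cStd n := ⟨g, hg⟩
    have h1 : (G * (dHom n (blockHom n G))⁻¹ : cStd n).1 ∈ qStd n := by
      rw [← blockHom_eq_one, map_mul, map_inv, blockHom_dHom, mul_inv_cancel]
    have := Subgroup.mul_mem_sup h1 (show f (blockHom n G) ∈ f.range from ⟨_, rfl⟩)
    simpa [hf, G] using this

theorem pCore_std : (Cfsg.pCore 2 ↥(cStd n)).map (cStd n).subtype = qStd n :=
  map_pCore_eq_of_hom _ _ (blockHom n) (blockHom_surjective n) (qStd_le n) (blockHom_eq_one n)
    (qTV_isPGroup _) fun _ => gl2_no_normal_two _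

theorem card_qStd : Nat.card (qStd n) = 2 ^ (2 * n + 1) := by
  have := card_qTV (fv_pv n) (pv_ne n) (fv_ne n)
  rw [Fintype.card_fin, ← pow_add, show n + 2 + (n + 2) = 3 + (2 * n + 1) by ring, pow_add] at this
  exact mul_left_cancel₀ (by norm_num : (2 : ℕ) ^ 3 ≠ 0) this

theorem card_eStd : Nat.card (eTV (pv n)) = 2 ^ (n + 1) := by
  have := card_eTV (pv_ne n)
  rw [Fintype.card_fin, pow_succ'] at this
  exact mul_left_cancel₀ two_ne_zero this

theorem qStd_props (hn : 1 ≤ n) : IsExtraspecial 2 (qStd n) ∧ IsLargeExtraspecial (qStd n) ∧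
    (Subgroup.center (qStd n)).map (qStd n).subtype = Subgroup.zpowers (tm (pv n) (fv n) 1) := by
  obtain ⟨m, rfl⟩ : ∃ m, n = m + 1 := ⟨n - 1, by omega⟩
  set ψ : Fin (m + 1 + 2) → ZMod 2 := Pi.single (Fin.succ (Fin.succ 0)) 1 with hψ
  have h0 : ψ ⬝ᵥ pv (m + 1) = 0 := by
    rw [hψ, pv, single_dotProduct, one_mul, Pi.single_eq_of_ne (Fin.succ_ne_zero _)]
  have h1 : ψ ≠ 0 := by simp [hψ]
  have h2 : ψ ≠ fv (m + 1) := fun e => by
    have := congrFun e (Fin.succ (Fin.succ 0))
    rw [hψ, fv, Pi.single_eq_same, Pi.single_eq_of_ne] at this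
    · exact one_ne_zero this
    · rw [← Fin.succ_zero_eq_one]
      exact fun h => Fin.succ_ne_zero _ (Fin.succ_injective _ h)
  exact ⟨qTV_extraspecial _ (pv_ne _) (fv_ne _) h0 h1 h2,
    qTV_large _ (pv_ne _) (fv_ne _) h0 h1 h2, qTV_centerMap _ (pv_ne _) (fv_ne _)⟩

end Coord

end H98
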