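import Cfsg.Agent.H98.TwoTransCoord

/-! The large extraspecial subgroup seen from a subgroup containing the centraliser. -/

set_option autoImplicit false

namespace H98

open Cfsg Matrix

theorem extraspecial_of_equiv {p : ℕ} {A B : Type*} [Group A] [Group B] [Finite B] (e : A ≃* B)
    (h : IsExtraspecial 2 B) (hp : p = 2) : IsExtraspecial p A := by
  subst hp
  have : Finite A := Finite.of_equiv _ e.symm.toEquiv
  obtain ⟨⟨hP, -, -⟩, hc⟩ := id h
  obtain ⟨c, hc2, hmap⟩ : ∃ c : B, c ≠ 1 ∧ ∀ x, x ∈ Subgroup.center B ↔ x = 1 ∨ x = c := by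
    obtain ⟨⟨c, hc0⟩, hne, huniq⟩ := (Nat.card_eq_two_iff' (1 : Subgroup.center B)).1 hc
    refine ⟨c, fun e => hne (Subtype.ext e), fun x => ⟨fun hx => ?_, ?_⟩⟩
    · by_cases h1 : x = 1
      · exact Or.inl h1
      · exact Or.inr (congrArg Subtype.val (huniq ⟨x, hx⟩ fun e => h1 (congrArg Subtype.val e)))
    · rintro (rfl | rfl)
      exacts [one_mem _, hc0]
  have hsq : ∀ x : B, x * x = 1 ∨ x * x = c := fun x => (hmap _).1 (by
    rw [← h.1.2.1, ← pow_two]
    exact H6.pow_prime_mem_frattini hP x)
  have hcm : ∀ x y : B, x * y = y * x ∨ x * y = c * (y * x) := fun x y => by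
    have hm : x * y * x⁻¹ * y⁻¹ ∈ Subgroup.center B := by
      rw [← h.1.2.2, commutator_def]
      exact Subgroup.commutator_mem_commutator (Subgroup.mem_top _) (Subgroup.mem_top _)
    rcases (hmap _).1 hm with h1 | h1
    · left
      calc x * y = (x * y * x⁻¹ * y⁻¹) * (y * x) := by group
        _ = y * x := by rw [h1, one_mul]
    · right
      calc x * y = (x * y * x⁻¹ * y⁻¹) * (y * x) := by group
        _ = c * (y * x) := by rw [h1]
  refine H69.isExtraspecial_two_of (e.symm c) (hP.of_equiv e.symm) ?_ ?_ ?_ ?_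
  · intro x
    rcases hsq (e x) with h1 | h1
    · left; exact e.injective (by rw [map_mul, h1, map_one])
    · right; exact e.injective (by rw [map_mul, h1, e.apply_symm_apply])
  · intro x y
    rcases hcm (e x) (e y) with h1 | h1
    · left; exact e.injective (by rw [map_mul, map_mul, h1])
    · right; exact e.injective (by rw [map_mul, map_mul, map_mul, e.apply_symm_apply, h1])
  · by_contra hne
    push Not at hne
    refine hc2 ?_
    have : commutator B = ⊥ := by
      rw [commutator_def, Subgroup.commutator_eq_bot_iff_le_centralizer]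
      intro x _
      refine Subgroup.mem_centralizer_iff.2 fun y _ => ?_
      have := congrArg e (hne (e.symm y) (e.symm x))
      simpa using this
    have hm : c ∈ Subgroup.center B := (hmap c).2 (Or.inr rfl)
    rw [← h.1.2.2, this] at hm
    exact hm
  · intro x hx
    rcases (hmap (e x)).1 (Subgroup.mem_center_iff.2 fun y => by
      have := congrArg e (hx (e.symm y)); simpa using this) with h1 | h1
    · left; exact e.injective (by rw [h1, map_one])
    · right; exact e.injective (by rw [h1, e.apply_symm_apply])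

/-- A large extraspecial subgroup stays large in a subgroup that contains it. -/
theorem large_comap {G H : Type*} [Group G] [Group H] [Finite H] (f : G →* H)
    (hf : Function.Injective f) {Q : Subgroup H} (hQ : IsLargeExtraspecial Q) (hle : Q ≤ f.range) :
    IsLargeExtraspecial (Q.comap f) := by
  obtain ⟨hE, hC, hN, hK⟩ := hQ
  have hmap : (Q.comap f).map f = Q := Subgroup.map_comap_eq_self hle
  let e : ↥(Q.comap f) ≃* ↥Q :=
    ((Q.comap f).equivMapOfInjective f hf).trans (MulEquiv.subgroupCongr hmap)
  have hG : IsExtraspecial 2 (Q.comap f) := extraspecial_of_equiv e hE rfl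
  have hcen : ∀ x, x ∈ (Subgroup.center (Q.comap f)).map (Q.comap f).subtype ↔
      f x ∈ (Subgroup.center Q).map Q.subtype := by
    intro x
    rw [H93.mem_centerMap, H93.mem_centerMap, Subgroup.mem_comap]
    refine and_congr_right fun _ => ⟨fun h q hq => ?_, fun h q hq => hf (by
      rw [map_mul, map_mul]; exact h _ hq)⟩
    obtain ⟨q, rfl⟩ := hle hq
    rw [← map_mul, h q hq, map_mul]
  refine ⟨hG, ?_, ?_, fun K hKo hQK => ?_⟩
  · ext x
    rw [hcen, ← hC, Subgroup.mem_centralizer_iff, Subgroup.mem_centralizer_iff]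
    refine ⟨fun h q hq => ?_, fun h q hq => hf (by rw [map_mul, map_mul]; exact h _ hq)⟩
    obtain ⟨q, rfl⟩ := hle hq
    rw [← map_mul, h q hq, map_mul]
  · intro g hg
    have : f g ∈ Subgroup.normalizer (Q : Set H) := by
      refine hN (Subgroup.mem_centralizer_iff.2 fun y hy => ?_)
      obtain ⟨x, rfl⟩ := hle (H93.centerMap_le Q hy)
      rw [← map_mul, Subgroup.mem_centralizer_iff.1 hg x ((hcen x).2 hy), map_mul]
    rw [Subgroup.mem_normalizer_iff]
    intro x
    rw [Subgroup.mem_comap, Subgroup.mem_comap, map_mul, map_mul, map_inv]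
    exact Subgroup.mem_normalizer_iff.1 this (f x)
  · have h2 : K.map f = ⊥ := hK _ (by
      rw [← Nat.card_congr (K.equivMapOfInjective f hf).toEquiv]; exact hKo) (fun q hq => by
        obtain ⟨q, rfl⟩ := hle hq
        have := Subgroup.mem_normalizer_iff.1 (hQK hq)
        rw [Subgroup.mem_normalizer_iff]
        intro y
        constructor
        · rintro ⟨k, hk, rfl⟩
          exact ⟨q * k * q⁻¹, (this k).1 hk, by simp⟩
        · rintro ⟨k, hk, e⟩
          exact ⟨q⁻¹ * k * q, (this _).2 (by simpa [mul_assoc] using hk),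
            by rw [map_mul, map_mul, map_inv, e]; group⟩)
    rwa [Subgroup.map_eq_bot_iff_of_injective _ hf] at h2

end H98
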