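import Cfsg.Agent.H98.TwoTransFinal
import Cfsg.Agent.H98.AffineEmbed

/-! The two large extraspecial examples. -/

set_option autoImplicit false

namespace H98

open Cfsg Matrix

theorem transvection_std (n : ℕ) {z : Matrix.SpecialLinearGroup (Fin (n + 2)) (ZMod 2)}
    (hz : (z : Matrix (Fin (n + 2)) (Fin (n + 2)) (ZMod 2)) = Matrix.transvection 0 1 1) :
    z = tm (pv n) (fv n) 1 := by
  apply Subtype.ext
  rw [coe_tm (fv_pv n), hz, Matrix.transvection, one_smul, pv, fv]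
  congr 1
  ext a b
  simp [Matrix.vecMulVec, Matrix.single_apply, Pi.single_apply, eq_comm]
  grind

theorem sl_transvection_large (n : ℕ) (hn : 1 ≤ n) :
    ∀ Q : Subgroup (Matrix.SpecialLinearGroup (Fin (n + 2)) (ZMod 2)),
    Q = (Cfsg.pCore 2 ↥(Subgroup.centralizer ({tm (pv n) (fv n) 1} :
      Set (Matrix.SpecialLinearGroup (Fin (n + 2)) (ZMod 2))))).map (Subgroup.centralizer
      ({tm (pv n) (fv n) 1} : Set (Matrix.SpecialLinearGroup (Fin (n + 2)) (ZMod 2)))).subtype →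
    Cfsg.IsExtraspecial 2 ↥Q ∧ Nat.card ↥Q = 2 ^ (2 * n + 1) ∧
    (∃ E : Subgroup (Matrix.SpecialLinearGroup (Fin (n + 2)) (ZMod 2)), E ≤ Q ∧
      Cfsg.IsElementaryAbelian 2 E ∧ Nat.card ↥E = 2 ^ (n + 1)) ∧
    Cfsg.IsLargeExtraspecial Q ∧
    ∃ K : Subgroup (Matrix.SpecialLinearGroup (Fin (n + 2)) (ZMod 2)),
      K ≤ Subgroup.centralizer ({tm (pv n) (fv n) 1} :
        Set (Matrix.SpecialLinearGroup (Fin (n + 2)) (ZMod 2))) ∧ Q ⊓ K = ⊥ ∧
      Q ⊔ K = Subgroup.centralizer ({tm (pv n) (fv n) 1} :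
        Set (Matrix.SpecialLinearGroup (Fin (n + 2)) (ZMod 2))) ∧
      Nonempty (↥K ≃* Matrix.GeneralLinearGroup (Fin n) (ZMod 2)) := by
  intro Q hQ
  rw [centralizer_std, pCore_std] at hQ
  subst hQ
  rw [centralizer_std]
  obtain ⟨h1, h2, -⟩ := qStd_props n hn
  exact ⟨h1, card_qStd n, ⟨eTV (pv n), eTV_le _, eTV_elementary _, card_eStd n⟩, h2,
    exists_std_complement n⟩

theorem affine_large {G : Type*} [Group G] [Finite G] (n : ℕ) (hn : 1 ≤ n)
    (f : G →* Matrix.SpecialLinearGroup (Fin (n + 2)) (ZMod 2)) (hf : Function.Injective f)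
    (hle : cStd n ≤ f.range) (Z : Subgroup G) (z : G) (hzZ : z ∈ Z) (hZ : Nat.card Z = 2)
    (hz : f z = tm (pv n) (fv n) 1) (Q : Subgroup G)
    (hQ : Q = (Cfsg.pCore 2 ↥(Subgroup.centralizer (Z : Set G))).map
      (Subgroup.centralizer (Z : Set G)).subtype) :
    Cfsg.IsExtraspecial 2 ↥Q ∧ Nat.card ↥Q = 2 ^ (2 * n + 1) ∧
    (∃ E : Subgroup G, E ≤ Q ∧ Cfsg.IsElementaryAbelian 2 E ∧ Nat.card ↥E = 2 ^ (n + 1)) ∧
    Cfsg.IsLargeExtraspecial Q ∧ ∃ K : Subgroup G, K ≤ Subgroup.centralizer (Z : Set G) ∧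
      Q ⊓ K = ⊥ ∧ Q ⊔ K = Subgroup.centralizer (Z : Set G) ∧
      Nonempty (↥K ≃* Matrix.GeneralLinearGroup (Fin n) (ZMod 2)) := by
  have hz1 : z ≠ 1 := fun e => by
    rw [e, map_one] at hz
    exact one_ne_zero ((tm_eq_one_iff (fv_pv n) (pv_ne n) (fv_ne n)).1 hz.symm)
  have hC : Subgroup.centralizer (Z : Set G) = (cStd n).comap f := by
    ext g
    rw [← centralizer_std, Subgroup.mem_comap, Subgroup.mem_centralizer_singleton_iff, ← hz,
      Subgroup.mem_centralizer_iff]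
    constructor
    · intro h; rw [← map_mul, ← map_mul, h z hzZ]
    · intro h x hx
      by_cases hx1 : x = 1
      · simp [hx1]
      · obtain ⟨y, -, hy⟩ := (Nat.card_eq_two_iff' (1 : Z)).1 hZ
        have e1 := hy ⟨x, hx⟩ fun e => hx1 (congrArg Subtype.val e)
        have e2 := hy ⟨z, hzZ⟩ fun e => hz1 (congrArg Subtype.val e)
        rw [show x = z from congrArg Subtype.val (e1.trans e2.symm)]
        exact (hf (by rw [map_mul, map_mul]; exact h)).symm
  have hQle : qStd n ≤ f.range := (qStd_le n).trans hle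
  have hcard : ∀ S : Subgroup (Matrix.SpecialLinearGroup (Fin (n + 2)) (ZMod 2)), S ≤ f.range →
      Nat.card (S.comap f) = Nat.card S := fun S hS => by
    rw [Nat.card_congr ((S.comap f).equivMapOfInjective f hf).toEquiv,
      Subgroup.map_comap_eq_self hS]
  have hQeq : Q = (qStd n).comap f := by
    rw [hQ, hC]
    let π := (blockHom n).comp ((f.comp ((cStd n).comap f).subtype).codRestrict (cStd n)
      fun x => x.2)
    refine map_pCore_eq_of_hom _ _ π (fun M => ?_) (Subgroup.comap_mono (qStd_le n))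
      (fun x => blockHom_eq_one n _) ((qTV_isPGroup _).comap_of_injective f hf)
      fun _ => gl2_no_normal_two _
    obtain ⟨x, hx⟩ := hle (dHom n M).2
    refine ⟨⟨x, by rw [Subgroup.mem_comap, hx]; exact (dHom n M).2⟩, ?_⟩
    show blockHom n ⟨f x, _⟩ = M
    conv_rhs => rw [← blockHom_dHom n M]
    congr 1
    exact Subtype.ext hx
  subst hQeq
  obtain ⟨h1, h2, -⟩ := qStd_props n hn
  have hlarge := large_comap f hf h2 hQle
  refine ⟨hlarge.1, by rw [hcard _ hQle, card_qStd], ?_, hlarge, ?_⟩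
  · have hEle := (eTV_le (fv_pv n)).trans hQle
    refine ⟨(eTV (pv n)).comap f, Subgroup.comap_mono (eTV_le _), ⟨⟨⟨fun a b => ?_⟩⟩, fun a ha => ?_⟩,
      by rw [hcard _ hEle, card_eStd]⟩
    · refine Subtype.ext (hf ?_)
      have := (eTV_elementary (pv n)).1
      simp only [Subgroup.coe_mul, map_mul]
      exact congrArg Subtype.val (mul_comm' (⟨f a, a.2⟩ : eTV (pv n)) ⟨f b, b.2⟩)
    · refine hf ?_
      rw [map_pow, map_one]
      exact (eTV_elementary (pv n)).2 _ ha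
  · obtain ⟨K, hK, hd, hs, ⟨e⟩⟩ := exists_std_complement n
    have hKle := hK.trans hle
    refine ⟨K.comap f, hC ▸ Subgroup.comap_mono hK, ?_, ?_, ⟨?_⟩⟩
    · rw [← Subgroup.comap_inf, hd, MonoidHom.comap_bot, (MonoidHom.ker_eq_bot_iff f).2 hf]
    · rw [hC]
      apply Subgroup.map_injective hf
      rw [Subgroup.map_sup, Subgroup.map_comap_eq_self hQle, Subgroup.map_comap_eq_self hKle,
        Subgroup.map_comap_eq_self hle, hs]
    · exact (((K.comap f).equivMapOfInjective f hf).trans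
        (MulEquiv.subgroupCongr (Subgroup.map_comap_eq_self hKle))).trans e

end H98
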