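import Cfsg.Agent.H69.Setting
import Cfsg.Agent.H79.CoprimeGen
import Cfsg.Agent.H79.SolvableSPE
import Cfsg.Agent.H70.SolvableQuotTwo
import Cfsg.Agent.H58.AutQ8
import Cfsg.Agent.H29.Basic

/-! Automorphism groups of `2`-groups in which each element fixes at most one involution. -/

set_option autoImplicit false
set_option linter.style.haveILetI false

namespace H98

open Cfsg Subgroup
open scoped Pointwise

section

variable {W : Type*} [Group W]

/-- The fixed points of an automorphism. -/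
def autFix (e : MulAut W) : Subgroup W := MonoidHom.eqLocus e.toMonoidHom (MonoidHom.id W)

theorem mem_autFix {e : MulAut W} {x : W} : x ∈ autFix e ↔ e x = x := Iff.rfl

/-- Stability under a group of automorphisms. -/
def AutInv (E : Subgroup (MulAut W)) (U : Subgroup W) : Prop := ∀ e ∈ E, ∀ x ∈ U, e x ∈ U

/-- Coprime generation for a noncyclic abelian group of automorphisms. -/
theorem le_of_autFix_le [Finite W] (hW : IsPGroup 2 W) {p : ℕ} [Fact p.Prime] (hp : p ≠ 2)
    (E : Subgroup (MulAut W)) (hE : IsPGroup p E) (hab : IsMulCommutative E) (hnc : ¬ IsCyclic E)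
    (U H : Subgroup W) (hU : AutInv E U) (h : ∀ e ∈ E, e ≠ 1 → U ⊓ autFix e ≤ H) : U ≤ H := by
  haveI : Finite (MulAut W) := Finite.of_injective (fun e : MulAut W => e.toEquiv)
    fun a b e => MulEquiv.ext fun x => congrFun (congrArg DFunLike.coe e) x
  obtain ⟨A, hAE, hAc, hAp, hAn⟩ := H79.exists_elementary_of_not_cyclic E hE (by
    rintro (h' | ⟨h', -⟩)
    exacts [hnc h', hp h'])
  let φ : A →* MulAut W := A.subtype
  haveI : Finite (W ⋊[φ] A) := Finite.of_equiv _ SemidirectProduct.equivProd.symm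
  let A' : Subgroup (W ⋊[φ] A) := (SemidirectProduct.inr : A →* W ⋊[φ] A).range
  haveI : IsMulCommutative A' := ⟨⟨by
    rintro ⟨_, a, rfl⟩ ⟨_, b, rfl⟩
    refine Subtype.ext ?_
    simp only [Subgroup.coe_mul]
    rw [← map_mul, ← map_mul, mul_comm' a b]⟩⟩
  have hinj : Function.Injective (SemidirectProduct.inr : A →* W ⋊[φ] A) :=
    SemidirectProduct.inr_injective
  have key := H79.le_of_centralizers_le (A := A')
    (K := U.map (SemidirectProduct.inl : W →* W ⋊[φ] A))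
    (H := H.map (SemidirectProduct.inl : W →* W ⋊[φ] A)) (p := p) ?_ ?_ ?_ ?_ ?_
  · intro x hx
    obtain ⟨y, hy, hyx⟩ := key ⟨x, hx, rfl⟩
    rwa [← SemidirectProduct.inl_injective hyx]
  · rintro _ ⟨a, rfl⟩
    rw [← map_pow, show a ^ p = 1 from Subtype.ext (hAp a a.2), map_one]
  · intro hc
    exact hAn (isCyclic_of_surjective (MonoidHom.ofInjective hinj).symm
      (MonoidHom.ofInjective hinj).symm.surjective)
  · rintro _ ⟨a, rfl⟩
    rw [Subgroup.mem_normalizer_iff]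
    intro x
    constructor
    · rintro ⟨u, hu, rfl⟩
      refine ⟨a.1 u, hU _ (hAE a.2) u hu, ?_⟩
      rw [← map_inv]; exact SemidirectProduct.inl_aut a u
    · rintro ⟨u, hu, e⟩
      refine ⟨(a⁻¹).1 u, hU _ (inv_mem (hAE a.2)) u hu, ?_⟩
      show SemidirectProduct.inl (φ a⁻¹ u) = x
      rw [SemidirectProduct.inl_aut, e]
      simp [mul_assoc]
  · rw [Subgroup.card_map_of_injective SemidirectProduct.inl_injective]
    obtain ⟨k, hk⟩ := (IsPGroup.iff_card (p := 2)).1 (hW.to_subgroup U)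
    rw [hk]
    exact Nat.Coprime.pow_left _ ((Nat.coprime_primes Nat.prime_two Fact.out).2 (Ne.symm hp))
  · rintro _ ⟨a, rfl⟩ ha1 _ ⟨⟨u, hu, rfl⟩, hc⟩
    refine ⟨u, h a.1 (hAE a.2) (fun e => ha1 ?_) ⟨hu, ?_⟩, rfl⟩
    · rw [show a = 1 from Subtype.ext e, map_one]
    · show a.1 u = u
      refine SemidirectProduct.inl_injective (φ := φ) ?_
      show SemidirectProduct.inl (φ a u) = _
      rw [SemidirectProduct.inl_aut, map_inv,
        ← Subgroup.mem_centralizer_singleton_iff.1 hc, mul_inv_cancel_right]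

theorem exists_fixed_of_three_group [Finite W] (f : MulAut W) {k : ℕ} (hf : f ^ 3 ^ k = 1)
    (S : Set W) (hS : ∀ x ∈ S, f x ∈ S) (hcard : ¬ 3 ∣ S.ncard) : ∃ x ∈ S, f x = x := by
  classical
  haveI : Fintype S := Fintype.ofFinite _
  let σ : Equiv.Perm S := Equiv.ofBijective (fun x => ⟨f x, hS x x.2⟩)
    (Finite.injective_iff_bijective.1 fun a b e => Subtype.ext (f.injective (congrArg Subtype.val e)))
  have hσ : ∀ (m : ℕ) (x : S), ((σ ^ m) x : W) = (f ^ m) x := by
    intro m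
    induction m with
    | zero => simp
    | succ m ih =>
      intro x
      rw [pow_succ, pow_succ, Equiv.Perm.mul_apply, MulAut.mul_apply, ih]
      rfl
  haveI : Fact (Nat.Prime 3) := ⟨Nat.prime_three⟩
  obtain ⟨x, hx⟩ := Equiv.Perm.exists_fixed_point_of_prime (p := 3) (n := k) (σ := σ)
    (by rwa [← Nat.card_eq_fintype_card, Nat.card_coe_set_eq]) (Equiv.ext fun x => Subtype.ext (by
      rw [hσ, hf]; rfl))
  exact ⟨x, x.2, congrArg Subtype.val hx⟩

end

/-- The hypotheses of the theorem. -/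
structure UniqueInvData (W : Type*) [Group W] [Finite W] (p : ℕ) where
  /-- the automorphism group -/
  E : Subgroup (MulAut W)
  hW : IsPGroup 2 W
  hp : p ≠ 2
  hE : IsPGroup p E
  hab : IsMulCommutative E
  hnc : ¬ IsCyclic E
  hfix : ∀ e ∈ E, e ≠ 1 → ∀ x y : W, orderOf x = 2 → orderOf y = 2 → e x = x → e y = y → x = y

namespace UniqueInvData

variable {W : Type*} [Group W] [Finite W] {p : ℕ} [Fact p.Prime] (D : UniqueInvData W p)

theorem autInv_fix (e : MulAut W) (he : e ∈ D.E) : AutInv D.E (autFix e) := by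
  intro f hf x hx
  have := D.hab
  have h1 : e * f = f * e := congrArg Subtype.val (mul_comm' (⟨e, he⟩ : D.E) ⟨f, hf⟩)
  calc e (f x) = (e * f) x := rfl
    _ = f (e x) := by rw [h1]; rfl
    _ = f x := by rw [show e x = x from hx]

theorem gen (U H : Subgroup W) (hU : AutInv D.E U)
    (h : ∀ e ∈ D.E, e ≠ 1 → U ⊓ autFix e ≤ H) : U ≤ H :=
  le_of_autFix_le D.hW D.hp D.E D.hE D.hab D.hnc U H hU h

theorem eq_one_of_forall {e : MulAut W} (h : ∀ x, e x = x) : e = 1 := MulEquiv.ext h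

theorem inv_involution {x : W} (hx : orderOf x = 2) {e : MulAut W} (he : e ∈ D.E) (he1 : e ≠ 1)
    (hex : e x = x) {f : MulAut W} (hf : f ∈ D.E) : f x = x :=
  D.hfix e he he1 _ _ ((orderOf_injective f.toMonoidHom f.injective x).trans hx) hx
    (D.autInv_fix e he f hf x hex) hex

include D in
theorem exists_involution_mem {U : Subgroup W} (hU : U ≠ ⊥) : ∃ x ∈ U, orderOf x = 2 := by
  obtain ⟨k, hk⟩ := (IsPGroup.iff_card (p := 2)).1 (D.hW.to_subgroup U)
  have h1 := (Subgroup.one_lt_card_iff_ne_bot U).2 hU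
  obtain ⟨x, hx⟩ := exists_prime_orderOf_dvd_card' (G := U) 2 (by
    rw [hk]; exact dvd_pow_self 2 fun e => by rw [hk, e] at h1; simp at h1)
  exact ⟨x, x.2, by rw [Subgroup.orderOf_coe, hx]⟩

theorem exists_z : ∃ z : W, orderOf z = 2 ∧ (∀ y, y * z = z * y) ∧ (∀ f ∈ D.E, f z = z) ∧
    ∀ e ∈ D.E, e ≠ 1 → ∀ x ∈ autFix e, orderOf x = 2 → x = z := by
  have hnt : D.E ≠ ⊥ := fun e => D.hnc (by rw [e]; exact isCyclic_of_subsingleton)
  obtain ⟨e0, he0, he01⟩ := D.E.bot_or_exists_ne_one.resolve_left hnt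
  have hW1 : Nontrivial W := by
    by_contra h
    rw [not_nontrivial_iff_subsingleton] at h
    exact he01 (eq_one_of_forall fun x => Subsingleton.elim _ _)
  have := Fact.mk Nat.prime_two
  have hZ : Subgroup.center W ≠ ⊥ := (Subgroup.nontrivial_iff_ne_bot _).1 D.hW.center_nontrivial
  have hZinv : AutInv D.E (Subgroup.center W) := fun f _ x hx =>
    Subgroup.mem_center_iff.2 fun y => by
      obtain ⟨y, rfl⟩ := f.surjective y
      rw [← map_mul, ← map_mul, Subgroup.mem_center_iff.1 hx]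
  obtain ⟨e, he, he1, hne⟩ : ∃ e ∈ D.E, e ≠ 1 ∧ Subgroup.center W ⊓ autFix e ≠ ⊥ := by
    by_contra h
    push Not at h
    exact hZ (eq_bot_iff.2 (D.gen _ _ hZinv fun e he he1 => le_of_eq (h e he he1)))
  obtain ⟨z, hz, hz2⟩ := D.exists_involution_mem hne
  have hfz : ∀ f ∈ D.E, f z = z := fun f hf => D.inv_involution hz2 he he1 hz.2 hf
  exact ⟨z, hz2, Subgroup.mem_center_iff.1 hz.1, hfz, fun g hg hg1 x hx hx2 =>
    D.hfix g hg hg1 x z hx2 hz2 hx (hfz g hg)⟩

end UniqueInvData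

/-- The hypotheses with the distinguished involution. -/
structure UniqueInvCtx (W : Type*) [Group W] [Finite W] (p : ℕ) extends UniqueInvData W p where
  /-- the involution -/
  z : W
  hz2 : orderOf z = 2
  hzc : ∀ y, y * z = z * y
  hzf : ∀ f ∈ E, f z = z
  hzu : ∀ e ∈ E, e ≠ 1 → ∀ x ∈ autFix e, orderOf x = 2 → x = z

namespace UniqueInvCtx

variable {W : Type*} [Group W] [Finite W] {p : ℕ} [Fact p.Prime] (D : UniqueInvCtx W p)

theorem hzz : D.z * D.z = 1 := by rw [← pow_two, ← D.hz2, pow_orderOf_eq_one]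

theorem z_ne : D.z ≠ 1 := fun e => by simpa [e] using D.hz2

theorem mem_Z {x : W} (hx : x ∈ zpowers D.z) : x = 1 ∨ x = D.z := H93.zpowers_two_cases D.hz2 hx

theorem Z_fixed {x : W} (hx : x ∈ zpowers D.z) {f : MulAut W} (hf : f ∈ D.E) : f x = x := by
  rcases D.mem_Z hx with rfl | rfl
  exacts [map_one f, D.hzf f hf]

theorem Z_comm {x : W} (hx : x ∈ zpowers D.z) (y : W) : y * x = x * y := by
  rcases D.mem_Z hx with rfl | rfl
  exacts [by simp, D.hzc y]

theorem Z_le_fix {e : MulAut W} (he : e ∈ D.E) : zpowers D.z ≤ autFix e :=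
  fun _ hx => D.Z_fixed hx he

theorem autInv_Z : AutInv D.E (zpowers D.z) := fun f hf x hx => (D.Z_fixed hx hf).symm ▸ hx

/-- An element moves the fixed point group of `e`. -/
def Moved (e : MulAut W) : Prop := ∃ f ∈ D.E, ∃ x ∈ autFix e, f x ≠ x

/-- The automorphisms fixing a subgroup pointwise. -/
def kerOn (Q : Subgroup W) : Subgroup D.E where
  carrier := {g | ∀ x ∈ Q, g.1 x = x}
  one_mem' := fun _ _ => rfl
  mul_mem' := fun {a b} ha hb x hx => by
    show a.1 (b.1 x) = x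
    rw [hb x hx, ha x hx]
  inv_mem' := fun {a} ha x hx => by
    show a.1⁻¹ x = x
    conv_lhs => rw [← ha x hx]
    simp

theorem moved_structure {e : MulAut W} (he : e ∈ D.E) (he1 : e ≠ 1) (hm : D.Moved e) :
    p = 3 ∧ Nat.card (autFix e) = 8 ∧
      (∀ x ∈ autFix e, x ∉ zpowers D.z → x * x = D.z) ∧
      (∀ x ∈ autFix e, ∀ y ∈ autFix e, x * y = y * x ∨ x * y = D.z * (y * x)) ∧
      (∃ x ∈ autFix e, ∃ y ∈ autFix e, x * y ≠ y * x) ∧
      Nat.card D.E = 3 * Nat.card (D.kerOn (autFix e)) := by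
  have := Fact.mk Nat.prime_two
  set C := autFix e with hC
  have huniq : ∀ H K : Subgroup C, Nat.card H = 2 → Nat.card K = 2 → H = K := by
    have key : ∀ H : Subgroup C, Nat.card H = 2 → H = zpowers ⟨D.z, D.Z_le_fix he (mem_zpowers _)⟩ := by
      intro H hH
      obtain ⟨a, ha⟩ := exists_prime_orderOf_dvd_card' (G := H) 2 (by rw [hH])
      have h2 : orderOf a.1.1 = 2 := by rw [Subgroup.orderOf_coe, Subgroup.orderOf_coe, ha]
      have h3 := D.hzu e he he1 _ a.1.2 h2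
      refine (Subgroup.eq_of_le_of_card_ge (zpowers_le.2 ?_) ?_).symm
      · rw [show (⟨D.z, _⟩ : C) = a.1 from Subtype.ext h3.symm]; exact a.2
      · rw [hH, Nat.card_zpowers, ← Subgroup.orderOf_coe, D.hz2]
    exact fun H K hH hK => (key H hH).trans (key K hK).symm
  obtain ⟨f, hf, x₀, hx₀, hfx⟩ := hm
  let res : D.E →* MulAut C :=
    { toFun := fun g =>
        { toFun := fun x => ⟨g.1 x, D.autInv_fix e he g g.2 x x.2⟩
          invFun := fun x => ⟨(g⁻¹).1 x, D.autInv_fix e he _ (g⁻¹).2 x x.2⟩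
          left_inv := fun x => Subtype.ext (by simp)
          right_inv := fun x => Subtype.ext (by simp)
          map_mul' := fun x y => Subtype.ext (map_mul g.1 x.1 y.1) }
      map_one' := by ext x; rfl
      map_mul' := fun a b => by ext x; rfl }
  have hres1 : res ⟨f, hf⟩ ≠ 1 := fun e1 =>
    hfx (congrArg Subtype.val (DFunLike.congr_fun e1 ⟨x₀, hx₀⟩))
  obtain ⟨a, ha⟩ := D.hE ⟨f, hf⟩
  have hnot2 : ¬ IsPGroup 2 (MulAut C) := fun h2 => by
    obtain ⟨b, hb⟩ := h2 (res ⟨f, hf⟩)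
    have h1 : (res ⟨f, hf⟩) ^ p ^ a = 1 := by rw [← map_pow, ha, map_one]
    have h3 := Nat.eq_one_of_dvd_coprimes
      (Nat.Coprime.pow _ _ ((Nat.coprime_primes Fact.out Nat.prime_two).2 D.hp))
      (orderOf_dvd_of_pow_eq_one h1) (orderOf_dvd_of_pow_eq_one hb)
    exact hres1 (orderOf_eq_one_iff.1 h3)
  rcases H2.cyclic_or_quaternion (D.hW.to_subgroup C) huniq with h | ⟨k, ⟨eq⟩⟩
  · exact absurd (H70.isPGroup_two_mulAut_cyclic (D.hW.to_subgroup C)) hnot2
  obtain rfl : k = 1 := by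
    rcases k with _ | _ | k
    · exfalso
      haveI : IsCyclic (QuaternionGroup (2 ^ 0)) := QuaternionGroup.quaternionGroup_one_isCyclic
      haveI : IsCyclic C := isCyclic_of_surjective eq.symm eq.symm.surjective
      exact hnot2 (H70.isPGroup_two_mulAut_cyclic (D.hW.to_subgroup C))
    · rfl
    · exfalso
      haveI : NeZero (2 ^ (k + 2)) := ⟨by positivity⟩
      exact hnot2 ((H86.isPGroup_two_mulAut_quaternion (k + 2) (by omega)).of_equiv
        (MulAut.congr eq).symm)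
  let eq' : C ≃* QuaternionGroup 2 := eq
  have hcard : Nat.card C = 8 := by
    rw [Nat.card_congr eq'.toEquiv, Nat.card_eq_fintype_card, QuaternionGroup.card]
  have hA : Nat.card (MulAut C) = 24 := by
    rw [Nat.card_congr (MulAut.congr eq').toEquiv, H58.card_mulAut_q8]
  haveI : Finite (MulAut C) := Nat.finite_of_card_ne_zero (by omega)
  obtain ⟨n, hn⟩ := (IsPGroup.iff_card (p := p)).1
    (D.hE.of_surjective res.rangeRestrict res.rangeRestrict_surjective)
  have hd : p ^ n ∣ 24 := hn ▸ hA ▸ Subgroup.card_subgroup_dvd_card _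
  have hn0 : n ≠ 0 := fun e0 => hres1 (by
    rw [e0, pow_zero, Subgroup.card_eq_one] at hn
    exact Subgroup.mem_bot.1 (hn ▸ ⟨⟨f, hf⟩, rfl⟩))
  have hp3 : p = 3 := by
    have h1 : p ∣ 24 := (dvd_pow_self p hn0).trans hd
    have h2 : p ∣ 2 ^ 3 * 3 := h1
    rcases (Fact.out : p.Prime).dvd_mul.1 h2 with h3 | h3
    · exact absurd ((Nat.prime_dvd_prime_iff_eq Fact.out Nat.prime_two).1
        ((Fact.out : p.Prime).dvd_of_dvd_pow h3)) D.hp
    · exact (Nat.prime_dvd_prime_iff_eq Fact.out Nat.prime_three).1 h3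
  have hn1 : n = 1 := by
    subst hp3
    by_contra h
    have : (3 : ℕ) ^ 2 ∣ 24 := (pow_dvd_pow 3 (by omega)).trans hd
    norm_num at this
  rw [hn1, pow_one] at hn
  replace hn : Nat.card res.range = 3 := hn.trans hp3
  have hq : ∀ a : QuaternionGroup 2, a ≠ 1 → a ≠ QuaternionGroup.a 2 → a * a = QuaternionGroup.a 2 := by
    decide
  have hq2 : ∀ a b : QuaternionGroup 2, a * b = b * a ∨ a * b = QuaternionGroup.a 2 * (b * a) := by
    decide
  let zC : C := ⟨D.z, D.Z_le_fix he (mem_zpowers _)⟩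
  have hzq : eq' zC = QuaternionGroup.a 2 := by
    have h3 : ∀ a : QuaternionGroup 2, a * a = 1 → a ≠ 1 → a = QuaternionGroup.a 2 := by decide
    refine h3 _ ?_ ?_
    · rw [← map_mul, show zC * zC = 1 from Subtype.ext D.hzz, map_one]
    · rw [map_ne_one_iff _ eq'.injective]
      exact fun h => D.z_ne (congrArg Subtype.val h)
  refine ⟨hp3, hcard, fun x hx hxZ => ?_, fun x hx y hy => ?_, ?_, ?_⟩
  · have h1 := hq (eq' ⟨x, hx⟩) (by
      rw [map_ne_one_iff _ eq'.injective]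
      exact fun h => hxZ (by rw [show x = 1 from congrArg Subtype.val h]; exact one_mem _)) (by
      rw [← hzq]
      exact fun h => hxZ (by
        rw [show x = D.z from congrArg Subtype.val (eq'.injective h)]; exact mem_zpowers _))
    rw [← hzq, ← map_mul] at h1
    exact congrArg Subtype.val (eq'.injective h1)
  · rcases hq2 (eq' ⟨x, hx⟩) (eq' ⟨y, hy⟩) with h1 | h1
    · left
      rw [← map_mul, ← map_mul] at h1
      exact congrArg Subtype.val (eq'.injective h1)
    · right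
      rw [← hzq, ← map_mul, ← map_mul, ← map_mul] at h1
      exact congrArg Subtype.val (eq'.injective h1)
  · refine ⟨_, (eq'.symm (QuaternionGroup.a 1)).2, _, (eq'.symm (QuaternionGroup.xa 0)).2, fun h => ?_⟩
    have h1 := congrArg eq' (Subtype.ext h :
      eq'.symm (QuaternionGroup.a 1) * eq'.symm (QuaternionGroup.xa 0) =
        eq'.symm (QuaternionGroup.xa 0) * eq'.symm (QuaternionGroup.a 1))
    simp only [map_mul, MulEquiv.apply_symm_apply] at h1
    exact absurd h1 (by decide)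
  · have hker : res.ker = D.kerOn (autFix e) := by
      ext g
      exact ⟨fun h x hx => congrArg Subtype.val (DFunLike.congr_fun h ⟨x, hx⟩),
        fun h => MulEquiv.ext fun x => Subtype.ext (h x x.2)⟩
    rw [← hn, ← hker, ← Subgroup.index_ker, Subgroup.index_mul_card]

theorem three_eq (hex : ∃ e ∈ D.E, e ≠ 1 ∧ D.Moved e) : p = 3 := by
  obtain ⟨e, he, he1, hm⟩ := hex
  exact (D.moved_structure he he1 hm).1

theorem sub_fix {e : MulAut W} (he : e ∈ D.E) (he1 : e ≠ 1) (hm : D.Moved e) {U : Subgroup W}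
    (hU : AutInv D.E U) (hUC : U ≤ autFix e) {x : W} (hx : x ∈ U) (hxZ : x ∉ zpowers D.z) :
    U = autFix e := by
  obtain ⟨h3, hcard, hsq, -, -, -⟩ := D.moved_structure he he1 hm
  obtain ⟨f, hf, x₁, hx₁, hfx⟩ := hm
  by_contra hne
  have hxx := hsq x (hUC hx) hxZ
  have hzU : D.z ∈ U := hxx ▸ mul_mem hx hx
  have h4 : Nat.card U = 4 := by
    have hd : Nat.card U ∣ 2 ^ 3 := (Subgroup.card_dvd_of_le hUC).trans (by rw [hcard]; rfl)
    obtain ⟨k, hk, hk'⟩ := (Nat.dvd_prime_pow Nat.prime_two).1 hd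
    have hlt : Nat.card U < 8 := lt_of_not_ge fun h => hne (Subgroup.eq_of_le_of_card_ge hUC (le_of_eq_of_le hcard h))
    have hgt : 2 < Nat.card U := by
      have h1 : Subgroup.zpowers D.z < U :=
        lt_of_le_of_ne (zpowers_le.2 hzU) fun h => hxZ (h ▸ hx)
      have h2 : Nat.card (zpowers D.z) < Nat.card U := by
        rcases lt_or_ge (Nat.card (zpowers D.z)) (Nat.card U) with h | h
        · exact h
        · exact absurd (Subgroup.eq_of_le_of_card_ge h1.le h) h1.ne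
      rwa [Nat.card_zpowers, D.hz2] at h2
    rw [hk'] at hlt hgt ⊢
    interval_cases k <;> simp_all
  obtain ⟨a, ha⟩ := D.hE ⟨f, hf⟩
  have hfpow : f ^ 3 ^ a = 1 := by
    have := congrArg Subtype.val ha
    rw [SubmonoidClass.coe_pow] at this
    exact (congrArg (fun q => f ^ q ^ a) h3).symm.trans this
  have hfinv : ∀ (V : Subgroup W), AutInv D.E V → ∀ y, y ∉ V → f y ∉ V := fun V hV y hy h =>
    hy (by simpa using hV _ (inv_mem hf) _ h)
  -- a point of `C \ U` fixed by `f`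
  obtain ⟨y, hy, hfy⟩ := exists_fixed_of_three_group f hfpow ((autFix e : Set W) \ U)
    (fun y hy => ⟨D.autInv_fix e he f hf y hy.1, hfinv U hU y hy.2⟩) (by
      rw [Set.ncard_sdiff (fun y hy => hUC hy), ← Nat.card_coe_set_eq, ← Nat.card_coe_set_eq]
      rw [show Nat.card (autFix e : Set W) = 8 from hcard, show Nat.card (U : Set W) = 4 from h4]
      decide)
  obtain ⟨u, hu, hfu⟩ := exists_fixed_of_three_group f hfpow ((U : Set W) \ zpowers D.z)
    (fun y hy => ⟨hU f hf y hy.1, hfinv _ D.autInv_Z y hy.2⟩) (by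
      rw [Set.ncard_sdiff (fun y hy => zpowers_le.2 hzU hy), ← Nat.card_coe_set_eq,
        ← Nat.card_coe_set_eq]
      rw [show Nat.card (U : Set W) = 4 from h4,
        show Nat.card (zpowers D.z : Set W) = 2 from (Nat.card_zpowers _).trans D.hz2]
      decide)
  -- the fixed group contains `y` and `u`, hence everything
  have hF : autFix e ≤ autFix e ⊓ autFix f := by
    set F := autFix e ⊓ autFix f with hF
    have hyF : y ∈ F := ⟨hy.1, hfy⟩
    have huF : u ∈ F := ⟨hUC hu.1, hfu⟩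
    have hlt : F ⊓ U < F := lt_of_le_of_ne inf_le_left fun h => hy.2 (h.symm ▸ hyF : y ∈ F ⊓ U).2
    have hcardFU : 4 ≤ Nat.card (F ⊓ U : Subgroup W) := by
      have h1 : zpowers D.z < F ⊓ U := lt_of_le_of_ne
        (le_inf (le_inf (D.Z_le_fix he) (D.Z_le_fix hf)) (zpowers_le.2 hzU))
        fun h => hu.2 (h.symm ▸ (⟨huF, hu.1⟩ : u ∈ F ⊓ U))
      have h2 := Subgroup.card_dvd_of_le h1.le
      rcases eq_or_lt_of_le (Nat.le_of_dvd Nat.card_pos h2) with h | h
      · exact absurd (Subgroup.eq_of_le_of_card_ge h1.le h.ge) h1.ne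
      · rw [Nat.card_zpowers, D.hz2] at h2 h
        obtain ⟨c, hc⟩ := h2
        omega
    have h5 : 4 < Nat.card F := by
      rcases lt_or_ge (Nat.card (F ⊓ U : Subgroup W)) (Nat.card F) with h | h
      · omega
      · exact absurd (Subgroup.eq_of_le_of_card_ge hlt.le h) hlt.ne
    refine (Subgroup.eq_of_le_of_card_ge inf_le_left ?_).ge
    obtain ⟨k, hk, hk'⟩ := (Nat.dvd_prime_pow Nat.prime_two).1
      (show Nat.card F ∣ 2 ^ 3 from (Subgroup.card_dvd_of_le inf_le_left).trans (by rw [hcard]; rfl))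
    rw [hcard, hk']
    rw [hk'] at h5
    interval_cases k <;> simp_all
  exact hfx (hF hx₁).2

theorem inter_fix {e : MulAut W} (he : e ∈ D.E) (he1 : e ≠ 1) (hm : D.Moved e) {f : MulAut W}
    (hf : f ∈ D.E) {x : W} (hx : x ∈ autFix e) (hfx : f x = x) (hxZ : x ∉ zpowers D.z) :
    ∀ y ∈ autFix e, f y = y := by
  have := D.sub_fix he he1 hm (U := autFix e ⊓ autFix f)
    (fun g hg y hy => ⟨D.autInv_fix e he g hg y hy.1, D.autInv_fix f hf g hg y hy.2⟩) inf_le_left
    (x := x) ⟨hx, hfx⟩ hxZ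
  exact fun y hy => (this.ge hy).2

/-- The fixed point groups which are quaternion. -/
def qSet : Set (Subgroup W) := {Q | ∃ e ∈ D.E, e ≠ 1 ∧ D.Moved e ∧ autFix e = Q}

theorem exists_moved : ∃ e ∈ D.E, e ≠ 1 ∧ D.Moved e := by
  by_contra h
  push Not at h
  have hnt : D.E ≠ ⊥ := fun e => D.hnc (by rw [e]; exact isCyclic_of_subsingleton)
  obtain ⟨f, hf, hf1⟩ := D.E.bot_or_exists_ne_one.resolve_left hnt
  refine hf1 (UniqueInvData.eq_one_of_forall fun x => ?_)
  exact D.gen ⊤ (autFix f) (fun _ _ _ _ => trivial) (fun e he he1 y hy => by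
    by_contra hy'
    exact h e he he1 ⟨f, hf, y, hy.2, hy'⟩) trivial

theorem fixed_all {x : W} (hx : ∀ f ∈ D.E, f x = x) : x ∈ zpowers D.z := by
  by_contra hxZ
  obtain ⟨e, he, he1, hm⟩ := D.exists_moved
  obtain ⟨f, hf, y, hy, hfy⟩ := id hm
  exact hfy (D.inter_fix he he1 hm hf (hx e he) (hx f hf) hxZ y hy)

theorem fix_cases {e : MulAut W} (he : e ∈ D.E) (he1 : e ≠ 1) {x : W} (hx : e x = x)
    (hxZ : x ∉ zpowers D.z) : autFix e ∈ D.qSet := by
  refine ⟨e, he, he1, ?_, rfl⟩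
  by_contra h
  refine hxZ (D.fixed_all fun f hf => ?_)
  by_contra h'
  exact h ⟨f, hf, x, hx, h'⟩

theorem qSet_inv {Q : Subgroup W} (hQ : Q ∈ D.qSet) : AutInv D.E Q := by
  obtain ⟨e, he, -, -, rfl⟩ := hQ; exact D.autInv_fix e he

theorem Z_le_qSet {Q : Subgroup W} (hQ : Q ∈ D.qSet) : zpowers D.z ≤ Q := by
  obtain ⟨e, he, -, -, rfl⟩ := hQ; exact D.Z_le_fix he

theorem qSet_le {Q U : Subgroup W} (hQ : Q ∈ D.qSet) (hU : AutInv D.E U) {x : W} (hxQ : x ∈ Q)
    (hxU : x ∈ U) (hxZ : x ∉ zpowers D.z) : Q ≤ U := by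
  obtain ⟨e, he, he1, hm, rfl⟩ := hQ
  have := D.sub_fix he he1 hm (U := autFix e ⊓ U)
    (fun g hg y hy => ⟨D.autInv_fix e he g hg y hy.1, hU g hg y hy.2⟩) inf_le_left
    (x := x) ⟨hxQ, hxU⟩ hxZ
  exact fun y hy => (this.ge hy).2

theorem qSet_eq {Q R : Subgroup W} (hQ : Q ∈ D.qSet) (hR : R ∈ D.qSet) {x : W} (hxQ : x ∈ Q)
    (hxR : x ∈ R) (hxZ : x ∉ zpowers D.z) : Q = R :=
  le_antisymm (D.qSet_le hQ (D.qSet_inv hR) hxQ hxR hxZ) (D.qSet_le hR (D.qSet_inv hQ) hxR hxQ hxZ)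

theorem qSet_data {Q : Subgroup W} (hQ : Q ∈ D.qSet) : Nat.card Q = 8 ∧
    (∃ x ∈ Q, x ∉ zpowers D.z) ∧ ¬ ∀ x ∈ Q, ∀ y ∈ Q, x * y = y * x := by
  obtain ⟨e, he, he1, hm, rfl⟩ := hQ
  obtain ⟨-, hcard, -, -, ⟨a, ha, b, hb, hab⟩, -⟩ := D.moved_structure he he1 hm
  exact ⟨hcard, ⟨a, ha, fun h => hab (D.Z_comm h b).symm⟩, fun h => hab (h a ha b hb)⟩

/-- Two of the quaternion groups which commute modulo the involution commute. -/
theorem pairing {Q R : Subgroup W} (hQ : Q ∈ D.qSet) (hR : R ∈ D.qSet) (hne : Q ≠ R)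
    (h : ∀ x ∈ Q, ∀ y ∈ R, x * y * x⁻¹ * y⁻¹ ∈ zpowers D.z) : ∀ x ∈ Q, ∀ y ∈ R, x * y = y * x := by
  obtain ⟨e, he, he1, hme, rfl⟩ := hQ
  obtain ⟨f, hf, hf1, hmf, rfl⟩ := hR
  obtain ⟨a, ha, haZ⟩ := (D.qSet_data ⟨e, he, he1, hme, rfl⟩).2.1
  have hfa : f a ≠ a := fun h' => hne (D.qSet_eq ⟨e, he, he1, hme, rfl⟩ ⟨f, hf, hf1, hmf, rfl⟩ ha h' haZ)
  set S := autFix e ⊓ Subgroup.centralizer (autFix f : Set W) with hS
  have hSinv : AutInv D.E S := fun g hg y hy => ⟨D.autInv_fix e he g hg y hy.1,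
    Subgroup.mem_centralizer_iff.2 fun r hr => by
      obtain ⟨r', rfl⟩ := g.surjective r
      have hr' : r' ∈ autFix f := by simpa using D.autInv_fix f hf _ (inv_mem hg) _ hr
      rw [← map_mul, ← map_mul, Subgroup.mem_centralizer_iff.1 hy.2 r' hr']⟩
  have hmem : a⁻¹ * f a ∈ S := by
    refine Subgroup.mem_inf.2 ⟨mul_mem (inv_mem ha) (D.autInv_fix e he f hf a ha), Subgroup.mem_centralizer_iff.2 fun y hy => ?_⟩
    obtain ⟨c, hcm, hc⟩ : ∃ c ∈ zpowers D.z, a * y = c * (y * a) := ⟨_, h a ha y hy, by group⟩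
    have h2 : f a * y = c * (y * f a) := by
      have := congrArg f hc
      rwa [map_mul, map_mul, map_mul, show f y = y from hy, D.Z_fixed hcm hf] at this
    have h3 : a⁻¹ * y = y * (c * a⁻¹) := by
      calc a⁻¹ * y = a⁻¹ * (y * a) * a⁻¹ := by group
        _ = a⁻¹ * (c⁻¹ * (a * y)) * a⁻¹ := by rw [hc]; group
        _ = (a⁻¹ * c⁻¹) * a * y * a⁻¹ := by group
        _ = c⁻¹ * y * a⁻¹ := by rw [D.Z_comm (inv_mem hcm) a⁻¹]; group
        _ = y * c⁻¹ * a⁻¹ := by rw [D.Z_comm (inv_mem hcm) y]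
        _ = y * (c * a⁻¹) := by
          have : c⁻¹ = c := by
            rcases D.mem_Z hcm with rfl | rfl
            exacts [inv_one, inv_eq_of_mul_eq_one_right D.hzz]
          rw [this, mul_assoc]
    calc y * (a⁻¹ * f a) = y * a⁻¹ * f a := by group
      _ = c⁻¹ * (y * (c * a⁻¹)) * f a := by
        rw [← mul_assoc y c, D.Z_comm hcm y]; group
      _ = c⁻¹ * a⁻¹ * (y * f a) := by rw [← h3]; group
      _ = c⁻¹ * a⁻¹ * (c⁻¹ * (f a * y)) := by rw [h2]; group
      _ = (c⁻¹ * c⁻¹) * (a⁻¹ * f a * y) := by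
        rw [← mul_assoc (c⁻¹ * a⁻¹), mul_assoc c⁻¹ a⁻¹ c⁻¹, D.Z_comm (inv_mem hcm) a⁻¹]; group
      _ = a⁻¹ * f a * y := by
        rcases D.mem_Z hcm with rfl | rfl
        · simp
        · rw [← _root_.mul_inv_rev, D.hzz]; simp
  have hnZ : a⁻¹ * f a ∉ zpowers D.z := fun hd => by
    obtain ⟨k, hk⟩ := D.hE ⟨f, hf⟩
    have h3 : p = 3 := D.three_eq ⟨e, he, he1, hme⟩
    have hpow : f ^ 3 ^ k = 1 := by
      have := congrArg Subtype.val hk
      rw [SubmonoidClass.coe_pow] at this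
      exact (congrArg (fun q => f ^ q ^ k) h3).symm.trans this
    have h2 : ∀ m : ℕ, (f ^ m) a = a * (a⁻¹ * f a) ^ m := by
      intro m
      induction m with
      | zero => simp
      | succ m ih =>
        rw [pow_succ', MulAut.mul_apply, ih, map_mul, map_pow, D.Z_fixed hd hf, pow_succ', ← mul_assoc]
        group
    have h4 := h2 (3 ^ k)
    rw [hpow, MulAut.one_apply, left_eq_mul] at h4
    rcases D.mem_Z hd with e1 | e1
    · exact hfa (inv_mul_eq_one.1 e1).symm
    · rw [e1, ← orderOf_dvd_iff_pow_eq_one, D.hz2] at h4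
      exact absurd (Nat.prime_two.dvd_of_dvd_pow h4) (by norm_num)
  have hle := D.sub_fix he he1 hme hSinv inf_le_left hmem hnZ
  intro x hx y hy
  exact (Subgroup.mem_centralizer_iff.1 (hle.ge hx).2 y hy).symm

/-- The elements of `U` central in `U` modulo the involution. -/
def zTwo (U : Subgroup W) : Subgroup W where
  carrier := {x | x ∈ U ∧ ∀ y ∈ U, x * y * x⁻¹ * y⁻¹ ∈ zpowers D.z}
  one_mem' := ⟨one_mem _, fun y _ => by simp⟩
  mul_mem' := by
    rintro a b ⟨ha, ha'⟩ ⟨hb, hb'⟩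
    refine ⟨mul_mem ha hb, fun y hy => ?_⟩
    have h1 : a * b * y * (a * b)⁻¹ * y⁻¹ = a * (b * y * b⁻¹ * y⁻¹) * a⁻¹ * (a * y * a⁻¹ * y⁻¹) := by
      group
    rw [h1]
    refine mul_mem ?_ (ha' y hy)
    rw [D.Z_comm (hb' y hy) a, mul_assoc, mul_inv_cancel, mul_one]
    exact hb' y hy
  inv_mem' := by
    rintro a ⟨ha, ha'⟩
    refine ⟨inv_mem ha, fun y hy => ?_⟩
    have h1 : a⁻¹ * y * a⁻¹⁻¹ * y⁻¹ = a⁻¹ * (a * y * a⁻¹ * y⁻¹)⁻¹ * a := by group
    rw [h1, D.Z_comm (inv_mem (ha' y hy)) a⁻¹, mul_assoc, inv_mul_cancel, mul_one]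
    exact inv_mem (ha' y hy)

theorem exists_qSet_le_zTwo {U : Subgroup W} (hU : AutInv D.E U) (hZU : zpowers D.z ≤ U)
    (hne : U ≠ zpowers D.z) : ∃ Q ∈ D.qSet, Q ≤ D.zTwo U := by
  have := Fact.mk Nat.prime_two
  let Z' := (zpowers D.z).subgroupOf U
  have hn : Z'.Normal := ⟨fun x hx g => by
    rw [mem_subgroupOf] at hx ⊢
    simp only [Subgroup.coe_mul, InvMemClass.coe_inv]
    rwa [D.Z_comm hx, mul_inv_cancel_right]⟩
  have hnt : Nontrivial (U ⧸ Z') := by
    rw [QuotientGroup.nontrivial_iff]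
    intro h
    rw [subgroupOf_eq_top] at h
    exact hne (le_antisymm h hZU)
  have := ((D.hW.to_subgroup U).to_quotient Z').center_nontrivial
  obtain ⟨⟨c, hc⟩, hc1⟩ := exists_ne (1 : Subgroup.center (U ⧸ Z'))
  obtain ⟨x, rfl⟩ := QuotientGroup.mk_surjective c
  have hxN : (x : W) ∈ D.zTwo U := ⟨x.2, fun y hy => by
    have h1 := Subgroup.mem_center_iff.1 hc (QuotientGroup.mk ⟨y, hy⟩)
    have h2 : (QuotientGroup.mk (x * ⟨y, hy⟩ * x⁻¹ * ⟨y, hy⟩⁻¹) : U ⧸ Z') = 1 := by
      simp only [QuotientGroup.mk_mul, QuotientGroup.mk_inv, ← h1]; group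
    exact Subgroup.mem_subgroupOf.1 ((QuotientGroup.eq_one_iff _).1 h2)⟩
  have hxZ : (x : W) ∉ zpowers D.z := fun h => hc1 (Subtype.ext ((QuotientGroup.eq_one_iff x).2 h))
  have hNinv : AutInv D.E (D.zTwo U) := fun g hg u hu => ⟨hU g hg u hu.1, fun y hy => by
    obtain ⟨y, rfl⟩ := g.surjective y
    have hy' : y ∈ U := by simpa using hU _ (inv_mem hg) _ hy
    rw [← map_mul, ← map_inv, ← map_mul, ← map_inv, ← map_mul, D.Z_fixed (hu.2 y hy') hg]
    exact hu.2 y hy'⟩
  by_contra hcon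
  push Not at hcon
  refine hxZ (D.gen (D.zTwo U) (zpowers D.z) hNinv (fun e he he1 u hu => ?_) hxN)
  by_contra huZ
  have hQ := D.fix_cases he he1 hu.2 huZ
  exact hcon _ hQ (D.qSet_le hQ hNinv hu.2 hu.1 huZ)

theorem autInv_sup {U V : Subgroup W} (hU : AutInv D.E U) (hV : AutInv D.E V) :
    AutInv D.E (U ⊔ V) := fun g hg x hx => by
  have : U ⊔ V ≤ (U ⊔ V).comap g.toMonoidHom :=
    sup_le (fun u hu => Subgroup.mem_sup_left (hU g hg u hu)) (fun u hu => Subgroup.mem_sup_right (hV g hg u hu))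
  exact this hx

/-- The subgroup generated by a family of the quaternion groups. -/
noncomputable def span (S : Finset (Subgroup W)) : Subgroup W := zpowers D.z ⊔ S.sup id

theorem le_span {S : Finset (Subgroup W)} {Q : Subgroup W} (hQ : Q ∈ S) : Q ≤ D.span S :=
  le_sup_of_le_right (Finset.le_sup (f := id) hQ)

theorem span_inv {S : Finset (Subgroup W)} (hS : ∀ Q ∈ S, Q ∈ D.qSet) : AutInv D.E (D.span S) := by
  classical
  induction S using Finset.induction with
  | empty => rw [span, Finset.sup_empty, sup_bot_eq]; exact D.autInv_Z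
  | insert Q S hQS ih =>
    rw [span, Finset.sup_insert, id, sup_left_comm]
    exact D.autInv_sup (D.qSet_inv (hS Q (Finset.mem_insert_self _ _)))
      (ih fun R hR => hS R (Finset.mem_insert_of_mem hR))

theorem span_le_centralizer {S : Finset (Subgroup W)} {Q : Subgroup W}
    (h : ∀ R ∈ S, ∀ x ∈ Q, ∀ y ∈ R, x * y = y * x) :
    D.span S ≤ Subgroup.centralizer (Q : Set W) := by
  refine sup_le ?_ (Finset.sup_le fun R hR y hy =>
    Subgroup.mem_centralizer_iff.2 fun x hx => h R hR x hx y hy)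
  exact zpowers_le.2 (Subgroup.mem_centralizer_iff.2 fun x _ => D.hzc x)

theorem commute_pairs (S : Finset (Subgroup W)) (hS : ∀ Q ∈ S, Q ∈ D.qSet) :
    ∀ Q ∈ S, ∀ R ∈ S, Q ≠ R → ∀ x ∈ Q, ∀ y ∈ R, x * y = y * x := by
  classical
  induction S using Finset.strongInduction with
  | _ S ih =>
    intro Q hQ R hR hne
    have hspan : D.span S ≠ zpowers D.z := fun h => by
      obtain ⟨x, hx, hxZ⟩ := (D.qSet_data (hS Q hQ)).2.1
      exact hxZ (h ▸ D.le_span hQ hx)
    obtain ⟨T, hT, hTle⟩ := D.exists_qSet_le_zTwo (D.span_inv hS) le_sup_left hspan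
    have hcomm : ∀ X ∈ S, T ≠ X → ∀ x ∈ T, ∀ y ∈ X, x * y = y * x := fun X hX hne' =>
      D.pairing hT (hS X hX) hne' fun x hx y hy => (hTle hx).2 y (D.le_span hX hy)
    have hTS : T ∈ S := by
      by_contra hTS
      exact (D.qSet_data hT).2.2 fun x hx y hy =>
        Subgroup.mem_centralizer_iff.1 (D.span_le_centralizer
          (fun X hX => hcomm X hX fun e => hTS (e ▸ hX)) (hTle hy).1) x hx
    by_cases hQT : Q = T
    · subst hQT; exact hcomm R hR hne
    by_cases hRT : R = T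
    · subst hRT; exact fun x hx y hy => (hcomm Q hQ (Ne.symm hne) y hy x hx).symm
    exact ih (S.erase T) (Finset.erase_ssubset hTS) (fun X hX => hS X (Finset.mem_of_mem_erase hX))
      Q (Finset.mem_erase.2 ⟨hQT, hQ⟩) R (Finset.mem_erase.2 ⟨hRT, hR⟩) hne

theorem card_span (S : Finset (Subgroup W)) (hS : ∀ Q ∈ S, Q ∈ D.qSet) :
    Nat.card (D.span S) = 2 ^ (2 * S.card + 1) := by
  classical
  induction S using Finset.induction with
  | empty => rw [span, Finset.sup_empty, sup_bot_eq, Nat.card_zpowers, D.hz2]; rfl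
  | insert Q S hQS ih =>
    have hQ := hS Q (Finset.mem_insert_self _ _)
    have hS' : ∀ R ∈ S, R ∈ D.qSet := fun R hR => hS R (Finset.mem_insert_of_mem hR)
    have hcp := D.commute_pairs _ hS
    have hcen : D.span S ≤ Subgroup.centralizer (Q : Set W) := D.span_le_centralizer fun R hR =>
      hcp Q (Finset.mem_insert_self _ _) R (Finset.mem_insert_of_mem hR) fun e => hQS (e ▸ hR)
    have hinf : Q ⊓ D.span S = zpowers D.z := by
      refine le_antisymm (fun x hx => ?_) (le_inf (D.Z_le_qSet hQ) le_sup_left)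
      by_contra hxZ
      exact (D.qSet_data hQ).2.2 fun a ha b hb => Subgroup.mem_centralizer_iff.1
        (hcen (D.qSet_le hQ (D.span_inv hS') hx.1 hx.2 hxZ hb)) a ha
    have hnorm : Q ≤ Subgroup.normalizer (D.span S : Set W) := fun q hq => by
      rw [Subgroup.mem_normalizer_iff]
      intro y
      have key : ∀ w ∈ D.span S, q * w * q⁻¹ = w := fun w hw => by
        rw [Subgroup.mem_centralizer_iff.1 (hcen hw) q hq, mul_inv_cancel_right]
      constructor
      · intro hy; rwa [key y hy]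
      · intro hy
        have h1 := key _ hy
        rwa [← ((MulAut.conj q).injective h1 : q * y * q⁻¹ = y)]
    have h1 := Cfsg.Agent.H29.card_prod_mul_card_inf Q (D.span S)
    have h2 : ((Q : Set W) * (D.span S : Set W)) = ((Q ⊔ D.span S : Subgroup W) : Set W) :=
      (Subgroup.coe_mul_of_left_le_normalizer_right Q (D.span S) hnorm).symm
    rw [h2, hinf, Nat.card_zpowers, D.hz2, (D.qSet_data hQ).1, ih hS'] at h1
    rw [Finset.card_insert_of_notMem hQS, span, Finset.sup_insert, id, sup_left_comm, ← span]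
    have h3 : Nat.card ((Q ⊔ D.span S : Subgroup W) : Set W) = Nat.card (Q ⊔ D.span S : Subgroup W) := rfl
    rw [h3] at h1
    rw [show 2 * (S.card + 1) + 1 = (2 * S.card + 1) + 2 by ring, pow_add]
    omega

theorem span_all [Fintype (Subgroup W)] [DecidablePred (· ∈ D.qSet)] :
    D.span (Finset.univ.filter (· ∈ D.qSet)) = ⊤ := by
  refine eq_top_iff.2 (D.gen ⊤ _ (fun _ _ _ _ => trivial) fun e he he1 x hx => ?_)
  by_cases hxZ : x ∈ zpowers D.z
  · exact le_sup_left (a := zpowers D.z) hxZ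
  · exact D.le_span (Finset.mem_filter.2 ⟨Finset.mem_univ _, D.fix_cases he he1 hx.2 hxZ⟩) hx.2

theorem isExtraspecial_main : Cfsg.IsExtraspecial 2 W ∧
    {x : W | ∀ e ∈ D.E, e x = x} = (Subgroup.center W : Set W) := by
  classical
  haveI : Fintype (Subgroup W) := Fintype.ofFinite _
  set S := Finset.univ.filter (· ∈ D.qSet) with hS
  have hSQ : ∀ Q ∈ S, Q ∈ D.qSet := fun Q hQ => (Finset.mem_filter.1 hQ).2
  have htop : ∀ x : W, x ∈ D.span S := fun x => D.span_all ▸ Subgroup.mem_top x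
  let T₀ : W → Subgroup W := fun q =>
    { carrier := {w | q * w * q⁻¹ * w⁻¹ ∈ zpowers D.z}
      one_mem' := by simp
      mul_mem' := by
        intro a b ha hb
        show _ ∈ zpowers D.z
        rw [show q * (a * b) * q⁻¹ * (a * b)⁻¹ =
          (q * a * q⁻¹ * a⁻¹) * (a * (q * b * q⁻¹ * b⁻¹) * a⁻¹) by group]
        refine mul_mem ha ?_
        rw [D.Z_comm hb a, mul_inv_cancel_right]
        exact hb
      inv_mem' := by
        intro a ha
        show _ ∈ zpowers D.z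
        rw [show q * a⁻¹ * q⁻¹ * a⁻¹⁻¹ = a⁻¹ * (q * a * q⁻¹ * a⁻¹)⁻¹ * a by group,
          D.Z_comm (inv_mem ha) a⁻¹, mul_assoc, inv_mul_cancel, mul_one]
        exact inv_mem ha }
  have hgen : ∀ Q ∈ S, ∀ q ∈ Q, ∀ y : W, q * y * q⁻¹ * y⁻¹ ∈ zpowers D.z := by
    intro Q hQ q hq y
    refine (sup_le ?_ (Finset.sup_le fun R hR r hr => ?_) : D.span S ≤ T₀ q) (htop y)
    · exact zpowers_le.2 (show q * D.z * q⁻¹ * D.z⁻¹ ∈ zpowers D.z by rw [D.hzc q]; simp)
    · show q * r * q⁻¹ * r⁻¹ ∈ zpowers D.z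
      rcases eq_or_ne Q R with rfl | hne
      · obtain ⟨e, he, he1, hm, rfl⟩ := hSQ Q hQ
        rcases (D.moved_structure he he1 hm).2.2.2.1 q hq r hr with h1 | h1
        · simp [h1]
        · rw [h1, show D.z * (r * q) * q⁻¹ * r⁻¹ = D.z by group]; exact mem_zpowers _
      · rw [D.commute_pairs S hSQ Q hQ R hR hne q hq r hr]; simp
  have hc2 : ∀ x : W, x ∈ D.zTwo ⊤ := fun x =>
    (sup_le (zpowers_le.2 ⟨trivial, fun y _ => by simp [← D.hzc y]⟩)
      (Finset.sup_le fun Q hQ q hq => ⟨trivial, fun y _ => hgen Q hQ q hq y⟩) :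
        D.span S ≤ D.zTwo ⊤) (htop x)
  have hsq : ∀ x : W, x * x = 1 ∨ x * x = D.z := fun x => by
    let T : Subgroup W :=
      { carrier := {w | w * w ∈ zpowers D.z}
        one_mem' := by simp
        mul_mem' := by
          intro a b ha hb
          show _ ∈ zpowers D.z
          have e : a * b * (a * b) = a * a * ((a⁻¹ * (b * a * b⁻¹ * a⁻¹) * a) * (b * b)) := by group
          rw [e]
          refine mul_mem ha (mul_mem ?_ hb)
          have hm := (hc2 b).2 a trivial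
          rw [D.Z_comm hm a⁻¹, mul_assoc, inv_mul_cancel, mul_one]
          exact hm
        inv_mem' := by
          intro a ha
          show _ ∈ zpowers D.z
          rw [← _root_.mul_inv_rev]; exact inv_mem ha }
    refine D.mem_Z ((sup_le ?_ (Finset.sup_le fun Q hQ q hq => ?_) : D.span S ≤ T) (htop x))
    · exact zpowers_le.2 (show D.z * D.z ∈ zpowers D.z by rw [D.hzz]; exact one_mem _)
    · show q * q ∈ zpowers D.z
      by_cases hqZ : q ∈ zpowers D.z
      · exact mul_mem hqZ hqZ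
      obtain ⟨e, he, he1, hm, rfl⟩ := hSQ Q hQ
      rw [(D.moved_structure he he1 hm).2.2.1 q hq hqZ]; exact mem_zpowers _
  have hcen : ∀ x : W, (∀ y, y * x = x * y) → x ∈ zpowers D.z := fun x hx => by
    refine D.gen (Subgroup.center W) (zpowers D.z) (fun f _ u hu => ?_) (fun e he he1 u hu => ?_)
      (Subgroup.mem_center_iff.2 hx)
    · refine Subgroup.mem_center_iff.2 fun y => ?_
      obtain ⟨y, rfl⟩ := f.surjective y
      rw [← map_mul, ← map_mul, Subgroup.mem_center_iff.1 hu]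
    · by_contra huZ
      have hQ := D.fix_cases he he1 hu.2 huZ
      have hle := D.qSet_le hQ (U := Subgroup.center W) (fun f _ w hw => by
        refine Subgroup.mem_center_iff.2 fun y => ?_
        obtain ⟨y, rfl⟩ := f.surjective y
        rw [← map_mul, ← map_mul, Subgroup.mem_center_iff.1 hw]) hu.2 hu.1 huZ
      exact (D.qSet_data hQ).2.2 fun a _ b hb => Subgroup.mem_center_iff.1 (hle hb) a
  refine ⟨H69.isExtraspecial_two_of D.z D.hW hsq (fun x y => ?_) ?_ fun x hx => D.mem_Z (hcen x hx), ?_⟩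
  · rcases D.mem_Z ((hc2 x).2 y trivial) with h | h
    · left; exact mul_inv_eq_iff_eq_mul.1 (mul_inv_eq_one.1 h)
    · right; rw [← h]; group
  · obtain ⟨e, he, he1, hm⟩ := D.exists_moved
    obtain ⟨-, -, -, -, ⟨a, -, b, -, hab⟩, -⟩ := D.moved_structure he he1 hm
    exact ⟨a, b, hab⟩
  · ext x
    refine ⟨fun hx => Subgroup.mem_center_iff.2 fun y => D.Z_comm (D.fixed_all hx) y, fun hx e he => ?_⟩
    exact D.Z_fixed (hcen x (Subgroup.mem_center_iff.1 hx)) he

theorem counts [Fintype (Subgroup W)] [DecidablePred (· ∈ D.qSet)] :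
    2 ≤ (Finset.univ.filter (· ∈ D.qSet)).card ∧ (Finset.univ.filter (· ∈ D.qSet)).card ≤ 4 ∧
    Nat.card D.E = 9 := by
  classical
  have := D.hab
  set S := Finset.univ.filter (· ∈ D.qSet) with hS
  have h3 := D.three_eq D.exists_moved
  have hSQ : ∀ Q ∈ S, Q ∈ D.qSet := fun Q hQ => (Finset.mem_filter.1 hQ).2
  have hK : ∀ Q ∈ S, Nat.card D.E = 3 * Nat.card (D.kerOn Q) := fun Q hQ => by
    obtain ⟨e, he, he1, hm, rfl⟩ := hSQ Q hQ
    exact (D.moved_structure he he1 hm).2.2.2.2.2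
  have hnc3 : Nat.card D.E ≠ 3 := fun h => by
    haveI : Fact (Nat.Prime 3) := ⟨Nat.prime_three⟩
    exact D.hnc (isCyclic_of_prime_card h)
  have hcard1 : ∀ Q ∈ S, 1 < Nat.card (D.kerOn Q) := fun Q hQ => by
    have h1 := hK Q hQ
    rcases Nat.lt_or_ge 1 (Nat.card (D.kerOn Q)) with h | h
    · exact h
    · have := Nat.card_pos (α := D.kerOn Q)
      exact absurd (by rw [h1, show Nat.card (D.kerOn Q) = 1 by omega]) hnc3
  have huniq : ∀ Q ∈ S, ∀ g ∈ D.kerOn Q, g ≠ 1 → autFix g.1 = Q := fun Q hQ g hg hg1 => by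
    obtain ⟨x, hxQ, hxZ⟩ := (D.qSet_data (hSQ Q hQ)).2.1
    exact (D.qSet_eq (hSQ Q hQ) (D.fix_cases g.2 (fun e => hg1 (Subtype.ext e)) (hg x hxQ) hxZ)
      hxQ (hg x hxQ) hxZ).symm
  have hdisj : ∀ Q ∈ S, ∀ R ∈ S, Q ≠ R → D.kerOn Q ⊓ D.kerOn R = ⊥ := fun Q hQ R hR hne =>
    (Subgroup.eq_bot_iff_forall _).2 fun g hg => by
      by_contra hg1
      exact hne ((huniq Q hQ g hg.1 hg1).symm.trans (huniq R hR g hg.2 hg1))
  obtain ⟨e₀, he₀, he01, hm₀⟩ := D.exists_moved
  have hQ₀ : autFix e₀ ∈ S :=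
    Finset.mem_filter.2 ⟨Finset.mem_univ _, e₀, he₀, he01, hm₀, rfl⟩
  have h2 : 2 ≤ S.card := by
    by_contra hlt
    have hone : S.card = 1 := by
      have := Finset.card_pos.2 ⟨_, hQ₀⟩
      omega
    obtain ⟨Q, hQ⟩ := Finset.card_eq_one.1 hone
    have hQS : Q ∈ S := by rw [hQ]; exact Finset.mem_singleton_self Q
    haveI := Finite.one_lt_card_iff_nontrivial.1 (hcard1 Q hQS)
    obtain ⟨g, hg1⟩ := exists_ne (1 : D.kerOn Q)
    refine hg1 (Subtype.ext (Subtype.ext (UniqueInvData.eq_one_of_forall fun x => ?_)))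
    have hle : D.span S ≤ Q := by
      refine sup_le (D.Z_le_qSet (hSQ Q hQS)) ?_
      rw [hQ, Finset.sup_singleton]; exact le_rfl
    exact g.2 x (hle (D.span_all ▸ Subgroup.mem_top x))
  have h9 : Nat.card D.E = 9 := by
    obtain ⟨Q, hQ, R, hR, hne⟩ := Finset.one_lt_card.1 h2
    have h5 := Cfsg.Agent.H29.card_prod_mul_card_inf (D.kerOn Q) (D.kerOn R)
    rw [hdisj Q hQ R hR hne, Subgroup.card_bot, mul_one] at h5
    have h6 : Nat.card ((D.kerOn Q : Set D.E) * (D.kerOn R : Set D.E) : Set D.E) ≤ Nat.card D.E :=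
      Nat.card_le_card_of_injective _ Subtype.val_injective
    have h7 := hK Q hQ
    have h8 := hK R hR
    have h10 : Nat.card (D.kerOn R) = Nat.card (D.kerOn Q) := by omega
    rw [h10] at h5
    have h11 : Nat.card (D.kerOn Q) ≤ 3 := by
      by_contra hgt
      nlinarith
    obtain ⟨m, hm⟩ := (IsPGroup.iff_card (p := p)).1 (D.hE.to_subgroup (D.kerOn Q))
    have h12 := hcard1 Q hQ
    have h13 : Nat.card (D.kerOn Q) = 3 ^ m := hm.trans (congrArg (· ^ m) h3)
    have h14 : Nat.card (D.kerOn Q) ≠ 2 := fun e => by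
      rw [h13] at e
      rcases m with _ | m
      · simp at e
      · rw [pow_succ] at e
        omega
    omega
  refine ⟨h2, ?_, h9⟩
  haveI : Fintype D.E := Fintype.ofFinite _
  let P : Subgroup W → Finset D.E := fun Q => (Finset.univ.filter (· ∈ D.kerOn Q)).erase 1
  have hP : ∀ Q ∈ S, (P Q).card = 2 := fun Q hQ => by
    have := hK Q hQ
    rw [Finset.card_erase_of_mem (Finset.mem_filter.2 ⟨Finset.mem_univ _, one_mem _⟩),
      ← Fintype.card_subtype, ← Nat.card_eq_fintype_card]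
    show Nat.card (D.kerOn Q) - 1 = 2
    omega
  have hPd : (S : Set (Subgroup W)).PairwiseDisjoint P := fun Q hQ R hR hne => by
    refine Finset.disjoint_left.2 fun g hg hg' => ?_
    obtain ⟨hg1, hgQ⟩ := Finset.mem_erase.1 hg
    exact hg1 (Subgroup.mem_bot.1 (hdisj Q hQ R hR hne ▸
      Subgroup.mem_inf.2 ⟨(Finset.mem_filter.1 hgQ).2, (Finset.mem_filter.1 (Finset.mem_erase.1 hg').2).2⟩))
  have hle : (S.biUnion P).card ≤ (Finset.univ.erase (1 : D.E)).card :=
    Finset.card_le_card fun g hg => by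
      obtain ⟨Q, -, hgQ⟩ := Finset.mem_biUnion.1 hg
      exact Finset.mem_erase.2 ⟨(Finset.mem_erase.1 hgQ).1, Finset.mem_univ _⟩
  rw [Finset.card_biUnion hPd, Finset.sum_congr rfl hP, Finset.sum_const, smul_eq_mul,
    Finset.card_erase_of_mem (Finset.mem_univ _), Finset.card_univ, ← Nat.card_eq_fintype_card, h9] at hle
  omega

end UniqueInvCtx

end H98
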