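import Cfsg.Agent.H98.SubFamily
import Cfsg.Agent.H98.Transvection
import Cfsg.Agent.H98.TransClass
import Cfsg.Agent.H50.Hyperbolic
import Cfsg.Agent.S5032

/-! The groups of unitary transvections as abstract root subgroups. -/

set_option autoImplicit false

namespace H98

open Cfsg Matrix

variable (F : Type*) [Field F] (q n : ℕ)

/-- Unitary transvections with centre `p`. -/
def UT (p : Fin (n + 2) → F) : Subgroup ↥(Cfsg.SU (n + 2) F q) :=
  Subgroup.closure {g : ↥(Cfsg.SU (n + 2) F q) |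
    (∀ v : Fin (n + 2) → F, ∃ c : F, ((g : Matrix.SpecialLinearGroup (Fin (n + 2)) F) :
      Matrix (Fin (n + 2)) (Fin (n + 2)) F) *ᵥ v = v + c • p) ∧
    ∀ v : Fin (n + 2) → F, Cfsg.hermForm (n + 2) F q v p = 0 →
      ((g : Matrix.SpecialLinearGroup (Fin (n + 2)) F) :
        Matrix (Fin (n + 2)) (Fin (n + 2)) F) *ᵥ v = v}

/-- The family of unitary transvection groups. -/
def UTFam : Set (Subgroup ↥(Cfsg.SU (n + 2) F q)) :=
  {A | ∃ p : Fin (n + 2) → F, p ≠ 0 ∧ Cfsg.hermForm (n + 2) F q p p = 0 ∧ A = UT F q n p}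

/-- The linear form `v ↦ h(v, p)` as a vector. -/
def cvec (p : Fin (n + 2) → F) : Fin (n + 2) → F := fun i => p i ^ q

variable {F q n}

theorem cvec_dot (p v : Fin (n + 2) → F) : cvec F q n p ⬝ᵥ v = hermForm (n + 2) F q v p := by
  simp [cvec, hermForm, dotProduct, mul_comm]

theorem slMulVec_SU_mul (g g' : ↥(Cfsg.SU (n + 2) F q)) (v : Fin (n + 2) → F) :
    (g * g').1.1 *ᵥ v = g.1.1 *ᵥ (g'.1.1 *ᵥ v) :=
  mul_mulVec g.1 g'.1 v

variable [Fintype F] (hF : Fintype.card F = q ^ 2)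

include hF

theorem mem_UT_set {p : Fin (n + 2) → F} (hp0 : p ≠ 0) (hp : hermForm (n + 2) F q p p = 0)
    (g : ↥(Cfsg.SU (n + 2) F q)) :
    ((∀ v : Fin (n + 2) → F, ∃ c : F, g.1.1 *ᵥ v = v + c • p) ∧
      ∀ v : Fin (n + 2) → F, hermForm (n + 2) F q v p = 0 → g.1.1 *ᵥ v = v) ↔
      ∃ μ : F, μ + μ ^ q = 0 ∧ g.1 = tm p (cvec F q n p) μ := by
  have hd : cvec F q n p ⬝ᵥ p = 0 := by rw [cvec_dot, hp]
  constructor
  · rintro ⟨h1, h2⟩
    obtain ⟨v₀, hv₀⟩ := H50.exists_coords_eq hF (H50.linearIndependent_single_vec hF hp0)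
      (fun _ => (1 : F))
    have hv : hermForm (n + 2) F q v₀ p = 1 := hv₀ ()
    obtain ⟨μ, hμ⟩ := h1 v₀
    refine ⟨μ, ?_, sl_ext_mulVec fun v => ?_⟩
    · have hiso := H50.SU_isIso g v₀ v₀
      rw [hμ, H50.h_add_left, H50.h_add_right hF, H50.h_add_right hF, H50.h_smul_left,
        H50.h_smul_left, H50.h_smul_right hF, H50.h_smul_right hF, hp, hv,
        H50.h_symm hF v₀ p, hv] at hiso
      linear_combination hiso
    · rw [tm_mulVec hd, cvec_dot]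
      obtain ⟨w, hw⟩ : ∃ w, w = v - hermForm (n + 2) F q v p • v₀ := ⟨_, rfl⟩
      have hwp : g.1.1 *ᵥ w = w := h2 w (by
        rw [hw, H50.h_sub_left, H50.h_smul_left, hv, mul_one, sub_self])
      have hv' : v = w + hermForm (n + 2) F q v p • v₀ := by rw [hw, sub_add_cancel]
      conv_lhs => rw [hv', Matrix.mulVec_add, Matrix.mulVec_smul, hwp, hμ, smul_add, smul_smul,
        ← add_assoc, ← hv', mul_comm]
  · rintro ⟨μ, -, hg⟩
    rw [hg]
    exact ⟨fun v => ⟨_, tm_mulVec hd μ v⟩, fun v hv => by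
      rw [tm_mulVec hd, cvec_dot, hv, mul_zero, zero_smul, add_zero]⟩

theorem mem_UT {p : Fin (n + 2) → F} (hp0 : p ≠ 0) (hp : hermForm (n + 2) F q p p = 0)
    (g : ↥(Cfsg.SU (n + 2) F q)) :
    g ∈ UT F q n p ↔ ∃ μ : F, μ + μ ^ q = 0 ∧ g.1 = tm p (cvec F q n p) μ := by
  have hd : cvec F q n p ⬝ᵥ p = 0 := by rw [cvec_dot, hp]
  refine ⟨fun h => ?_, fun h => Subgroup.subset_closure ((mem_UT_set hF hp0 hp g).2 h)⟩
  induction h using Subgroup.closure_induction with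
  | mem x hx => exact (mem_UT_set hF hp0 hp x).1 hx
  | one => exact ⟨0, by simp [zero_pow (H50.q_ne_zero hF)], (tm_zero hd).symm⟩
  | mul a b _ _ ha hb =>
    obtain ⟨c, hc, ea⟩ := ha
    obtain ⟨d, hdd, eb⟩ := hb
    exact ⟨c + d, by rw [H50.add_pow_q hF]; linear_combination hc + hdd,
      by rw [Subgroup.coe_mul, ea, eb, tm_mul hd]⟩
  | inv a _ ha =>
    obtain ⟨c, hc, ea⟩ := ha
    exact ⟨-c, by rw [H50.neg_pow_q hF]; linear_combination -hc,
      by rw [Subgroup.coe_inv, ea, tm_inv hd]⟩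

theorem tm_mem_SU {p : Fin (n + 2) → F} (hp : hermForm (n + 2) F q p p = 0) {μ : F}
    (hμ : μ + μ ^ q = 0) : tm p (cvec F q n p) μ ∈ Cfsg.SU (n + 2) F q := by
  have hd : cvec F q n p ⬝ᵥ p = 0 := by rw [cvec_dot, hp]
  refine H50.mem_SU.2 fun u v => ?_
  rw [tm_mulVec hd, tm_mulVec hd, cvec_dot, cvec_dot, H50.h_add_left, H50.h_add_right hF,
    H50.h_add_right hF, H50.h_smul_left, H50.h_smul_left, H50.h_smul_right hF, H50.h_smul_right hF,
    hp, H50.h_symm hF v p, mul_pow]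
  linear_combination (hermForm (n + 2) F q u p * hermForm (n + 2) F q v p ^ q) * hμ

theorem UT_commute {p r : Fin (n + 2) → F} (hp0 : p ≠ 0) (hp : hermForm (n + 2) F q p p = 0)
    (hr0 : r ≠ 0) (hr : hermForm (n + 2) F q r r = 0) (hpr : hermForm (n + 2) F q p r = 0) :
    ⁅UT F q n p, UT F q n r⁆ = ⊥ := by
  have hd : cvec F q n p ⬝ᵥ p = 0 := by rw [cvec_dot, hp]
  have hd' : cvec F q n r ⬝ᵥ r = 0 := by rw [cvec_dot, hr]
  rw [Subgroup.commutator_eq_bot_iff_le_centralizer]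
  intro x hx
  rw [Subgroup.mem_centralizer_iff]
  intro y hy
  obtain ⟨c, -, ex⟩ := (mem_UT hF hp0 hp x).1 hx
  obtain ⟨d, -, ey⟩ := (mem_UT hF hr0 hr y).1 hy
  refine Subtype.ext (sl_ext_mulVec fun v => ?_)
  rw [Subgroup.coe_mul, Subgroup.coe_mul, ex, ey, mul_mulVec, mul_mulVec, tm_mulVec hd,
    tm_mulVec hd', tm_mulVec hd', tm_mulVec hd]
  simp only [dotProduct_add, dotProduct_smul, cvec_dot, (H50.h_eq_zero_comm hF).1 hpr, hpr,
    smul_zero, add_zero]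
  abel

theorem UT_conj {p : Fin (n + 2) → F} (hp0 : p ≠ 0) (hp : hermForm (n + 2) F q p p = 0)
    (g : ↥(Cfsg.SU (n + 2) F q)) : conjBy (UT F q n p) g = UT F q n (g.1.1 *ᵥ p) := by
  have key : ∀ (g : ↥(Cfsg.SU (n + 2) F q)) (p : Fin (n + 2) → F), p ≠ 0 →
      hermForm (n + 2) F q p p = 0 → ∀ x ∈ UT F q n p, g * x * g⁻¹ ∈ UT F q n (g.1.1 *ᵥ p) := by
    intro g p hp0 hp x hx
    have hd : cvec F q n p ⬝ᵥ p = 0 := by rw [cvec_dot, hp]
    have hgp0 : g.1.1 *ᵥ p ≠ 0 := mulVec_ne_zero' g.1 hp0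
    have hgp : hermForm (n + 2) F q (g.1.1 *ᵥ p) (g.1.1 *ᵥ p) = 0 := by
      rw [H50.SU_isIso g, hp]
    have hd' : cvec F q n (g.1.1 *ᵥ p) ⬝ᵥ (g.1.1 *ᵥ p) = 0 := by rw [cvec_dot, hgp]
    obtain ⟨c, hc, ex⟩ := (mem_UT hF hp0 hp x).1 hx
    refine (mem_UT hF hgp0 hgp _).2 ⟨c, hc, sl_ext_mulVec fun v => ?_⟩
    rw [Subgroup.coe_mul, Subgroup.coe_mul, ex, mul_mulVec, mul_mulVec, tm_mulVec hd,
      tm_mulVec hd', Matrix.mulVec_add, Matrix.mulVec_smul, cvec_dot, cvec_dot,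
      ← slMulVec_SU_mul, mul_inv_cancel, ← H50.SU_isIso g ((g⁻¹).1.1 *ᵥ v) p,
      ← slMulVec_SU_mul, mul_inv_cancel]
    simp
  ext x
  rw [mem_conjBy]
  constructor
  · intro hx
    have := key g p hp0 hp _ hx
    rwa [show g * (g⁻¹ * x * g) * g⁻¹ = x by group] at this
  · intro hx
    have := key g⁻¹ _ (mulVec_ne_zero' g.1 hp0) (by rw [H50.SU_isIso g, hp]) x hx
    rwa [← slMulVec_SU_mul, inv_mul_cancel, inv_inv,
      show ((1 : ↥(Cfsg.SU (n + 2) F q))).1.1 *ᵥ p = p by simp] at this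

theorem UT_smul {p : Fin (n + 2) → F} (hp0 : p ≠ 0) (hp : hermForm (n + 2) F q p p = 0) {a : F}
    (ha : a ≠ 0) : UT F q n (a • p) = UT F q n p := by
  have hap : hermForm (n + 2) F q (a • p) (a • p) = 0 := by
    rw [H50.h_smul_left, H50.h_smul_right hF, hp, mul_zero, mul_zero]
  have hd : cvec F q n p ⬝ᵥ p = 0 := by rw [cvec_dot, hp]
  have hd' : cvec F q n (a • p) ⬝ᵥ (a • p) = 0 := by rw [cvec_dot, hap]
  have hcv : cvec F q n (a • p) = a ^ q • cvec F q n p := by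
    funext i; simp [cvec, mul_pow]
  have hN : (a * a ^ q) ^ q = a * a ^ q := by rw [mul_pow, H50.pow_q_pow_q hF, mul_comm]
  ext x
  rw [mem_UT hF (smul_ne_zero ha hp0) hap, mem_UT hF hp0 hp]
  constructor
  · rintro ⟨μ, hμ, e⟩
    refine ⟨a * a ^ q * μ, ?_, by rw [e, hcv, tm_smul hd]⟩
    rw [mul_pow, hN]
    linear_combination (a * a ^ q) * hμ
  · rintro ⟨μ, hμ, e⟩
    have hne : a * a ^ q ≠ 0 := mul_ne_zero ha (pow_ne_zero q ha)
    refine ⟨(a * a ^ q)⁻¹ * μ, ?_, ?_⟩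
    · rw [mul_pow, inv_pow, hN]
      linear_combination (a * a ^ q)⁻¹ * hμ
    · rw [e, hcv, tm_smul hd, ← mul_assoc (a * a ^ q), mul_inv_cancel₀ hne, one_mul]

/-- A hyperbolic pair gives a copy of `SL₂` over the fixed field. -/
theorem UT_hom {L : Type*} [Field L] (ι : L →+* F) (hι : ∀ x : F, x ∈ Set.range ι ↔ x ^ q = x)
    {e f : Fin (n + 2) → F} (h : H50.IsHyp q e f) :
    ∃ φ : Matrix.SpecialLinearGroup (Fin 2) L →* ↥(Cfsg.SU (n + 2) F q), Function.Injective φ ∧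
      (upperUnipotentSL2 L).map φ = UT F q n e ∧ (lowerUnipotentSL2 L).map φ = UT F q n f := by
  obtain ⟨d, hd0, hd⟩ := H50.exists_trace_zero_ne_zero hF
  have hdq : d ^ q = -d := by linear_combination hd
  have he0 := h.fst_ne_zero hF
  have hf0 := (h.symm hF).fst_ne_zero hF
  have hQP : rowPair (cvec F q n f) (d • cvec F q n e) * colPair e (d⁻¹ • f) = 1 := by
    refine rowPair_mul_colPair ?_ ?_ ?_ ?_ <;>
      simp [cvec_dot, h.1, h.2.1, h.2.2, (h.symm hF).2.2, hd0]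
  obtain ⟨Φ, hΦ⟩ : ∃ Φ, Φ = (embSL hQP).comp (Matrix.SpecialLinearGroup.map ι) := ⟨_, rfl⟩
  have hdq' : d⁻¹ + d⁻¹ ^ q = 0 := by rw [inv_pow, hdq, inv_neg, add_neg_cancel]
  have coe_up : ∀ s, Φ (uu s) = tm e (cvec F q n e) (d * ι s) := by
    intro s
    have e1 : Matrix.SpecialLinearGroup.map ι (uu s) = uu (ι s) := Subtype.ext (by
      ext i j; fin_cases i <;> fin_cases j <;> simp [coe_uu])
    apply Subtype.ext
    rw [hΦ, MonoidHom.comp_apply, e1, coe_embSL, embMat_uu,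
      coe_tm (by rw [cvec_dot]; exact h.1), Matrix.vecMulVec_smul, smul_smul, mul_comm]
  have coe_low : ∀ s, Φ (ll s) = tm f (cvec F q n f) (d⁻¹ * ι s) := by
    intro s
    have e1 : Matrix.SpecialLinearGroup.map ι (ll s) = ll (ι s) := Subtype.ext (by
      ext i j; fin_cases i <;> fin_cases j <;> simp [coe_ll])
    apply Subtype.ext
    rw [hΦ, MonoidHom.comp_apply, e1, coe_embSL, embMat_ll,
      coe_tm (by rw [cvec_dot]; exact h.2.1), Matrix.smul_vecMulVec, smul_smul, mul_comm]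
  have tr : ∀ (a : F), a + a ^ q = 0 → ∀ s, a * ι s + (a * ι s) ^ q = 0 := fun a ha s => by
    rw [mul_pow, (hι _).1 ⟨s, rfl⟩]
    linear_combination (ι s) * ha
  have hmem : ∀ x, Φ x ∈ Cfsg.SU (n + 2) F q := by
    intro x
    have hle : upperUnipotentSL2 L ⊔ lowerUnipotentSL2 L ≤ (Cfsg.SU (n + 2) F q).comap Φ := by
      refine sup_le (fun y hy => ?_) (fun y hy => ?_)
      · obtain ⟨s, rfl⟩ := mem_upperUnipotentSL2.1 hy
        show Φ (uu s) ∈ Cfsg.SU (n + 2) F q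
        rw [coe_up]; exact tm_mem_SU hF h.1 (tr d hd s)
      · obtain ⟨s, rfl⟩ := mem_lowerUnipotentSL2.1 hy
        show Φ (ll s) ∈ Cfsg.SU (n + 2) F q
        rw [coe_low]; exact tm_mem_SU hF h.2.1 (tr _ hdq' s)
    exact hle (by rw [upper_sup_lower]; trivial)
  refine ⟨Φ.codRestrict _ hmem, ?_, ?_, ?_⟩
  · intro x y e'
    have e1 : Φ x = Φ y := congrArg Subtype.val e'
    rw [hΦ, MonoidHom.comp_apply, MonoidHom.comp_apply] at e1
    have e2 := congrArg Subtype.val (embSL_injective hQP e1)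
    apply Subtype.ext
    ext i j
    exact ι.injective (congrArg (fun M : Matrix (Fin 2) (Fin 2) F => M i j) e2)
  · ext x
    rw [mem_UT hF he0 h.1]
    constructor
    · rintro ⟨y, hy, rfl⟩
      obtain ⟨s, rfl⟩ := mem_upperUnipotentSL2.1 hy
      exact ⟨_, tr d hd s, coe_up s⟩
    · rintro ⟨μ, hμ, ex⟩
      obtain ⟨s, hs⟩ := (hι (d⁻¹ * μ)).2 (by
        rw [mul_pow, inv_pow, hdq, inv_neg]
        linear_combination (-d⁻¹) * hμ)
      refine ⟨uu s, mem_upperUnipotentSL2.2 ⟨s, rfl⟩, Subtype.ext ?_⟩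
      show Φ (uu s) = x.1
      rw [coe_up, hs, ← mul_assoc, mul_inv_cancel₀ hd0, one_mul, ex]
  · ext x
    rw [mem_UT hF hf0 h.2.1]
    constructor
    · rintro ⟨y, hy, rfl⟩
      obtain ⟨s, rfl⟩ := mem_lowerUnipotentSL2.1 hy
      exact ⟨_, tr _ hdq' s, coe_low s⟩
    · rintro ⟨μ, hμ, ex⟩
      obtain ⟨s, hs⟩ := (hι (d * μ)).2 (by
        rw [mul_pow, hdq]
        linear_combination (-d) * hμ)
      refine ⟨ll s, mem_lowerUnipotentSL2.2 ⟨s, rfl⟩, Subtype.ext ?_⟩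
      show Φ (ll s) = x.1
      rw [coe_low, hs, ← mul_assoc, inv_mul_cancel₀ hd0, one_mul, ex]

theorem UT_cases {L : Type*} [Field L] (ι : L →+* F) (hι : ∀ x : F, x ∈ Set.range ι ↔ x ^ q = x)
    {A B : Subgroup ↥(Cfsg.SU (n + 2) F q)} (hA : A ∈ UTFam F q n) (hB : B ∈ UTFam F q n) :
    ⁅A, B⁆ = ⊥ ∨ (IsRankOnePair (A.subgroupOf (famSup (UTFam F q n)))
        (B.subgroupOf (famSup (UTFam F q n))) ∧
      IsPSL2PairOver L (A.subgroupOf (famSup (UTFam F q n)))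
        (B.subgroupOf (famSup (UTFam F q n)))) := by
  obtain ⟨p, hp0, hp, rfl⟩ := hA
  obtain ⟨r, hr0, hr, rfl⟩ := hB
  by_cases hpr : hermForm (n + 2) F q p r = 0
  · exact Or.inl (UT_commute hF hp0 hp hr0 hr hpr)
  right
  obtain ⟨a, ha⟩ : ∃ a, a = (hermForm (n + 2) F q p r)⁻¹ ^ q := ⟨_, rfl⟩
  have ha0 : a ≠ 0 := ha ▸ pow_ne_zero q (inv_ne_zero hpr)
  have hhyp : H50.IsHyp q p (a • r) := by
    refine ⟨hp, by rw [H50.h_smul_left, H50.h_smul_right hF, hr, mul_zero, mul_zero], ?_⟩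
    rw [H50.h_smul_right hF, ha, H50.pow_q_pow_q hF, inv_mul_cancel₀ hpr]
  obtain ⟨φ, hinj, hu, hl⟩ := UT_hom hF ι hι hhyp
  rw [UT_smul hF hr0 hr ha0] at hl
  exact famIn_rankOne ⟨p, hp0, hp, rfl⟩ ⟨r, hr0, hr, rfl⟩ φ hinj hu hl

theorem UTFam_main {L : Type*} [Field L] (ι : L →+* F)
    (hι : ∀ x : F, x ∈ Set.range ι ↔ x ^ q = x) :
    IsRootSubgroupClass (famIn (UTFam F q n)) ∧ IsDegenerateRootSet (famIn (UTFam F q n)) ∧
      IsKRootSubgroupSet L (famIn (UTFam F q n)) ∧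
      IsConnectedFamily (FAdj (famIn (UTFam F q n))) (famIn (UTFam F q n)) := by
  have hne : ∀ A ∈ UTFam F q n, A ≠ ⊥ := by
    rintro _ ⟨p, hp0, hp, rfl⟩ e
    have hd : cvec F q n p ⬝ᵥ p = 0 := by rw [cvec_dot, hp]
    obtain ⟨d, hd0, hdd⟩ := H50.exists_trace_zero_ne_zero hF
    have hm := (mem_UT hF hp0 hp ⟨_, tm_mem_SU hF hp hdd⟩).2 ⟨d, hdd, rfl⟩
    rw [e, Subgroup.mem_bot] at hm
    refine hd0 ((tm_eq_one_iff hd hp0 (fun h0 => hp0 ?_)).1 (congrArg Subtype.val hm))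
    funext i
    exact (H50.pow_q_eq_zero hF).1 (congrFun h0 i)
  have hconj : ∀ A ∈ UTFam F q n, ∀ g, conjBy A g ∈ UTFam F q n := by
    rintro _ ⟨p, hp0, hp, rfl⟩ g
    exact ⟨_, mulVec_ne_zero' g.1 hp0, by rw [H50.SU_isIso g, hp], UT_conj hF hp0 hp g⟩
  have hcomm : ∀ A ∈ UTFam F q n, IsMulCommutative A := by
    rintro _ ⟨p, hp0, hp, rfl⟩
    refine ⟨⟨fun x y => ?_⟩⟩
    have h := Subgroup.commutator_eq_bot_iff_le_centralizer.1 (UT_commute hF hp0 hp hp0 hp hp)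
    exact Subtype.ext (Subgroup.mem_centralizer_iff.1 (h y.2) x x.2)
  have hpair : ∀ A ∈ famIn (UTFam F q n), ∀ B ∈ famIn (UTFam F q n), ⁅A, B⁆ = ⊥ ∨
      (IsRankOnePair A B ∧ IsPSL2PairOver L A B) := by
    rintro _ ⟨A, hA, rfl⟩ _ ⟨B, hB, rfl⟩
    exact (UT_cases hF ι hι hA hB).imp (famIn_commutator_eq_bot hA hB) id
  have hS : IsRootSubgroupSet (famIn (UTFam F q n)) :=
    { commutative := by rintro _ ⟨A, hA, rfl⟩; exact famIn_commutative (hcomm A hA)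
      ne_bot := by rintro _ ⟨A, hA, rfl⟩; exact famIn_ne_bot hA (hne A hA)
      generates := famIn_generates
      conj_mem := famIn_conj hconj
      pair := fun A hA B hB => (hpair A hA B hB).imp id fun h => Or.inl h.1 }
  have hdeg : IsDegenerateRootSet (famIn (UTFam F q n)) := by
    intro A hA B hB h
    rcases hpair A hA B hB with h' | h'
    · exact hS.ne_bot _ h.1 h'
    · exact ne_rankOne_of_rootCommutatorCase hS hA hB h h'.1
  have hadj : ∀ p r, p ≠ 0 → hermForm (n + 2) F q p p = 0 → r ≠ 0 →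
      hermForm (n + 2) F q r r = 0 → hermForm (n + 2) F q p r ≠ 0 →
      FAdj (famIn (UTFam F q n)) ((UT F q n p).subgroupOf (famSup (UTFam F q n)))
        ((UT F q n r).subgroupOf (famSup (UTFam F q n))) := by
    intro p r hp0 hp hr0 hr hpr
    obtain ⟨a, ha⟩ : ∃ a, a = (hermForm (n + 2) F q p r)⁻¹ ^ q := ⟨_, rfl⟩
    have ha0 : a ≠ 0 := ha ▸ pow_ne_zero q (inv_ne_zero hpr)
    have hhyp : H50.IsHyp q p (a • r) := by
      refine ⟨hp, by rw [H50.h_smul_left, H50.h_smul_right hF, hr, mul_zero, mul_zero], ?_⟩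
      rw [H50.h_smul_right hF, ha, H50.pow_q_pow_q hF, inv_mul_cancel₀ hpr]
    obtain ⟨φ, hinj, hu, hl⟩ := UT_hom hF ι hι hhyp
    rw [UT_smul hF hr0 hr ha0] at hl
    exact ⟨⟨_, ⟨p, hp0, hp, rfl⟩, rfl⟩, ⟨_, ⟨r, hr0, hr, rfl⟩, rfl⟩,
      (famIn_rankOne (S := UTFam F q n) ⟨p, hp0, hp, rfl⟩ ⟨r, hr0, hr, rfl⟩ φ hinj hu hl).1⟩
  have hconn : IsConnectedFamily (FAdj (famIn (UTFam F q n))) (famIn (UTFam F q n)) := by
    rintro _ ⟨_, ⟨p, hp0, hp, rfl⟩, rfl⟩ _ ⟨_, ⟨r, hr0, hr, rfl⟩, rfl⟩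
    by_cases hpr : hermForm (n + 2) F q p r = 0
    swap
    · exact Relation.ReflTransGen.single (hadj p r hp0 hp hr0 hr hpr)
    by_cases hli : LinearIndependent F ![p, r]
    · obtain ⟨w, hw⟩ := H50.exists_coords_eq hF hli (fun _ => (1 : F))
      have hwp : hermForm (n + 2) F q w p = 1 := hw 0
      have hwr : hermForm (n + 2) F q w r = 1 := hw 1
      obtain ⟨t, ht⟩ := H50.exists_trace_eq hF (c := -hermForm (n + 2) F q w w)
        (by rw [H50.neg_pow_q hF, H50.h_self_fixed hF])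
      have hpw : hermForm (n + 2) F q p w = 1 := by rw [H50.h_symm hF w p, hwp, one_pow]
      have hrw : hermForm (n + 2) F q r w = 1 := by rw [H50.h_symm hF w r, hwr, one_pow]
      have hrp : hermForm (n + 2) F q r p = 0 := (H50.h_eq_zero_comm hF).1 hpr
      obtain ⟨s, hs⟩ : ∃ s, s = w + t • p := ⟨_, rfl⟩
      have hps : hermForm (n + 2) F q p s = 1 := by
        rw [hs, H50.h_add_right hF, H50.h_smul_right hF, hpw, hp, mul_zero, add_zero]
      have hrs : hermForm (n + 2) F q r s = 1 := by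
        rw [hs, H50.h_add_right hF, H50.h_smul_right hF, hrw, hrp, mul_zero, add_zero]
      have hss : hermForm (n + 2) F q s s = 0 := by
        rw [hs, H50.h_add_left, H50.h_add_right hF, H50.h_add_right hF, H50.h_smul_left,
          H50.h_smul_left, H50.h_smul_right hF, H50.h_smul_right hF, hwp, hpw, hp]
        linear_combination ht
      have hs0 : s ≠ 0 := by
        rintro rfl; rw [H50.h_zero_right hF] at hps; exact zero_ne_one hps
      have hsr : hermForm (n + 2) F q s r ≠ 0 := by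
        rw [H50.h_symm hF r s, hrs, one_pow]; exact one_ne_zero
      exact (Relation.ReflTransGen.single
        (hadj p s hp0 hp hs0 hss (by rw [hps]; exact one_ne_zero))).tail
          (hadj s r hs0 hss hr0 hr hsr)
    · have : ∃ a : F, a • p = r := by
        by_contra hne'
        push Not at hne'
        exact hli (linearIndependent_fin2.2 ⟨hr0, fun a ha => by
          have ha' : (a⁻¹) • p = r := by
            have ha'' : a • r = p := ha
            have ha0 : a ≠ 0 := by rintro rfl; rw [zero_smul] at ha''; exact hp0 ha''.symm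
            rw [← ha'', smul_smul, inv_mul_cancel₀ ha0, one_smul]
          exact hne' _ ha'⟩)
      obtain ⟨a, rfl⟩ := this
      have ha : a ≠ 0 := by rintro rfl; rw [zero_smul] at hr0; exact hr0 rfl
      rw [UT_smul hF hp0 hp ha]
  have h2 : ∃ A ∈ famIn (UTFam F q n), ∃ B ∈ famIn (UTFam F q n), A ≠ B := by
    obtain ⟨e, f, hef⟩ := H50.exists_hyp hF (n := n + 2) (by omega)
    have hadj' := hadj e f (hef.fst_ne_zero hF) hef.1 ((hef.symm hF).fst_ne_zero hF) hef.2.1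
      (by rw [hef.2.2]; exact one_ne_zero)
    exact ⟨_, hadj'.1, _, hadj'.2.1, hadj'.2.2.ne⟩
  refine ⟨⟨hS, ((Cfsg.Agent.S5032.result hS h2).1 hconn).1⟩, hdeg, ⟨hS, fun A hA B hB hr => ?_⟩,
    hconn⟩
  rcases hpair A hA B hB with h | h
  · exact absurd h (commutator_ne_bot_of_rankOne hS hA hB hr)
  · exact h.2

end H98
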