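import Cfsg.Agent.H98.NondegClass

/-! Weak TI-subsets of non-degenerate classes of abstract root subgroups are abelian. -/

set_option autoImplicit false

namespace H98

open Cfsg
open scoped commutatorElement

variable {G : Type*} [Group G] {S : Set (Subgroup G)}

/-- The setwise stabiliser of a family of subgroups. -/
def familyStab (Δ : Set (Subgroup G)) : Subgroup G where
  carrier := {g | ∀ X, conjBy X g ∈ Δ ↔ X ∈ Δ}
  one_mem' X := by rw [conjBy_one]
  mul_mem' {a b} ha hb X := by rw [← conjBy_conjBy, ha, hb]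
  inv_mem' {a} ha X := by
    conv_rhs => rw [← conjBy_one X, ← mul_inv_cancel a, ← conjBy_conjBy]
    exact (ha _).symm

theorem le_familyStab {Δ : Set (Subgroup G)} (hΔ : IsWeakTISubset S Δ) {D A : Subgroup G}
    (hD : D ∈ S) (hA : A ∈ Δ) (hfix : ∀ d ∈ D, conjBy A d = A) : D ≤ familyStab Δ := by
  intro d hd
  by_cases hd1 : d = 1
  · subst hd1; exact one_mem _
  rcases hΔ.2.2.2 d ⟨hd1, D, hD, hd⟩ with h | h
  · intro X
    constructor
    · intro hX
      rw [← h] at hX
      obtain ⟨Y, hY, e⟩ := hX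
      rwa [← conjBy_inj.1 e]
    · intro hX
      rw [← h]
      exact ⟨X, hX, rfl⟩
  · exact absurd hA (Set.disjoint_left.1 h ⟨A, hA, hfix d hd⟩)

variable (hS : IsRootSubgroupSet S) (hF : ∀ A ∈ S, ¬ IsIsolatedIn (FAdj S) S A)

include hS hF

/-- If `⁅A, B⁆ = C` and `⁅C, W⁆ = A`, then `W` is a rank one partner of `B`. -/
theorem rankOne_of_opposite {A B W : Subgroup G} (hA : A ∈ S) (hB : B ∈ S) (hW : W ∈ S)
    (hAB : RootCommutatorCase S A B) (hCW : RootCommutatorCase S ⁅A, B⁆ W)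
    (hCWA : ⁅⁅A, B⁆, W⁆ = A) : IsRankOnePair W B := by
  obtain ⟨C, hC⟩ : ∃ C, C = ⁅A, B⁆ := ⟨_, rfl⟩
  rw [← hC] at hCW hCWA
  have cAW : ∀ a ∈ A, ∀ w ∈ W, Commute a w := fun a ha w hw =>
    hCW.2.1 a (hCWA.symm ▸ ha) w (Subgroup.mem_sup_right hw)
  have cAC : ∀ a ∈ A, ∀ c ∈ C, Commute a c := fun a ha c hc =>
    hCW.2.1 a (hCWA.symm ▸ ha) c (Subgroup.mem_sup_left hc)
  have cCB : ∀ c ∈ C, ∀ b ∈ B, Commute c b := fun c hc b hb =>
    hAB.2.1 c (hC ▸ hc) b (Subgroup.mem_sup_right hb)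
  rcases hS.pair W hW B hB with h | h | h
  · exfalso
    obtain ⟨a, ha, ha1⟩ := exists_mem_ne_one (hS.ne_bot A hA)
    refine ha1 (eq_one_of_centralizes hS hAB ha fun b hb => ?_)
    have hle : (⁅C, W⁆ : Subgroup G) ≤ Subgroup.centralizer {b} := by
      rw [Subgroup.commutator_le]
      intro c hc w hw
      have h1 : c ∈ Subgroup.centralizer {b} :=
        Subgroup.mem_centralizer_singleton_iff.2 (cCB c hc b hb).eq
      have h2 : w ∈ Subgroup.centralizer {b} :=
        Subgroup.mem_centralizer_singleton_iff.2 (commute_of_commutator_eq_bot h hw hb).eq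
      rw [commutatorElement_def]
      exact mul_mem (mul_mem (mul_mem h1 h2) (inv_mem h1)) (inv_mem h2)
    exact Subgroup.mem_centralizer_singleton_iff.1 (hle (hCWA.symm ▸ ha))
  · exact h
  exfalso
  obtain ⟨L, hL⟩ : ∃ L, L = ⁅W, B⁆ := ⟨_, rfl⟩
  have cLW : ∀ l ∈ L, ∀ w ∈ W, Commute l w := fun l hl w hw =>
    h.2.1 l (hL ▸ hl) w (Subgroup.mem_sup_left hw)
  -- `L` commutes with `A`
  have cLA : ∀ l ∈ L, ∀ a ∈ A, Commute l a := by
    intro l hl a ha
    obtain ⟨b, hb, hb1⟩ := exists_mem_ne_one (hS.ne_bot B hB)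
    obtain ⟨w, hw, hwl⟩ := exists_comm_eq (rootCommutatorCase_symm h) (B.inv_mem hb)
      (inv_ne_one.2 hb1) (z := l) (by rw [Subgroup.commutator_comm, ← hL]; exact hl)
    rw [inv_inv] at hwl
    have key : ∀ x ∈ (⁅C, W⁆ : Subgroup G), Commute (b⁻¹ * w * b) x := by
      intro x hx
      have hle : (⁅C, W⁆ : Subgroup G) ≤ Subgroup.centralizer {b⁻¹ * w * b} := by
        rw [Subgroup.commutator_le]
        intro c hc w' hw'
        obtain ⟨a', ha', hc'⟩ := exists_comm_eq (rootCommutatorCase_symm hAB) (B.inv_mem hb)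
          (inv_ne_one.2 hb1) (z := c) (by rw [Subgroup.commutator_comm, ← hC]; exact hc)
        rw [inv_inv] at hc'
        have h1 : Commute (b⁻¹ * w * b) (c * a') := by
          have e : c * a' = b⁻¹ * a' * b := by rw [← hc']; group
          rw [e]
          have := (Commute.conj_iff b⁻¹).2 (cAW a' ha' w hw).symm
          rwa [inv_inv] at this
        have h2 : Commute (b⁻¹ * w * b) w' := by
          rw [show b⁻¹ * w * b = l * w by rw [← hwl]; group]
          exact (cLW l hl w' hw').mul_left (commute_of_mem hS hW hw hw')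
        have e2 : ⁅c, w'⁆ = c * a' * w' * (c * a')⁻¹ * w'⁻¹ := by
          rw [commutatorElement_def, show c * a' * w' * (c * a')⁻¹ * w'⁻¹ =
            c * (a' * w' * a'⁻¹) * c⁻¹ * w'⁻¹ by group, (cAW a' ha' w' hw').eq,
            mul_inv_cancel_right]
        rw [e2, Subgroup.mem_centralizer_singleton_iff]
        exact (((h1.mul_right h2).mul_right h1.inv_right).mul_right h2.inv_right).symm.eq
      exact (Subgroup.mem_centralizer_singleton_iff.1 (hle hx)).symm
    have h3 := (key a (hCWA.symm ▸ ha)).mul_left (cAW a ha w hw).symm.inv_left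
    rwa [show b⁻¹ * w * b = l * w by rw [← hwl]; group, mul_inv_cancel_right] at h3
  obtain ⟨a, ha, ha1⟩ := exists_mem_ne_one (hS.ne_bot A hA)
  obtain ⟨c, hc, hc1⟩ := exists_mem_ne_one (hS.ne_bot C (hC ▸ hAB.1))
  obtain ⟨w, hw, hwc⟩ := exists_conj_eq_mul hCW hc hc1 (z := a) (hCWA.symm ▸ ha)
  -- `⁅A, B ^ w⁆` lies in `C`
  have hwA : conjBy A w = A := conjBy_eq_of_commute fun x hx => (cAW x hx w hw).symm
  have hle : (⁅A, conjBy B w⁆ : Subgroup G) ≤ C := by
    rw [Subgroup.commutator_le]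
    intro x hx y hy
    rw [mem_conjBy] at hy
    obtain ⟨l, hl, hly⟩ : ∃ l ∈ L, y = (w⁻¹ * y * w) * l :=
      ⟨(w⁻¹ * y * w)⁻¹ * w * (w⁻¹ * y * w) * w⁻¹, by
        rw [hL, Subgroup.commutator_comm]
        have := Subgroup.commutator_mem_commutator (H₁ := B) (H₂ := W) (B.inv_mem hy) hw
        simpa [commutatorElement_def] using this, by group⟩
    have e : ⁅x, y⁆ = ⁅x, w⁻¹ * y * w⁆ := by
      rw [commutatorElement_def, commutatorElement_def]
      generalize w⁻¹ * y * w = b at hly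
      rw [hly, show x * (b * l) * x⁻¹ * (b * l)⁻¹ = x * b * x⁻¹ * (x * l * x⁻¹) * l⁻¹ * b⁻¹ by
        group, (cLA l hl x hx).symm.eq, mul_inv_cancel_right, mul_inv_cancel_right]
    rw [e, hC]
    exact Subgroup.commutator_mem_commutator hx hy
  have hmem : w * c * w⁻¹ ∈ C := by
    have h1 : conjBy C w ≤ C := by
      calc conjBy C w = ⁅conjBy A w, conjBy B w⁆ := by
            rw [hC, conjBy, conjBy, conjBy, Subgroup.map_commutator]
        _ ≤ C := by rw [hwA]; exact hle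
    exact h1 (conj_mem_conjBy w hc)
  rw [hwc] at hmem
  have haC : a ∈ C := by
    have := C.mul_mem (C.inv_mem hc) hmem
    rwa [inv_mul_cancel_left] at this
  exact ha1 (eq_one_of_centralizes hS hAB ha fun b hb => cCB a haC b hb)

theorem weakTI_abelian (hconj : IsConjClassOfSubgroups S)
    (hline : ∀ A ∈ S, ∃ C, C ∈ linePartners S A) {Δ : Set (Subgroup G)}
    (hΔ : IsWeakTISubset S Δ) : IsAbelianFamily Δ := by
  have norank : ∀ A ∈ Δ, ∀ B ∈ Δ, ¬ IsRankOnePair A B := by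
    intro A hA B hB hr
    have htop : familyStab Δ = ⊤ := by
      rw [eq_top_iff, ← linePartners_generate hS hF hline hconj (hΔ.1 hA) (hΔ.1 hB) hr]
      refine sup_le (iSup₂_le fun C hC => ?_) ?_
      · exact le_familyStab hΔ hC.1.1 hA fun c hc => conjBy_eq_of_commute fun x hx =>
          (commute_of_commutator_eq_bot hC.1.2.2 hx hc).symm
      · exact le_familyStab hΔ (hΔ.1 hB) hB fun b hb => conjBy_self hb
    refine hΔ.2.2.1 (Set.Subset.antisymm hΔ.1 fun X hX => ?_)
    obtain ⟨g, rfl⟩ := hconj.2 A (hΔ.1 hA) X hX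
    exact ((htop ▸ Subgroup.mem_top g : g ∈ familyStab Δ) A).2 hA
  intro A hA B hB a ha b hb
  rcases hS.pair A (hΔ.1 hA) B (hΔ.1 hB) with h | h | h
  · exact (commute_of_commutator_eq_bot h ha hb).eq
  · exact absurd h (norank A hA B hB)
  exfalso
  have hCA := (linePartner_of_commutatorCase hS hF (hΔ.1 hA) (hΔ.1 hB) h).1
  obtain ⟨W, hW, hCW, hCWA⟩ := exists_commutatorCase_line hS hF h.1 hCA
  have hWB := rankOne_of_opposite hS hF (hΔ.1 hA) (hΔ.1 hB) hW h hCW hCWA
  have hWstab : W ≤ familyStab Δ := le_familyStab hΔ hW hA fun w hw => conjBy_eq_of_commute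
    fun x hx => (hCW.2.1 x (hCWA.symm ▸ hx) w (Subgroup.mem_sup_right hw)).symm
  obtain ⟨w, hw, hw1⟩ := exists_mem_ne_one (hS.ne_bot W hW)
  refine norank B hB (conjBy B w) ((hWstab hw B).2 hB) ?_
  obtain ⟨x, hx, hx1, hx2⟩ := exists_map_to_pair hWB (right_mem_unipotent hWB)
    (conjBy_mem_unipotent hWB (right_mem_unipotent hWB) (Subgroup.mem_sup_left hw))
    fun e => hw1 (eq_one_of_conjBy_right_eq hWB hw e.symm)
  have h2 := isRankOnePair_conj hWB x⁻¹
  rwa [← conjBy_eq_iff.1 hx1, ← conjBy_eq_iff.1 hx2] at h2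

end H98
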